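import Mathlib.RingTheory.AlgebraicIndependent.Basic
import Mathlib.RingTheory.AlgebraicIndependent.TranscendenceBasis
import Mathlib.RingTheory.TensorProduct.MvPolynomial
import Mathlib.RingTheory.Flat.Basic
import Mathlib.RingTheory.Localization.FractionRing
import Mathlib.RingTheory.Ideal.GoingUp
import Mathlib.RingTheory.IntegralClosure.IsIntegralClosure.Basic
import Mathlib.FieldTheory.IntermediateField.Adjoin.Basic
import Mathlib.FieldTheory.IntermediateField.Adjoin.Algebra

/-!
# A tensor product of fields has no embedded associated primes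
-/

set_option autoImplicit false
set_option linter.style.haveILetI false
universe u

open TensorProduct
open scoped IntermediateField.algebraAdjoinAdjoin

namespace Groth.Agent.AssSch12

variable (k : Type u) [Field k] (K : Type u) [Field K] [Algebra k K]

theorem isDomain_fractionRing_tensor (P L₀ : Type u) [CommRing P] [IsDomain P] [Algebra k P]
    [Field L₀] [Algebra k L₀] [Algebra P L₀] [IsScalarTower k P L₀] [IsFractionRing P L₀]
    [IsDomain (P ⊗[k] K)] : IsDomain (L₀ ⊗[k] K) := by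
  let φ : P ⊗[k] K →ₐ[k] L₀ ⊗[k] K :=
    Algebra.TensorProduct.map (IsScalarTower.toAlgHom k P L₀) (AlgHom.id k K)
  have hφ : Function.Injective φ :=
    Module.Flat.rTensor_preserves_injective_linearMap (M := K)
      (IsScalarTower.toAlgHom k P L₀).toLinearMap (IsFractionRing.injective P L₀)
  have hclear : ∀ z : L₀ ⊗[k] K, ∃ (d : P) (_ : d ≠ 0) (w : P ⊗[k] K),
      φ w = φ (d ⊗ₜ 1) * z := by
    intro z
    induction z with
    | zero => exact ⟨1, one_ne_zero, 0, by simp⟩
    | tmul l c =>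
      obtain ⟨x, d, hd, rfl⟩ := IsFractionRing.div_surjective P l
      refine ⟨d, nonZeroDivisors.ne_zero hd, x ⊗ₜ c, ?_⟩
      simp only [φ, Algebra.TensorProduct.map_tmul, IsScalarTower.coe_toAlgHom', AlgHom.id_apply,
        Algebra.TensorProduct.tmul_mul_tmul, map_one, one_mul]
      congr 1
      rw [mul_div_cancel₀]
      exact (map_ne_zero_iff _ (IsFractionRing.injective P L₀)).2 (nonZeroDivisors.ne_zero hd)
    | add u v hu hv =>
      obtain ⟨d, hd, w, hw⟩ := hu
      obtain ⟨e, he, t, ht⟩ := hv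
      refine ⟨d * e, mul_ne_zero hd he, (e ⊗ₜ 1) * w + (d ⊗ₜ 1) * t, ?_⟩
      rw [map_add, map_mul φ, map_mul φ, hw, ht,
        show ((d * e) ⊗ₜ[k] (1 : K)) = (d ⊗ₜ 1) * (e ⊗ₜ 1) by simp, map_mul φ]
      ring
  have hunit : ∀ d : P, d ≠ 0 → IsUnit (φ (d ⊗ₜ 1)) := fun d hd => by
    have : IsUnit (algebraMap P L₀ d) :=
      isUnit_iff_ne_zero.2 ((map_ne_zero_iff _ (IsFractionRing.injective P L₀)).2 hd)
    have h2 := this.map (Algebra.TensorProduct.includeLeft : L₀ →ₐ[k] L₀ ⊗[k] K)
    simpa [φ] using h2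
  haveI : NoZeroDivisors (L₀ ⊗[k] K) := ⟨fun {a b} hab => by
    obtain ⟨d, hd, w, hw⟩ := hclear a
    obtain ⟨e, he, t, ht⟩ := hclear b
    have : φ (w * t) = 0 := by
      rw [map_mul, hw, ht]
      calc _ = φ (d ⊗ₜ 1) * φ (e ⊗ₜ 1) * (a * b) := by ring
        _ = 0 := by rw [hab, mul_zero]
    rcases mul_eq_zero.1 (hφ (this.trans (map_zero φ).symm)) with h | h
    · rw [h, map_zero] at hw
      exact Or.inl ((hunit d hd).mul_right_eq_zero.1 hw.symm)
    · rw [h, map_zero] at ht
      exact Or.inr ((hunit e he).mul_right_eq_zero.1 ht.symm)⟩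
  haveI : Nontrivial (L₀ ⊗[k] K) := hφ.nontrivial
  exact NoZeroDivisors.to_isDomain _

theorem eq_zero_of_map_mul (L₀ L : Type u) [Field L₀] [Field L] [Algebra k L₀] [Algebra k L]
    [Algebra L₀ L] [IsScalarTower k L₀ L] [IsDomain (L₀ ⊗[k] K)] {d : L₀ ⊗[k] K} (hd : d ≠ 0)
    {w : L ⊗[k] K}
    (hw : (Algebra.TensorProduct.map (IsScalarTower.toAlgHom k L₀ L) (AlgHom.id k K)) d * w = 0) :
    w = 0 := by
  let e := AlgebraTensorModule.cancelBaseChange k L₀ L₀ L K
  have h1 : Function.Injective ((LinearMap.mulLeft L₀ d).lTensor L) :=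
    Module.Flat.lTensor_preserves_injective_linearMap (M := L) _ (mul_right_injective₀ hd)
  have h2 : ∀ z, e ((LinearMap.mulLeft L₀ d).lTensor L z) = (Algebra.TensorProduct.map (IsScalarTower.toAlgHom k L₀ L) (AlgHom.id k K)) d * e z := by
    intro z
    induction z with
    | zero => simp
    | add u v hu hv => simp only [map_add, mul_add, hu, hv]
    | tmul l c =>
      induction c with
      | zero => simp
      | add u v hu hv => simp only [tmul_add, map_add, mul_add, hu, hv]
      | tmul m x =>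
        induction d with
        | zero => simp
        | add u v hu hv =>
          simp only [LinearMap.lTensor_tmul, LinearMap.mulLeft_apply, add_mul, tmul_add, map_add]
            at hu hv ⊢
          have aux : ∀ d' : L₀ ⊗[k] K, e (l ⊗ₜ (d' * (m ⊗ₜ x))) = (Algebra.TensorProduct.map (IsScalarTower.toAlgHom k L₀ L) (AlgHom.id k K)) d' * e (l ⊗ₜ (m ⊗ₜ x)) := by
            intro d'
            induction d' with
            | zero => simp
            | add p q hp hq => simp only [add_mul, tmul_add, map_add, hp, hq]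
            | tmul p y => simp [e, Algebra.smul_def]; congr 1; ring
          rw [aux, aux]
        | tmul p y => simp [e, Algebra.smul_def]; congr 1; ring
  obtain ⟨z, rfl⟩ := e.surjective w
  rw [← h2] at hw
  rw [h1 ((e.injective (hw.trans (map_zero e).symm)).trans (map_zero _).symm), map_zero]

theorem eq_of_le_of_weakAss (L : Type u) [Field L] [Algebra k L] (q₁ q₂ : Ideal (L ⊗[k] K))
    [q₁.IsPrime] [q₂.IsPrime] (h : q₁ ≤ q₂) (a : L ⊗[k] K) (ha : ∀ u ∉ q₂, u * a ≠ 0)
    (hk : ∀ r ∈ q₂, ∃ u ∉ q₂, u * r * a = 0) : q₁ = q₂ := by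
  obtain ⟨s, hs⟩ := exists_isTranscendenceBasis k L
  let L₀ := IntermediateField.adjoin k (Set.range ((↑) : s → L))
  haveI : Algebra.IsAlgebraic L₀ L := hs.isAlgebraic_field
  haveI : IsDomain (L₀ ⊗[k] K) := by
    let P := Algebra.adjoin k (Set.range ((↑) : s → L))
    let e : MvPolynomial s k ≃ₐ[k] P := hs.1.aevalEquiv
    haveI : IsDomain (P ⊗[k] K) := MulEquiv.isDomain (MvPolynomial s K)
      (((Algebra.TensorProduct.congr e (AlgEquiv.refl (R := k) (A₁ := K))).symm.trans
        (Algebra.TensorProduct.comm k (MvPolynomial s k) K)).toRingEquiv.trans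
        (MvPolynomial.algebraTensorAlgEquiv (σ := s) k K).toRingEquiv).toMulEquiv
    exact isDomain_fractionRing_tensor k K P L₀
  let φ : L₀ ⊗[k] K →ₐ[k] L ⊗[k] K :=
    Algebra.TensorProduct.map (IsScalarTower.toAlgHom k L₀ L) (AlgHom.id k K)
  have hreg : ∀ d : L₀ ⊗[k] K, d ≠ 0 → ∀ w, φ d * w = 0 → w = 0 :=
    fun d hd w hw => eq_zero_of_map_mul k K L₀ L hd hw
  letI : Algebra (L₀ ⊗[k] K) (L ⊗[k] K) := φ.toRingHom.toAlgebra
  haveI : Algebra.IsIntegral (L₀ ⊗[k] K) (L ⊗[k] K) := ⟨fun t => by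
    induction t with
    | zero => exact isIntegral_zero
    | add x y hx hy => exact hx.add hy
    | tmul l c =>
      rw [show l ⊗ₜ[k] c = (l ⊗ₜ 1 : L ⊗[k] K) * φ (1 ⊗ₜ c) by simp [φ]]
      refine IsIntegral.mul ?_ isIntegral_algebraMap
      obtain ⟨p, hp, he⟩ := Algebra.IsIntegral.isIntegral (R := L₀) l
      refine ⟨p.map (Algebra.TensorProduct.includeLeftRingHom : L₀ →+* L₀ ⊗[k] K), hp.map _, ?_⟩
      rw [Polynomial.eval₂_map]
      have e : φ.toRingHom.comp (Algebra.TensorProduct.includeLeftRingHom : L₀ →+* L₀ ⊗[k] K) =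
          (Algebra.TensorProduct.includeLeftRingHom : L →+* L ⊗[k] K).comp (algebraMap L₀ L) := by
        ext x; simp [φ]
      rw [show algebraMap (L₀ ⊗[k] K) (L ⊗[k] K) = φ.toRingHom from rfl, e,
        show l ⊗ₜ[k] (1 : K) = (Algebra.TensorProduct.includeLeftRingHom : L →+* L ⊗[k] K) l from rfl,
        ← Polynomial.hom_eval₂, he, map_zero]⟩
  have hc : Ideal.comap (φ.toRingHom : L₀ ⊗[k] K →+* L ⊗[k] K) q₂ = ⊥ := by
    rw [eq_bot_iff]
    intro r hr
    by_contra hr0
    obtain ⟨u, hu, hu0⟩ := hk _ hr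
    exact ha u hu (hreg r hr0 _ (by rw [← hu0, show φ.toRingHom r = φ r from rfl]; ring))
  by_contra hne
  have hlt := Ideal.IsIntegral.comap_lt_comap (R := L₀ ⊗[k] K) (lt_of_le_of_ne h hne)
  rw [show Ideal.comap (algebraMap (L₀ ⊗[k] K) (L ⊗[k] K)) q₂ = ⊥ from hc] at hlt
  exact not_lt_bot hlt

end Groth.Agent.AssSch12
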