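import Mathlib.RingTheory.Length
import Mathlib.RingTheory.Nakayama
import Mathlib.RingTheory.Filtration
import Mathlib.RingTheory.Ideal.AssociatedPrime.Basic
import Mathlib.RingTheory.LocalRing.MaximalIdeal.Basic
import Mathlib.RingTheory.Localization.AtPrime.Basic
import Mathlib.Algebra.Module.LocalizedModule.Exact
import Mathlib.RingTheory.Localization.Submodule
import Mathlib.RingTheory.Localization.Finiteness

set_option autoImplicit false
universe u v

namespace Groth.Agent.AssSch12

variable {R : Type u} [CommRing R] {M : Type v} [AddCommGroup M] [Module R M]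

/-- The quotient by `t` of length one: every nonzero element is `t ^ n` times a unit times a
fixed generator. -/
theorem exists_gen_of_length_quotient_eq_one [IsLocalRing R] [IsNoetherianRing R] [Module.Finite R M]
    {t : R} (ht : t ∈ IsLocalRing.maximalIdeal R)
    (hlen : Module.length R (M ⧸ (Ideal.span {t} • (⊤ : Submodule R M))) = 1) :
    ∃ e : M, ∀ z : M, z ≠ 0 → ∃ (n : ℕ) (u : Rˣ), z = (t ^ n * u) • e := by
  set N := Ideal.span {t} • (⊤ : Submodule R M) with hN
  have hmem : ∀ {z : M}, z ∈ N ↔ ∃ y : M, z = t • y := by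
    intro z
    rw [hN, Submodule.ideal_span_singleton_smul, Submodule.mem_smul_pointwise_iff_exists]
    exact ⟨fun ⟨y, _, hy⟩ => ⟨y, hy.symm⟩, fun ⟨y, hy⟩ => ⟨y, trivial, hy.symm⟩⟩
  haveI : IsSimpleModule R (M ⧸ N) := Module.length_eq_one_iff.1 hlen
  haveI : Nontrivial (M ⧸ N) := IsSimpleModule.nontrivial R _
  obtain ⟨ebar, he⟩ := exists_ne (0 : M ⧸ N)
  obtain ⟨e, rfl⟩ := N.mkQ_surjective ebar
  have hspan : Submodule.span R {e} = ⊤ := by
    refine top_le_iff.1 (Submodule.le_of_le_smul_of_le_jacobson_bot (I := Ideal.span {t})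
      Module.Finite.fg_top ?_ fun z _ => ?_)
    · rw [Ideal.span_le, Set.singleton_subset_iff]
      exact IsLocalRing.maximalIdeal_le_jacobson _ ht
    · obtain ⟨a, ha⟩ := IsSimpleModule.toSpanSingleton_surjective R he (N.mkQ z)
      have : z - a • e ∈ N := by
        rw [← Submodule.Quotient.mk_eq_zero, Submodule.Quotient.mk_sub, Submodule.Quotient.mk_smul]
        exact sub_eq_zero.2 ha.symm
      have h := Submodule.add_mem_sup (Submodule.mem_span_singleton.2 ⟨a, rfl⟩ :
        a • e ∈ Submodule.span R {e}) this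
      simpa [hN] using h
  have hnu : ∀ a : R, ¬ IsUnit a → a • e ∈ N := by
    intro a ha
    by_contra hae
    have hne : (N.mkQ (a • e)) ≠ 0 := fun h => hae ((Submodule.Quotient.mk_eq_zero _).1 h)
    obtain ⟨b, hb⟩ := IsSimpleModule.toSpanSingleton_surjective R hne (N.mkQ e)
    have h0 : (1 - b * a) • N.mkQ e = 0 := by
      rw [sub_smul, one_smul, mul_smul, ← map_smul]
      exact sub_eq_zero.2 hb.symm
    obtain ⟨w, hw⟩ : IsUnit (1 - b * a) :=
      (IsLocalRing.isUnit_or_isUnit_of_isUnit_add (a := 1 - b * a) (b := b * a) (by simp)).resolve_right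
        (fun h => ha (isUnit_of_mul_isUnit_right h))
    exact he (by simpa [← hw] using congrArg (fun v => (↑w⁻¹ : R) • v) h0)
  refine ⟨e, fun z hz0 => ?_⟩
  -- Krull intersection
  have hK := Ideal.iInf_pow_smul_eq_bot_of_isLocalRing (M := M) (Ideal.span {t})
    (by rw [Ne, Ideal.span_singleton_eq_top]; exact ht)
  obtain ⟨n, y, hy, hyN⟩ : ∃ (n : ℕ) (y : M), z = t ^ n • y ∧ y ∉ N := by
    by_contra H
    have : ∀ n : ℕ, ∃ y : M, z = t ^ n • y := by
      intro n
      induction n with
      | zero => exact ⟨z, by simp⟩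
      | succ n ih =>
        obtain ⟨y, hy⟩ := ih
        have : y ∈ N := by by_contra h; exact H ⟨n, y, hy, h⟩
        obtain ⟨y', rfl⟩ := hmem.1 this
        exact ⟨y', by rw [hy, pow_succ, mul_smul]⟩
    refine hz0 ((Submodule.mem_bot R).1 (hK ▸ ?_))
    rw [Submodule.mem_iInf]
    intro n
    obtain ⟨y, rfl⟩ := this n
    exact Submodule.smul_mem_smul (Ideal.pow_mem_pow (Ideal.mem_span_singleton_self t) n) trivial
  obtain ⟨a, rfl⟩ := Submodule.mem_span_singleton.1 (hspan.ge (Submodule.mem_top (x := y)))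
  obtain ⟨a, rfl⟩ : IsUnit a := by by_contra h; exact hyN (hnu a h)
  exact ⟨n, a, by rw [hy, mul_smul]⟩

/-- A finite module over a Noetherian local ring whose quotient by `t` has length one:
either `t` is regular on it or a power of `t` kills it. -/
theorem isSMulRegular_or_pow_smul_eq_zero [IsLocalRing R] [IsNoetherianRing R] [Module.Finite R M]
    {t : R} (ht : t ∈ IsLocalRing.maximalIdeal R)
    (hlen : Module.length R (M ⧸ (Ideal.span {t} • (⊤ : Submodule R M))) = 1) :
    IsSMulRegular M t ∨ ∃ k : ℕ, ∀ x : M, t ^ k • x = 0 := by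
  set N := Ideal.span {t} • (⊤ : Submodule R M) with hN
  have hmem : ∀ {z : M}, z ∈ N ↔ ∃ y : M, z = t • y := by
    intro z
    rw [hN, Submodule.ideal_span_singleton_smul, Submodule.mem_smul_pointwise_iff_exists]
    exact ⟨fun ⟨y, _, hy⟩ => ⟨y, hy.symm⟩, fun ⟨y, hy⟩ => ⟨y, trivial, hy.symm⟩⟩
  haveI : IsSimpleModule R (M ⧸ N) := Module.length_eq_one_iff.1 hlen
  haveI : Nontrivial (M ⧸ N) := IsSimpleModule.nontrivial R _
  obtain ⟨ebar, he⟩ := exists_ne (0 : M ⧸ N)
  obtain ⟨e, rfl⟩ := N.mkQ_surjective ebar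
  have hspan : Submodule.span R {e} = ⊤ := by
    refine top_le_iff.1 (Submodule.le_of_le_smul_of_le_jacobson_bot (I := Ideal.span {t})
      Module.Finite.fg_top ?_ fun z _ => ?_)
    · rw [Ideal.span_le, Set.singleton_subset_iff]
      exact IsLocalRing.maximalIdeal_le_jacobson _ ht
    · obtain ⟨a, ha⟩ := IsSimpleModule.toSpanSingleton_surjective R he (N.mkQ z)
      have : z - a • e ∈ N := by
        rw [← Submodule.Quotient.mk_eq_zero, Submodule.Quotient.mk_sub, Submodule.Quotient.mk_smul]
        exact sub_eq_zero.2 ha.symm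
      have h := Submodule.add_mem_sup (Submodule.mem_span_singleton.2 ⟨a, rfl⟩ :
        a • e ∈ Submodule.span R {e}) this
      simpa [hN] using h
  have hnu : ∀ a : R, ¬ IsUnit a → a • e ∈ N := by
    intro a ha
    by_contra hae
    have hne : (N.mkQ (a • e)) ≠ 0 := fun h => hae ((Submodule.Quotient.mk_eq_zero _).1 h)
    obtain ⟨b, hb⟩ := IsSimpleModule.toSpanSingleton_surjective R hne (N.mkQ e)
    have h0 : (1 - b * a) • N.mkQ e = 0 := by
      rw [sub_smul, one_smul, mul_smul, ← map_smul]
      exact sub_eq_zero.2 hb.symm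
    obtain ⟨w, hw⟩ : IsUnit (1 - b * a) :=
      (IsLocalRing.isUnit_or_isUnit_of_isUnit_add (a := 1 - b * a) (b := b * a) (by simp)).resolve_right
        (fun h => ha (isUnit_of_mul_isUnit_right h))
    exact he (by simpa [← hw] using congrArg (fun v => (↑w⁻¹ : R) • v) h0)
  by_cases hreg : IsSMulRegular M t
  · exact Or.inl hreg
  right
  obtain ⟨z, hz, hz0⟩ : ∃ z : M, t • z = 0 ∧ z ≠ 0 := by
    by_contra H
    exact hreg (IsSMulRegular.of_right_eq_zero_of_smul fun z hz => by
      by_contra h; exact H ⟨z, hz, h⟩)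
  -- Krull intersection
  have hK := Ideal.iInf_pow_smul_eq_bot_of_isLocalRing (M := M) (Ideal.span {t})
    (by rw [Ne, Ideal.span_singleton_eq_top]; exact ht)
  obtain ⟨n, y, hy, hyN⟩ : ∃ (n : ℕ) (y : M), z = t ^ n • y ∧ y ∉ N := by
    by_contra H
    have : ∀ n : ℕ, ∃ y : M, z = t ^ n • y := by
      intro n
      induction n with
      | zero => exact ⟨z, by simp⟩
      | succ n ih =>
        obtain ⟨y, hy⟩ := ih
        have : y ∈ N := by by_contra h; exact H ⟨n, y, hy, h⟩
        obtain ⟨y', rfl⟩ := hmem.1 this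
        exact ⟨y', by rw [hy, pow_succ, mul_smul]⟩
    refine hz0 ((Submodule.mem_bot R).1 (hK ▸ ?_))
    rw [Submodule.mem_iInf]
    intro n
    obtain ⟨y, rfl⟩ := this n
    exact Submodule.smul_mem_smul (Ideal.pow_mem_pow (Ideal.mem_span_singleton_self t) n) trivial
  obtain ⟨a, rfl⟩ := Submodule.mem_span_singleton.1 (hspan.ge (Submodule.mem_top (x := y)))
  obtain ⟨a, rfl⟩ : IsUnit a := by by_contra h; exact hyN (hnu a h)
  refine ⟨n + 1, fun x => ?_⟩
  obtain ⟨c, rfl⟩ := Submodule.mem_span_singleton.1 (hspan.ge (Submodule.mem_top (x := x)))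
  have h1 : (↑a : R) • t ^ (n + 1) • e = 0 := by
    rw [smul_comm, pow_succ', mul_smul, ← hy, hz]
  rw [smul_comm, (IsUnit.smul_eq_zero a.isUnit).1 h1, smul_zero]

section

variable [IsNoetherianRing R]

/-- Elements vanishing in all localizations at associated primes are zero. -/
theorem eq_zero_of_forall_associatedPrimes (x : M)
    (h : ∀ p ∈ associatedPrimes R M, ∃ s ∉ p, s • x = 0) : x = 0 := by
  by_contra hx
  obtain ⟨P, hP, hle⟩ := exists_le_isAssociatedPrime_of_isNoetherianRing R x hx
  obtain ⟨s, hs, hsx⟩ := h P hP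
  exact hs (hle (by simpa [Submodule.mem_colon_singleton] using hsx))

/-- `t` is regular on `M` if `M / tM` has length one at each of its associated primes and
`t` avoids the minimal primes of the annihilator. -/
theorem isSMulRegular_of_length_one [Module.Finite R M] (t : R)
    (ht : ∀ p ∈ (Module.annihilator R M).minimalPrimes, t ∉ p)
    (h₂ : ∀ p : associatedPrimes R (M ⧸ (Ideal.span {t} • (⊤ : Submodule R M))),
      haveI : p.1.IsPrime := IsAssociatedPrime.isPrime p.2
      Module.length (Localization.AtPrime p.1)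
        (LocalizedModule p.1.primeCompl (M ⧸ (Ideal.span {t} • (⊤ : Submodule R M)))) = 1) :
    IsSMulRegular M t := by
  set N := Ideal.span {t} • (⊤ : Submodule R M) with hN
  have hmem : ∀ {z : M}, z ∈ N ↔ ∃ y : M, z = t • y := by
    intro z
    rw [hN, Submodule.ideal_span_singleton_smul, Submodule.mem_smul_pointwise_iff_exists]
    exact ⟨fun ⟨y, _, hy⟩ => ⟨y, hy.symm⟩, fun ⟨y, hy⟩ => ⟨y, trivial, hy.symm⟩⟩
  have key : ∀ p ∈ associatedPrimes R (M ⧸ N), ∀ x : M, (∃ s ∉ p, s • (t • x) = 0) →
      ∃ s ∉ p, s • x = 0 := by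
    intro p hp x hx
    haveI := IsAssociatedPrime.isPrime hp
    obtain ⟨s, hs, hsx⟩ := hx
    have htp : t ∈ p := by
      refine (IsAssociatedPrime.annihilator_le hp) ?_
      rw [Submodule.mem_annihilator]
      intro z _
      obtain ⟨z, rfl⟩ := N.mkQ_surjective z
      exact (Submodule.Quotient.mk_eq_zero N).2 (hmem.2 ⟨z, rfl⟩)
    let S := p.primeCompl
    let f₀ := LocalizedModule.mkLinearMap S M
    let f₁ := LocalizedModule.mkLinearMap S (M ⧸ N)
    let g : LocalizedModule S M →ₗ[Localization S] LocalizedModule S (M ⧸ N) :=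
      LocalizedModule.map S N.mkQ
    have hgs : Function.Surjective g := LocalizedModule.map_surjective S _ N.mkQ_surjective
    have hex : Function.Exact (LocalizedModule.map S (t • (LinearMap.id : M →ₗ[R] M))) g :=
      LocalizedModule.map_exact S _ _ fun z => by
        rw [Submodule.mkQ_apply, Submodule.Quotient.mk_eq_zero, hmem]
        exact ⟨fun ⟨y, hy⟩ => ⟨y, hy.symm⟩, fun ⟨y, hy⟩ => ⟨y, hy.symm⟩⟩
    set t' : Localization S := algebraMap R (Localization S) t with ht'
    have hmap : ∀ z, LocalizedModule.map S (t • (LinearMap.id : M →ₗ[R] M)) z = t' • z := by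
      intro z
      induction z using LocalizedModule.induction_on with
      | _ m s =>
        rw [LocalizedModule.map_mk, ht', algebraMap_smul, LocalizedModule.smul'_mk]
        rfl
    have hker : LinearMap.ker g = Ideal.span {t'} • (⊤ : Submodule (Localization S) _) := by
      ext z
      rw [LinearMap.mem_ker, hex z, Submodule.ideal_span_singleton_smul,
        Submodule.mem_smul_pointwise_iff_exists]
      exact ⟨fun ⟨y, hy⟩ => ⟨y, trivial, by rw [← hmap, hy]⟩,
        fun ⟨y, _, hy⟩ => ⟨y, by rw [hmap, hy]⟩⟩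
    have hlen : Module.length (Localization S)
        (LocalizedModule S M ⧸ (Ideal.span {t'} • (⊤ : Submodule (Localization S) (LocalizedModule S M)))) = 1 := by
      rw [← hker, (g.quotKerEquivOfSurjective hgs).length_eq]
      exact h₂ ⟨p, hp⟩
    haveI : IsNoetherianRing (Localization.AtPrime p) := IsLocalization.isNoetherianRing p.primeCompl _ inferInstance
    haveI : Module.Finite (Localization.AtPrime p) (LocalizedModule S M) :=
      Module.Finite.of_isLocalizedModule S f₀
    rcases isSMulRegular_or_pow_smul_eq_zero (R := Localization.AtPrime p) (t := t')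
        ((IsLocalization.AtPrime.to_map_mem_maximal_iff _ p t).2 htp) hlen with hreg | ⟨k, hk⟩
    · have h0 : t' • LocalizedModule.mk x (1 : S) = 0 := by
        rw [ht', algebraMap_smul, LocalizedModule.smul'_mk]
        exact IsLocalizedModule.eq_zero_iff S f₀ |>.2 ⟨⟨s, hs⟩, hsx⟩
      obtain ⟨⟨s', hs'⟩, h'⟩ := (IsLocalizedModule.eq_zero_iff S f₀).1 (hreg.right_eq_zero_of_smul h0)
      exact ⟨s', hs', h'⟩
    · exfalso
      obtain ⟨G, hG⟩ := Module.Finite.fg_top (R := R) (M := M)
      have : ∀ z ∈ G, ∃ s ∈ S, s • t ^ k • z = 0 := by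
        intro z _
        have := hk (LocalizedModule.mk z 1)
        rw [ht', ← map_pow, algebraMap_smul, LocalizedModule.smul'_mk] at this
        obtain ⟨⟨s', hs'⟩, h'⟩ := (IsLocalizedModule.eq_zero_iff S f₀).1 this
        exact ⟨s', hs', h'⟩
      choose σ hσ hσz using this
      classical
      let s₀ := ∏ z ∈ G.attach, σ z.1 z.2
      have hs₀ : s₀ ∈ S := Submonoid.prod_mem _ fun z _ => hσ z.1 z.2
      have hann : s₀ * t ^ k ∈ Module.annihilator R M := by
        have hle : Submodule.span R (G : Set M) ≤ LinearMap.ker ((s₀ * t ^ k) • LinearMap.id (R := R) (M := M)) := by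
          rw [Submodule.span_le]
          intro z hz
          obtain ⟨c, hc⟩ := Finset.dvd_prod_of_mem (fun z : {z // z ∈ G} => σ z.1 z.2)
            (Finset.mem_attach G ⟨z, hz⟩)
          simp only [SetLike.mem_coe, LinearMap.mem_ker, LinearMap.smul_apply, LinearMap.id_apply]
          rw [show s₀ = σ z hz * c from hc, mul_comm (σ z hz) c, mul_assoc, mul_smul c, mul_smul,
            hσz z hz, smul_zero]
        rw [Module.mem_annihilator]
        intro m
        exact hle (hG.ge (Submodule.mem_top (x := m)))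
      have hannp : Module.annihilator R M ≤ p := by
        refine le_trans ?_ (IsAssociatedPrime.annihilator_le hp)
        rw [Submodule.annihilator_top]
        exact LinearMap.annihilator_le_of_surjective N.mkQ N.mkQ_surjective
      obtain ⟨P, hP, hPp⟩ := Ideal.exists_minimalPrimes_le hannp
      rcases hP.isPrime.mem_or_mem (hP.1.2 hann) with h | h
      · exact hs₀ (hPp h)
      · exact ht P hP (hP.isPrime.mem_of_pow_mem k h)
  let L : Submodule R M :=
    { carrier := {x | ∀ p ∈ associatedPrimes R (M ⧸ N), ∃ s ∉ p, s • x = 0}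
      add_mem' := by
        intro a b ha hb p hp
        haveI := IsAssociatedPrime.isPrime hp
        obtain ⟨s, hs, hsa⟩ := ha p hp
        obtain ⟨r, hr, hrb⟩ := hb p hp
        refine ⟨s * r, fun h => (Ideal.IsPrime.mem_or_mem ‹_› h).elim hs hr, ?_⟩
        rw [smul_add, mul_smul s r b, hrb, smul_zero, mul_comm, mul_smul, hsa, smul_zero, add_zero]
      zero_mem' := fun p hp => ⟨1, fun h => (IsAssociatedPrime.isPrime hp).ne_top
        ((Ideal.eq_top_iff_one _).2 h), by simp⟩
      smul_mem' := fun c x hx p hp => by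
        obtain ⟨s, hs, hsx⟩ := hx p hp
        exact ⟨s, hs, by rw [smul_comm, hsx, smul_zero]⟩ }
  have hL : L ≤ Ideal.span {t} • L := by
    intro x hx
    have : N.mkQ x = 0 := eq_zero_of_forall_associatedPrimes _ fun p hp => by
      obtain ⟨s, hs, hsx⟩ := hx p hp
      exact ⟨s, hs, by rw [← map_smul, hsx, map_zero]⟩
    obtain ⟨y, rfl⟩ := hmem.1 ((Submodule.Quotient.mk_eq_zero N).1 this)
    exact Submodule.smul_mem_smul (Ideal.mem_span_singleton_self t) fun p hp => key p hp y (hx p hp)
  obtain ⟨r, hr, hrL⟩ := Submodule.exists_sub_one_mem_and_smul_eq_zero_of_fg_of_le_smul _ L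
    (IsNoetherian.noetherian L) hL
  obtain ⟨a, ha⟩ := Ideal.mem_span_singleton'.1 hr
  refine IsSMulRegular.of_right_eq_zero_of_smul fun x hx => ?_
  have hxL : x ∈ L := fun p hp => key p hp x ⟨1, fun h => (IsAssociatedPrime.isPrime hp).ne_top
    ((Ideal.eq_top_iff_one _).2 h), by rw [hx, smul_zero]⟩
  have := hrL x hxL
  rw [show r = 1 + a * t by rw [ha]; ring, add_smul, one_smul, mul_smul, hx, smul_zero, add_zero] at this
  exact this

end

end Groth.Agent.AssSch12
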