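import Groth.Prelude.Def_FDesc
import Groth.Agent.QCohLoc.Basic
import Groth.Agent.AssSch12.Algebra
import Mathlib.RingTheory.Ideal.AssociatedPrime.Localization
import Mathlib.RingTheory.Ideal.AssociatedPrime.Finiteness
import Mathlib.AlgebraicGeometry.Noetherian

/-!
# Associated points of quasi-coherent modules on affine opens
-/

set_option autoImplicit false
universe u

open CategoryTheory AlgebraicGeometry Opposite TopologicalSpace
open Groth.Agent.QCohLoc

namespace Groth.Agent.AssSch12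

variable {X : Scheme.{u}} {U : X.Opens} (hU : IsAffineOpen U) {x : X} (hx : x ∈ U)

/-- The prime ideal of a point of an affine open. -/
noncomputable abbrev primeAt : Ideal Γ(X, U) := (hU.primeIdealOf ⟨x, hx⟩).asIdeal

theorem notMem_primeAt_iff (r : Γ(X, U)) :
    r ∉ primeAt hU hx ↔ x ∈ X.basicOpen r := by
  letI := TopCat.Presheaf.algebra_section_stalk X.presheaf (⟨x, hx⟩ : U)
  haveI := hU.isLocalization_stalk ⟨x, hx⟩
  rw [Scheme.mem_basicOpen _ _ _ hx]
  exact (IsLocalization.AtPrime.isUnit_to_map_iff (X.presheaf.stalk x) (primeAt hU hx) r).symm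

theorem mem_primeAt_iff (r : Γ(X, U)) : r ∈ primeAt hU hx ↔ x ∉ X.basicOpen r := by
  rw [← notMem_primeAt_iff hU hx, not_not]

theorem germ_mem_maximalIdeal_iff (r : Γ(X, U)) :
    X.presheaf.germ U x hx r ∈ IsLocalRing.maximalIdeal (X.presheaf.stalk x) ↔ r ∈ primeAt hU hx := by
  rw [IsLocalRing.mem_maximalIdeal, mem_nonunits_iff, mem_primeAt_iff, Scheme.mem_basicOpen _ _ _ hx]

theorem maximalIdeal_eq_map_primeAt :
    IsLocalRing.maximalIdeal (X.presheaf.stalk x) =
      (primeAt hU hx).map (X.presheaf.germ U x hx).hom := by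
  letI := TopCat.Presheaf.algebra_section_stalk X.presheaf (⟨x, hx⟩ : U)
  haveI := hU.isLocalization_stalk ⟨x, hx⟩
  exact (IsLocalization.AtPrime.map_eq_maximalIdeal (primeAt hU hx) (X.presheaf.stalk x)).symm

theorem specializes_iff {y : X} (hy : y ∈ U) :
    x ⤳ y ↔ primeAt hU hx ≤ primeAt hU hy := by
  refine ⟨fun h r hr => ?_, fun h => ?_⟩
  · rw [mem_primeAt_iff] at hr ⊢
    exact fun hy' => hr (h.mem_open (X.basicOpen r).isOpen hy')
  · rw [specializes_iff_forall_open]
    intro s hs hys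
    obtain ⟨f, hf, hyf⟩ := hU.exists_basicOpen_le (⟨y, hys⟩ : (⟨s, hs⟩ : X.Opens)) hy
    refine hf ?_
    by_contra hxf
    exact (mem_primeAt_iff hU hy f).1 (h ((mem_primeAt_iff hU hx f).2 hxf)) hyf

theorem primeAt_fromSpec (q : PrimeSpectrum Γ(X, U)) (h : hU.fromSpec q ∈ U) :
    primeAt hU h = q.asIdeal := by
  have : hU.primeIdealOf ⟨hU.fromSpec q, h⟩ = q :=
    hU.fromSpec.isOpenEmbedding.injective (hU.fromSpec_primeIdealOf _)
  rw [primeAt, this]

theorem exists_point (q : Ideal Γ(X, U)) [hq : q.IsPrime] :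
    ∃ (x : X) (hx : x ∈ U), primeAt hU hx = q := by
  have hmem : hU.fromSpec (⟨q, hq⟩ : PrimeSpectrum Γ(X, U)) ∈ U :=
    hU.range_fromSpec.le ⟨_, rfl⟩
  exact ⟨_, hmem, primeAt_fromSpec hU ⟨q, hq⟩ hmem⟩

variable (M : X.Modules) [M.IsQuasicoherent]

omit [M.IsQuasicoherent] in
theorem isNoetherianRing_of_isAffineOpen [IsLocallyNoetherian X] (hU : IsAffineOpen U) :
    IsNoetherianRing Γ(X, U) := IsLocallyNoetherian.component_noetherian ⟨U, hU⟩

omit [M.IsQuasicoherent] in
theorem germ_eq_zero_of_smul_eq_zero {r : Γ(X, U)} {s : Γ(M, U)} (hr : x ∈ X.basicOpen r)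
    (h : r • s = 0) : M.presheaf.germ U x hx s = 0 := by
  have h' := congr(M.presheaf.germ U x hx $h)
  rw [germ_smul', map_zero] at h'
  exact ((Scheme.mem_basicOpen _ _ _ hx).1 hr).smul_eq_zero.1 h'

include hU in
/-- Associated points in an affine open are the associated primes of the sections. -/
theorem mem_ass_iff [IsLocallyNoetherian X] :
    x ∈ AssSch.Ass M ↔ primeAt hU hx ∈ associatedPrimes Γ(X, U) Γ(M, U) := by
  haveI := isNoetherianRing_of_isAffineOpen hU
  letI := TopCat.Presheaf.algebra_section_stalk X.presheaf (⟨x, hx⟩ : U)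
  haveI := hU.isLocalization_stalk ⟨x, hx⟩
  letI : Module Γ(X, U) (M.presheaf.stalk x) :=
    Module.compHom _ (algebraMap Γ(X, U) (X.presheaf.stalk x))
  haveI : IsScalarTower Γ(X, U) (X.presheaf.stalk x) (M.presheaf.stalk x) :=
    IsScalarTower.of_compHom _ _ _
  let γ : Γ(M, U) →ₗ[Γ(X, U)] M.presheaf.stalk x :=
    { toFun := M.presheaf.germ U x hx
      map_add' := fun a b => map_add _ a b
      map_smul' := fun r m => germ_smul' M hx r m }
  haveI : IsLocalizedModule (primeAt hU hx).primeCompl γ := by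
    refine ⟨fun ⟨r, hr⟩ => ?_, fun z => ?_, fun {a b} hab => ?_⟩
    · rw [Module.End.isUnit_iff]
      have hu : IsUnit (algebraMap Γ(X, U) (X.presheaf.stalk x) r) :=
        IsLocalization.map_units (X.presheaf.stalk x) (⟨r, hr⟩ : (primeAt hU hx).primeCompl)
      exact hu.smul_bijective
    · obtain ⟨f, m, hf, hm⟩ := exists_smul_stalk_eq_germ M hU hx z
      exact ⟨⟨m, ⟨f, (notMem_primeAt_iff hU hx f).2 hf⟩⟩, hm⟩
    · obtain ⟨f, hf, hfm⟩ := exists_smul_eq_zero_of_germ M hU hx (a - b) (by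
        rw [map_sub]; exact sub_eq_zero.2 hab)
      exact ⟨⟨f, (notMem_primeAt_iff hU hx f).2 hf⟩, sub_eq_zero.1 ((smul_sub f a b).symm.trans hfm)⟩
  have hc : Ideal.comap (algebraMap Γ(X, U) (X.presheaf.stalk x))
      (IsLocalRing.maximalIdeal (X.presheaf.stalk x)) = primeAt hU hx := by
    ext r; exact germ_mem_maximalIdeal_iff hU hx r
  show IsLocalRing.maximalIdeal (X.presheaf.stalk x) ∈
    associatedPrimes (X.presheaf.stalk x) (M.presheaf.stalk x) ↔ _
  rw [← Module.associatedPrimes.preimage_comap_associatedPrimes_eq_associatedPrimes_of_isLocalizedModule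
    (primeAt hU hx).primeCompl (X.presheaf.stalk x) γ, Set.mem_preimage, hc]

include hU in
/-- The points where a section is nonzero are the specializations of finitely many associated points. -/
theorem exists_finite_ass_generating_support [IsLocallyNoetherian X] (s : Γ(M, U)) :
    ∃ T : Set X, T.Finite ∧ (∀ t ∈ T, ∃ ht : t ∈ U, t ∈ AssSch.Ass M ∧
        M.presheaf.germ U t ht s ≠ 0) ∧
      ∀ (y : X) (hy : y ∈ U), M.presheaf.germ U y hy s ≠ 0 → ∃ t ∈ T, t ⤳ y := by
  haveI := isNoetherianRing_of_isAffineOpen hU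
  set A := Submodule.span Γ(X, U) {s} with hA
  let T : Set X := {t | ∃ ht : t ∈ U, primeAt hU ht ∈ (Module.annihilator Γ(X, U) A).minimalPrimes}
  have hann : Module.annihilator Γ(X, U) A = (⊥ : Submodule Γ(X, U) Γ(M, U)).colon {s} := by
    show A.annihilator = _
    rw [hA, Submodule.bot_colon']
  have hgerm : ∀ {y : X} (hy : y ∈ U), M.presheaf.germ U y hy s ≠ 0 ↔
      Module.annihilator Γ(X, U) A ≤ primeAt hU hy := by
    intro y hy
    rw [hann]
    refine ⟨fun h r hr => ?_, fun h h0 => ?_⟩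
    · rw [Submodule.mem_colon_singleton, Submodule.mem_bot] at hr
      rw [mem_primeAt_iff]
      exact fun hyr => h (germ_eq_zero_of_smul_eq_zero hy M hyr hr)
    · obtain ⟨f, hf, hfs⟩ := exists_smul_eq_zero_of_germ M hU hy s h0
      exact (mem_primeAt_iff hU hy f).1
        (h (by rw [Submodule.mem_colon_singleton, Submodule.mem_bot]; exact hfs)) hf
  refine ⟨T, ?_, fun t ⟨ht, htmin⟩ => ⟨ht, ?_, (hgerm ht).2 htmin.1.2⟩, fun y hy hys => ?_⟩
  · refine ((Ideal.finite_minimalPrimes_of_isNoetherianRing Γ(X, U) (Module.annihilator Γ(X, U) A)).biUnion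
      (t := fun q => {t : X | ∃ ht : t ∈ U, primeAt hU ht = q}) fun q _ => Set.Subsingleton.finite ?_).subset ?_
    · rintro a ⟨ha, rfl⟩ b ⟨hb, hb'⟩
      have e : hU.primeIdealOf ⟨a, ha⟩ = hU.primeIdealOf ⟨b, hb⟩ := PrimeSpectrum.ext hb'.symm
      have := congrArg hU.fromSpec e
      rwa [hU.fromSpec_primeIdealOf, hU.fromSpec_primeIdealOf] at this
    · rintro t ⟨ht, htmin⟩
      exact Set.mem_biUnion htmin ⟨ht, rfl⟩
  · refine (mem_ass_iff hU ht M).2 ?_
    exact associatedPrimes.subset_of_injective (Submodule.injective_subtype A)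
      (Module.associatedPrimes.minimalPrimes_annihilator_subset_associatedPrimes _ _ htmin)
  · obtain ⟨q, hq, hqy⟩ := Ideal.exists_minimalPrimes_le ((hgerm hy).1 hys)
    haveI := hq.isPrime
    obtain ⟨t, ht, rfl⟩ := exists_point hU q
    exact ⟨t, ⟨ht, hq⟩, (specializes_iff hU ht hy).2 hqy⟩

end Groth.Agent.AssSch12
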