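import Mathlib.RingTheory.Flat.FaithfullyFlat.Basic
import Mathlib.RingTheory.LocalRing.Module
import Mathlib.RingTheory.Ideal.AssociatedPrime.Basic
import Mathlib.RingTheory.Support
import Mathlib.RingTheory.Length
import Mathlib.LinearAlgebra.DirectSum.Finsupp
import Mathlib.LinearAlgebra.TensorProduct.Tower
import Mathlib.LinearAlgebra.TensorProduct.Quotient
import Mathlib.LinearAlgebra.TensorProduct.Pi
import Mathlib.LinearAlgebra.Basis.VectorSpace
import Mathlib.RingTheory.LocalRing.ResidueField.Basic

/-!
# Elements killed by the maximal ideal in `N ⊗_A M` for flat `N`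
-/

set_option autoImplicit false
universe u

open TensorProduct IsLocalRing

namespace Groth.Agent.AssSch12

/-- Some nonzero element is killed by the maximal ideal. -/
def Killed (R : Type*) [CommRing R] [IsLocalRing R] (M : Type*) [AddCommGroup M] [Module R M] : Prop :=
  ∃ z : M, z ≠ 0 ∧ ∀ r ∈ maximalIdeal R, r • z = 0

theorem Killed.congr {R : Type*} [CommRing R] [IsLocalRing R] {M M' : Type*} [AddCommGroup M]
    [Module R M] [AddCommGroup M'] [Module R M'] (e : M ≃ₗ[R] M') : Killed R M ↔ Killed R M' :=
  ⟨fun ⟨z, hz, h⟩ => ⟨e z, (map_ne_zero_iff e e.injective).2 hz,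
      fun r hr => by rw [← map_smul, h r hr, map_zero]⟩,
    fun ⟨z, hz, h⟩ => ⟨e.symm z, (map_ne_zero_iff e.symm e.symm.injective).2 hz,
      fun r hr => by rw [← map_smul, h r hr, map_zero]⟩⟩

theorem killed_of_injective {R : Type*} [CommRing R] [IsLocalRing R] {M M' : Type*} [AddCommGroup M]
    [Module R M] [AddCommGroup M'] [Module R M'] (e : M →ₗ[R] M') (he : Function.Injective e)
    (h : Killed R M) : Killed R M' := by
  obtain ⟨z, hz, h⟩ := h
  exact ⟨e z, (map_ne_zero_iff e he).2 hz, fun r hr => by rw [← map_smul, h r hr, map_zero]⟩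

theorem killed_iff_isAssociatedPrime (R : Type*) [CommRing R] [IsLocalRing R] [IsNoetherianRing R]
    (M : Type*) [AddCommGroup M] [Module R M] :
    Killed R M ↔ IsAssociatedPrime (maximalIdeal R) M := by
  rw [isAssociatedPrime_iff]
  constructor
  · rintro ⟨z, hz, h⟩
    refine ⟨(maximalIdeal.isMaximal R).isPrime, z, ?_⟩
    refine (maximalIdeal.isMaximal R).eq_of_le ?_ fun r hr => ?_
    · intro hc
      have h1 : (1 : R) ∈ Submodule.colon (⊥ : Submodule R M) {z} := hc ▸ Submodule.mem_top
      rw [Submodule.mem_colon_singleton, Submodule.mem_bot, one_smul] at h1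
      exact hz h1
    · rw [Submodule.mem_colon_singleton, Submodule.mem_bot]
      exact h r hr
  · rintro ⟨hp, z, hz⟩
    refine ⟨z, fun h0 => hp.ne_top ?_, fun r hr => ?_⟩
    · rw [hz, h0, Ideal.eq_top_iff_one, Submodule.mem_colon_singleton, Submodule.mem_bot, smul_zero]
    · rw [hz, Submodule.mem_colon_singleton, Submodule.mem_bot] at hr
      exact hr

/-- `Killed` along a surjection of local rings. -/
theorem killed_iff_of_surj (R S : Type*) [CommRing R] [IsLocalRing R] [CommRing S] [IsLocalRing S]
    [Algebra R S] (h : Function.Surjective (algebraMap R S)) {M : Type*} [AddCommGroup M] [Module R M]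
    [Module S M] [IsScalarTower R S M] : Killed S M ↔ Killed R M := by
  haveI : IsLocalHom (algebraMap R S) := IsLocalHom.of_surjective _ h
  constructor
  · rintro ⟨z, hz, hk⟩
    exact ⟨z, hz, fun r hr => by rw [← algebraMap_smul S r z]; exact hk _ (map_nonunit _ _ hr)⟩
  · rintro ⟨z, hz, hk⟩
    refine ⟨z, hz, fun s hs => ?_⟩
    obtain ⟨r, rfl⟩ := h s
    rw [algebraMap_smul]
    exact hk r fun hu => hs (hu.map _)

section Tensor

variable (A B : Type u) [CommRing A] [IsLocalRing A] [CommRing B] [IsLocalRing B] [Algebra A B]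
  [IsLocalHom (algebraMap A B)] (N : Type u) [AddCommGroup N] [Module B N] [Module A N]
  [IsScalarTower A B N] [Module.Flat A N] (M : Type u) [AddCommGroup M] [Module A M]

omit [IsLocalHom (algebraMap A B)] in
theorem killed_tensor (hM : Killed A M) (hN : Killed B (N ⊗[A] (A ⧸ maximalIdeal A))) :
    Killed B (N ⊗[A] M) := by
  obtain ⟨w, hw, hkill⟩ := hM
  let ι : (A ⧸ maximalIdeal A) →ₗ[A] M :=
    (maximalIdeal A).liftQ (LinearMap.toSpanSingleton A M w) fun r hr => hkill r hr
  have hι : Function.Injective ι := by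
    rw [← LinearMap.ker_eq_bot]
    apply Submodule.ker_liftQ_eq_bot
    intro r hr
    by_contra hu
    rw [IsLocalRing.mem_maximalIdeal, mem_nonunits_iff, not_not] at hu
    exact hw (hu.smul_eq_zero.1 hr)
  exact killed_of_injective (AlgebraTensorModule.lTensor B N ι)
    (Module.Flat.lTensor_preserves_injective_linearMap (M := N) ι hι) hN

theorem killed_of_killed_tensor [IsNoetherianRing A] (h : Killed B (N ⊗[A] M)) :
    Killed A M ∧ Killed B (N ⊗[A] (A ⧸ maximalIdeal A)) := by
  classical
  obtain ⟨z, hz, hkill⟩ := h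
  obtain ⟨n, a, ha⟩ := Submodule.fg_iff_exists_fin_generating_family.1
    (IsNoetherian.noetherian (maximalIdeal A))
  let T : M →ₗ[A] (Fin n → M) := LinearMap.pi fun i => LinearMap.lsmul A M (a i)
  have hai : ∀ i, a i ∈ maximalIdeal A := fun i => ha ▸ Submodule.subset_span ⟨i, rfl⟩
  have hT : T.lTensor N z = 0 := by
    have e : ∀ i, (LinearMap.lsmul A M (a i)).lTensor N z = 0 := fun i => by
      have : (LinearMap.lsmul A M (a i)).lTensor N = LinearMap.lsmul A (N ⊗[A] M) (a i) := by
        ext x m; simp
      rw [this, LinearMap.lsmul_apply, ← algebraMap_smul B (a i) z]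
      exact hkill _ (map_nonunit _ _ (hai i))
    apply (TensorProduct.piRight A A N (fun _ : Fin n => M)).injective
    rw [map_zero]
    funext i
    have hc : ((LinearMap.proj i).comp
        ((TensorProduct.piRight A A N (fun _ : Fin n => M)).toLinearMap ∘ₗ T.lTensor N)) =
        (LinearMap.lsmul A M (a i)).lTensor N := by
      ext x m; simp [T]
    exact (LinearMap.congr_fun hc z).trans (e i)
  let K : Submodule A M := LinearMap.ker T
  obtain ⟨z', hz'⟩ : ∃ z' : N ⊗[A] K, (AlgebraTensorModule.lTensor B N K.subtype) z' = z :=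
    (Module.Flat.lTensor_exact N (LinearMap.exact_subtype_ker_map T) z).1 hT
  have hK : ∀ r ∈ maximalIdeal A, ∀ w : K, r • w = 0 := by
    intro r hr w
    rw [← ha] at hr
    induction hr using Submodule.span_induction with
    | mem _ hx => obtain ⟨i, rfl⟩ := hx; exact Subtype.ext (congr_fun (show T w.1 = 0 from w.2) i)
    | zero => exact zero_smul A w
    | add p q _ _ hp hq => rw [add_smul, hp, hq, add_zero]
    | smul c p _ hp => rw [smul_assoc, hp, smul_zero]
  have hinj : Function.Injective (AlgebraTensorModule.lTensor B N K.subtype) :=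
    Module.Flat.lTensor_preserves_injective_linearMap (M := N) _ K.injective_subtype
  have hz'0 : z' ≠ 0 := fun h0 => hz (by rw [← hz', h0, map_zero])
  have hz'k : ∀ b ∈ maximalIdeal B, b • z' = 0 := fun b hb => hinj (by
    rw [map_smul, map_zero]
    rw [hz', hkill b hb])
  constructor
  · obtain ⟨w, hw⟩ : ∃ w : K, w ≠ 0 := by
      by_contra! hall
      haveI : Subsingleton K := ⟨fun a b => by rw [hall a, hall b]⟩
      exact hz'0 (Subsingleton.elim _ _)
    exact ⟨w.1, fun h0 => hw (Subtype.ext h0), fun r hr => congrArg Subtype.val (hK r hr w)⟩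
  · letI := Ideal.Quotient.field (maximalIdeal A)
    have htor : Module.IsTorsionBySet A K (maximalIdeal A : Set A) := fun w ⟨r, hr⟩ => hK r hr w
    letI : Module (A ⧸ maximalIdeal A) K := htor.module
    haveI : IsScalarTower A (A ⧸ maximalIdeal A) K := htor.isScalarTower
    let b := Module.Basis.ofVectorSpace (A ⧸ maximalIdeal A) K
    let e : K ≃ₗ[A] (_ →₀ (A ⧸ maximalIdeal A)) := b.repr.restrictScalars A
    let ψ := (TensorProduct.finsuppRight A B N (A ⧸ maximalIdeal A) _) ((e.toLinearMap.lTensor N) z')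
    have hψ : ψ ≠ 0 := by
      simp only [ψ, ne_eq, LinearEquiv.map_eq_zero_iff]
      exact fun h0 => hz'0 ((LinearEquiv.lTensor N e).injective (h0.trans (map_zero _).symm))
    obtain ⟨i, hi⟩ := Finsupp.ne_iff.1 hψ
    refine ⟨ψ i, hi, fun r hr => ?_⟩
    have : r • ψ = (TensorProduct.finsuppRight A B N (A ⧸ maximalIdeal A) _)
        ((AlgebraTensorModule.lTensor B N e.toLinearMap) (r • z')) := by
      rw [map_smul, map_smul]; rfl
    rw [← Finsupp.smul_apply, this, hz'k r hr, map_zero, map_zero, Finsupp.zero_apply]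

theorem killed_tensor_iff [IsNoetherianRing A] :
    Killed B (N ⊗[A] M) ↔ Killed A M ∧ Killed B (N ⊗[A] (A ⧸ maximalIdeal A)) :=
  ⟨killed_of_killed_tensor A B N M, fun h => killed_tensor A B N M h.1 h.2⟩

theorem faithfullyFlat_of_killed (hN : Killed B (N ⊗[A] (A ⧸ maximalIdeal A))) :
    Module.FaithfullyFlat A N := by
  refine Module.FaithfullyFlat.mk (fun {m} hm h => ?_)
  rw [IsLocalRing.eq_maximalIdeal hm] at h
  obtain ⟨z, hz, -⟩ := hN
  have : Subsingleton (N ⊗[A] (A ⧸ maximalIdeal A)) := by
    have e := (TensorProduct.comm A N (A ⧸ maximalIdeal A)).trans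
      (TensorProduct.quotTensorEquivQuotSMul N (maximalIdeal A))
    haveI : Subsingleton (N ⧸ (maximalIdeal A • (⊤ : Submodule A N))) :=
      Submodule.Quotient.subsingleton_iff.2 h
    exact e.toEquiv.subsingleton
  exact hz (Subsingleton.elim _ _)

theorem length_tensor_eq_one_iff (hM : Killed A M) (hN : Killed B (N ⊗[A] (A ⧸ maximalIdeal A))) :
    Module.length B (N ⊗[A] M) = 1 ↔
      Module.length A M = 1 ∧ Module.length B (N ⊗[A] (A ⧸ maximalIdeal A)) = 1 := by
  haveI := faithfullyFlat_of_killed A B N hN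
  obtain ⟨w, hw, hkill⟩ := hM
  let ι : (A ⧸ maximalIdeal A) →ₗ[A] M :=
    (maximalIdeal A).liftQ (LinearMap.toSpanSingleton A M w) fun r hr => hkill r hr
  have hι : Function.Injective ι := by
    rw [← LinearMap.ker_eq_bot]
    apply Submodule.ker_liftQ_eq_bot
    intro r hr
    by_contra hu
    rw [IsLocalRing.mem_maximalIdeal, mem_nonunits_iff, not_not] at hu
    exact hw (hu.smul_eq_zero.1 hr)
  haveI : IsSimpleModule A (A ⧸ maximalIdeal A) :=
    isSimpleModule_iff_isCoatom.2 (IsLocalRing.maximalIdeal.isMaximal A).out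
  let ιB := AlgebraTensorModule.lTensor B N ι
  have hιB : Function.Injective ιB :=
    Module.Flat.lTensor_preserves_injective_linearMap (M := N) ι hι
  have hιA : Function.Surjective ι ↔ Function.Surjective ιB :=
    (Module.FaithfullyFlat.lTensor_surjective_iff_surjective A N ι).symm
  constructor
  · intro h
    haveI : Nontrivial (N ⊗[A] (A ⧸ maximalIdeal A)) := nontrivial_of_ne _ _ hN.choose_spec.1
    haveI := Module.length_eq_one_iff.1 h
    have hs : Function.Surjective ιB := by
      rw [← LinearMap.range_eq_top]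
      refine (eq_bot_or_eq_top (LinearMap.range ιB)).resolve_left fun h0 => ?_
      rw [LinearMap.range_eq_bot] at h0
      obtain ⟨z, hz⟩ := exists_ne (0 : N ⊗[A] (A ⧸ maximalIdeal A))
      exact hz (hιB (by rw [h0, LinearMap.zero_apply, LinearMap.zero_apply]))
    exact ⟨by rw [← (LinearEquiv.ofBijective ι ⟨hι, hιA.2 hs⟩).length_eq, Module.length_eq_one],
      (LinearEquiv.ofBijective ιB ⟨hιB, hs⟩).length_eq.trans h⟩
  · rintro ⟨h1, h2⟩
    haveI := Module.length_eq_one_iff.1 h1
    have hs : Function.Surjective ι := by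
      rw [← LinearMap.range_eq_top]
      refine (eq_bot_or_eq_top (LinearMap.range ι)).resolve_left fun h0 => ?_
      rw [LinearMap.range_eq_bot] at h0
      obtain ⟨z, hz⟩ := exists_ne (0 : A ⧸ maximalIdeal A)
      exact hz (hι (by rw [h0, LinearMap.zero_apply, LinearMap.zero_apply]))
    exact (LinearEquiv.ofBijective ιB ⟨hιB, hιA.1 hs⟩).length_eq.symm.trans h2

end Tensor

section GoingDown

variable (A B : Type u) [CommRing A] [CommRing B] [Algebra A B] (N : Type u) [AddCommGroup N]
  [Module B N] [Module A N] [IsScalarTower A B N] [Module.FaithfullyFlat A N]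

/-- Over every prime of the base lies a prime in the support of a faithfully flat module. -/
theorem exists_support_over (p : Ideal A) [p.IsPrime] :
    ∃ q : PrimeSpectrum B, q.asIdeal.comap (algebraMap A B) = p ∧ q ∈ Module.support B N := by
  haveI : Nontrivial (N ⊗[A] p.ResidueField) :=
    (Module.FaithfullyFlat.nontrivial_tensorProduct_iff_right A N).2 inferInstance
  obtain ⟨w, hw⟩ := exists_ne (0 : N ⊗[A] p.ResidueField)
  let J : Ideal B := LinearMap.ker (LinearMap.toSpanSingleton B _ w)
  have hdis : Disjoint (J : Set B) (Submonoid.map (algebraMap A B) p.primeCompl : Set B) := by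
    rw [Set.disjoint_left]
    rintro _ hJ ⟨s, hs, rfl⟩
    replace hJ : algebraMap A B s • w = 0 := hJ
    rw [algebraMap_smul] at hJ
    have hu : IsUnit (algebraMap A p.ResidueField s) :=
      isUnit_iff_ne_zero.2 fun h0 => hs (Ideal.algebraMap_residueField_eq_zero.1 h0)
    have hb : Function.Bijective ((LinearMap.lsmul A p.ResidueField s).lTensor N) := by
      refine (LinearEquiv.lTensor N (LinearEquiv.ofBijective (LinearMap.lsmul A _ s) ?_)).bijective
      convert hu.unit.mulLeft_bijective using 1
      funext t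
      simp [Algebra.smul_def]
    refine hw (hb.1 ?_)
    rw [map_zero, show (LinearMap.lsmul A p.ResidueField s).lTensor N =
      LinearMap.lsmul A (N ⊗[A] p.ResidueField) s by ext x m; simp]
    exact hJ
  obtain ⟨q, hq, hJq, hqd⟩ := Ideal.exists_le_prime_disjoint J _ hdis
  refine ⟨⟨q, hq⟩, le_antisymm (fun s hs => ?_) fun s hs => ?_, ?_⟩
  · by_contra hsp
    exact Set.disjoint_left.1 hqd hs ⟨s, hsp, rfl⟩
  · refine hJq (show algebraMap A B s • w = 0 from ?_)
    rw [algebraMap_smul]
    have h0 : ∀ t : p.ResidueField, s • t = 0 := fun t => by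
      rw [Algebra.smul_def, Ideal.algebraMap_residueField_eq_zero.2 hs, zero_mul]
    clear hw hdis hJq
    induction w with
    | zero => rw [smul_zero]
    | tmul x t => rw [← TensorProduct.tmul_smul, h0, tmul_zero]
    | add u v hu hv => rw [smul_add, hu, hv, add_zero]
  · rw [Module.mem_support_iff']
    by_contra! hall
    obtain ⟨b, hb, hbw⟩ : ∃ b ∉ q, b • w = 0 := by
      clear hw hdis hJq J
      induction w with
      | zero => exact ⟨1, fun h1 => hq.ne_top ((Ideal.eq_top_iff_one q).2 h1), smul_zero _⟩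
      | tmul x t =>
        obtain ⟨b, hb, hbx⟩ := hall x
        exact ⟨b, hb, by rw [smul_tmul', hbx, zero_tmul]⟩
      | add u v hu hv =>
        obtain ⟨b, hb, hbu⟩ := hu
        obtain ⟨c, hc, hcv⟩ := hv
        exact ⟨b * c, hq.mul_notMem hb hc, by
          rw [smul_add, mul_comm b c, mul_smul, hbu, smul_zero, mul_comm c b, mul_smul, hcv,
            smul_zero, add_zero]⟩
    exact hb (hJq hbw)

end GoingDown

end Groth.Agent.AssSch12
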