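import Groth.Prelude.Def_FDesc
import Groth.Prelude.Def_DCoh4
import Groth.Agent.AssSch12.TensorAlg
import Groth.Agent.AssSch12.Ass
import Groth.Agent.ModStalk.Pullback
import Groth.Agent.ModStalk.Tensor
import Groth.Agent.Props12.Stalks
import Mathlib.RingTheory.Length

/-!
# Associated points of `f^*E ⊗ F` at a point
-/

set_option autoImplicit false
set_option linter.style.haveILetI false
set_option backward.isDefEq.respectTransparency false
universe u

open CategoryTheory CategoryTheory.Limits AlgebraicGeometry Opposite TopologicalSpace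
open IsLocalRing
open scoped TensorProduct

namespace Groth.Agent.AssSch12

variable {X Y : Scheme.{u}}

theorem killed_stalk_iff [IsLocallyNoetherian X] (M : X.Modules) (x : X) :
    x ∈ AssSch.Ass M ↔ Killed (X.presheaf.stalk x) (M.presheaf.stalk x) :=
  (killed_iff_isAssociatedPrime (X.presheaf.stalk x) (M.presheaf.stalk x)).symm

/-- `Killed` along a surjection of local rings. -/
theorem killed_iff_of_surjective {R S : Type*} [CommRing R] [IsLocalRing R] [CommRing S] [IsLocalRing S]
    [Algebra R S] (h : Function.Surjective (algebraMap R S)) (M : Type*) [AddCommGroup M] [Module R M]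
    [Module S M] [IsScalarTower R S M] : Killed S M ↔ Killed R M := by
  haveI : IsLocalHom (algebraMap R S) := IsLocalHom.of_surjective _ h
  constructor
  · rintro ⟨z, hz, hk⟩
    exact ⟨z, hz, fun r hr => by rw [← algebraMap_smul S r z]; exact hk _ (map_nonunit _ _ hr)⟩
  · rintro ⟨z, hz, hk⟩
    refine ⟨z, hz, fun s hs => ?_⟩
    obtain ⟨r, rfl⟩ := h s
    rw [algebraMap_smul]
    exact hk r fun hu => hs (hu.map _)

variable (f : X ⟶ Y) (x : X) (E : Y.Modules) (F : X.Modules)

/-- The residue criterion. -/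
def FibKilled : Prop :=
  letI := (f.stalkMap x).hom.toAlgebra
  letI := FlatMod.moduleStalkOver f F x
  haveI : IsScalarTower (Y.presheaf.stalk (f x)) (X.presheaf.stalk x) (F.presheaf.stalk x) :=
    IsScalarTower.of_compHom _ _ _
  Killed (X.presheaf.stalk x)
    ((F.presheaf.stalk x) ⊗[Y.presheaf.stalk (f x)] (Y.presheaf.stalk (f x) ⧸ maximalIdeal (Y.presheaf.stalk (f x))))

/-- The fibre length. -/
noncomputable def fibLen : ℕ∞ :=
  letI := (f.stalkMap x).hom.toAlgebra
  letI := FlatMod.moduleStalkOver f F x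
  haveI : IsScalarTower (Y.presheaf.stalk (f x)) (X.presheaf.stalk x) (F.presheaf.stalk x) :=
    IsScalarTower.of_compHom _ _ _
  Module.length (X.presheaf.stalk x)
    ((F.presheaf.stalk x) ⊗[Y.presheaf.stalk (f x)] (Y.presheaf.stalk (f x) ⧸ maximalIdeal (Y.presheaf.stalk (f x))))

theorem tensor_stalk_data [IsLocallyNoetherian X] [IsLocallyNoetherian Y]
    (hflat : FlatMod.IsFlatOverAt f F x) :
    (x ∈ AssSch.Ass (CohB1.tensorMod ((Scheme.Modules.pullback f).obj E) F) ↔
      f x ∈ AssSch.Ass E ∧ FibKilled f x F) ∧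
    (x ∈ AssSch.Ass (CohB1.tensorMod ((Scheme.Modules.pullback f).obj E) F) →
      (Module.length (X.presheaf.stalk x)
        ((CohB1.tensorMod ((Scheme.Modules.pullback f).obj E) F).presheaf.stalk x) = 1 ↔
        Module.length (Y.presheaf.stalk (f x)) (E.presheaf.stalk (f x)) = 1 ∧ fibLen f x F = 1)) := by
  letI := (f.stalkMap x).hom.toAlgebra
  letI := FlatMod.moduleStalkOver f F x
  haveI : IsScalarTower (Y.presheaf.stalk (f x)) (X.presheaf.stalk x) (F.presheaf.stalk x) :=
    IsScalarTower.of_compHom _ _ _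
  haveI : Module.Flat (Y.presheaf.stalk (f x)) (F.presheaf.stalk x) := hflat
  haveI : IsLocalHom (algebraMap (Y.presheaf.stalk (f x)) (X.presheaf.stalk x)) :=
    inferInstanceAs (IsLocalHom (f.stalkMap x).hom)
  rw [killed_stalk_iff, killed_stalk_iff]
  let e0 : (CohB1.tensorMod ((Scheme.Modules.pullback f).obj E) F).presheaf.stalk x ≃ₗ[X.presheaf.stalk x]
      ((((Scheme.Modules.pullback f).obj E).presheaf.stalk x) ⊗[X.presheaf.stalk x] (F.presheaf.stalk x)) :=
    (ModStalk.stalkTensorIso x ((Scheme.Modules.pullback f).obj E) F).toLinearEquiv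
  let e1 : ((Scheme.Modules.pullback f).obj E).presheaf.stalk x ≃ₗ[X.presheaf.stalk x]
      (X.presheaf.stalk x) ⊗[Y.presheaf.stalk (f x)] (E.presheaf.stalk (f x)) :=
    ((ModStalk.pullbackStalkIso f x).app E).toLinearEquiv
  let e2 := TensorProduct.congr e1 (LinearEquiv.refl (X.presheaf.stalk x) (F.presheaf.stalk x))
  let e3 := (TensorProduct.comm (X.presheaf.stalk x)
      ((X.presheaf.stalk x) ⊗[Y.presheaf.stalk (f x)] (E.presheaf.stalk (f x))) (F.presheaf.stalk x)).trans
    (TensorProduct.AlgebraTensorModule.cancelBaseChange (Y.presheaf.stalk (f x)) (X.presheaf.stalk x)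
      (X.presheaf.stalk x) (F.presheaf.stalk x) (E.presheaf.stalk (f x)))
  have h1 := Killed.congr ((e0.trans e2).trans e3)
  have h2 := ((e0.trans e2).trans e3).length_eq
  refine ⟨h1.trans (killed_tensor_iff (Y.presheaf.stalk (f x)) (X.presheaf.stalk x) (F.presheaf.stalk x) _), fun hx => ?_⟩
  rw [h2]
  obtain ⟨hM, hN⟩ := killed_of_killed_tensor _ _ _ _ (h1.1 hx)
  exact length_tensor_eq_one_iff (Y.presheaf.stalk (f x)) (X.presheaf.stalk x) (F.presheaf.stalk x) _ hM hN


theorem mem_ass_tensor_iff [IsLocallyNoetherian X] [IsLocallyNoetherian Y]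
    (hflat : FlatMod.IsFlatOverAt f F x) :
    x ∈ AssSch.Ass (CohB1.tensorMod ((Scheme.Modules.pullback f).obj E) F) ↔
      f x ∈ AssSch.Ass E ∧ FibKilled f x F := by
  exact (tensor_stalk_data f x E F hflat).1

theorem tensor_length [IsLocallyNoetherian X] [IsLocallyNoetherian Y]
    (hflat : FlatMod.IsFlatOverAt f F x)
    (hx : x ∈ AssSch.Ass (CohB1.tensorMod ((Scheme.Modules.pullback f).obj E) F)) :
    Module.length (X.presheaf.stalk x)
        ((CohB1.tensorMod ((Scheme.Modules.pullback f).obj E) F).presheaf.stalk x) = 1 ↔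
      Module.length (Y.presheaf.stalk (f x)) (E.presheaf.stalk (f x)) = 1 ∧ fibLen f x F = 1 :=
  (tensor_stalk_data f x E F hflat).2 hx

theorem fib_equiv :
    letI := (f.stalkMap x).hom.toAlgebra
    letI := FlatMod.moduleStalkOver f F x
    haveI : IsScalarTower (Y.presheaf.stalk (f x)) (X.presheaf.stalk x) (F.presheaf.stalk x) :=
      IsScalarTower.of_compHom _ _ _
    Nonempty (((F.presheaf.stalk x) ⊗[Y.presheaf.stalk (f x)] (Y.presheaf.stalk (f x) ⧸ maximalIdeal (Y.presheaf.stalk (f x))))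
      ≃ₗ[X.presheaf.stalk x] ((F.presheaf.stalk x) ⧸ (Ideal.map (f.stalkMap x).hom (maximalIdeal (Y.presheaf.stalk (f x))) •
        (⊤ : Submodule (X.presheaf.stalk x) (F.presheaf.stalk x))))) := by
  letI := (f.stalkMap x).hom.toAlgebra
  letI := FlatMod.moduleStalkOver f F x
  haveI : IsScalarTower (Y.presheaf.stalk (f x)) (X.presheaf.stalk x) (F.presheaf.stalk x) :=
    IsScalarTower.of_compHom _ _ _
  set J := Ideal.map (f.stalkMap x).hom (maximalIdeal (Y.presheaf.stalk (f x))) with hJ
  let e3 := TensorProduct.comm (Y.presheaf.stalk (f x)) (F.presheaf.stalk x)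
      (Y.presheaf.stalk (f x) ⧸ maximalIdeal (Y.presheaf.stalk (f x)))
  have hsm : (maximalIdeal (Y.presheaf.stalk (f x)) • (⊤ : Submodule (Y.presheaf.stalk (f x)) (F.presheaf.stalk x))) =
      (J • (⊤ : Submodule (X.presheaf.stalk x) (F.presheaf.stalk x))).restrictScalars _ :=
    (Ideal.smul_restrictScalars (maximalIdeal (Y.presheaf.stalk (f x))) (⊤ : Submodule (X.presheaf.stalk x) (F.presheaf.stalk x))).symm
  let g := (e3.trans ((TensorProduct.quotTensorEquivQuotSMul (F.presheaf.stalk x) _).trans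
    ((Submodule.quotEquivOfEq _ _ hsm).trans (Submodule.Quotient.restrictScalarsEquiv _ _))))
  suffices h : ∀ (b : X.presheaf.stalk x) z, g (b • z) = b • g z from
    ⟨LinearEquiv.ofBijective
      ({ g.toLinearMap with map_smul' := h } : _ →ₗ[X.presheaf.stalk x] _) g.bijective⟩
  intro b z
  induction z with
  | zero => simp
  | tmul n k =>
    obtain ⟨a, rfl⟩ := Submodule.mkQ_surjective _ k
    show g ((b • n) ⊗ₜ _) = b • g (n ⊗ₜ _)
    simp [g, e3, smul_comm a b n]
  | add u v hu hv =>
    rw [smul_add, map_add, map_add, smul_add, hu, hv]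

theorem fibKilled_iff :
    FibKilled f x F ↔ ∃ z : F.presheaf.stalk x,
      z ∉ Ideal.map (f.stalkMap x).hom (maximalIdeal (Y.presheaf.stalk (f x))) •
        (⊤ : Submodule (X.presheaf.stalk x) (F.presheaf.stalk x)) ∧
      ∀ b ∈ maximalIdeal (X.presheaf.stalk x), b • z ∈
        Ideal.map (f.stalkMap x).hom (maximalIdeal (Y.presheaf.stalk (f x))) •
          (⊤ : Submodule (X.presheaf.stalk x) (F.presheaf.stalk x)) := by
  obtain ⟨g⟩ := fib_equiv f x F
  refine (Killed.congr g).trans ⟨?_, ?_⟩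
  · rintro ⟨z, hz, hk⟩
    obtain ⟨z, rfl⟩ := Submodule.mkQ_surjective _ z
    exact ⟨z, fun h => hz ((Submodule.Quotient.mk_eq_zero _).2 h),
      fun b hb => (Submodule.Quotient.mk_eq_zero _).1 (hk b hb)⟩
  · rintro ⟨z, hz, hk⟩
    exact ⟨Submodule.Quotient.mk z, fun h => hz ((Submodule.Quotient.mk_eq_zero _).1 h),
      fun b hb => (Submodule.Quotient.mk_eq_zero _).2 (hk b hb)⟩

theorem fiber_stalk_data [IsLocallyNoetherian X] (y : Y) (x' : ↥(f.fiber y)) :
    (x' ∈ AssSch.Ass ((Scheme.Modules.pullback (f.fiberι y)).obj F) ↔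
      FibKilled f (f.fiberι y x') F) ∧
    Module.length ((f.fiber y).presheaf.stalk x')
      (((Scheme.Modules.pullback (f.fiberι y)).obj F).presheaf.stalk x') = fibLen f (f.fiberι y x') F := by
  set x := f.fiberι y x' with hx
  obtain ⟨hsurj, hker⟩ := Props12.stalkMap_fiberι f y x'
  letI := (f.stalkMap x).hom.toAlgebra
  letI := FlatMod.moduleStalkOver f F x
  haveI : IsScalarTower (Y.presheaf.stalk (f x)) (X.presheaf.stalk x) (F.presheaf.stalk x) :=
    IsScalarTower.of_compHom _ _ _
  let C := (f.fiber y).presheaf.stalk x'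
  haveI : IsNoetherianRing C := isNoetherianRing_of_surjective _ _ ((f.fiberι y).stalkMap x').hom hsurj
  letI alg : Algebra (X.presheaf.stalk x) C := ((f.fiberι y).stalkMap x').hom.toAlgebra
  show (IsAssociatedPrime _ _ ↔ _) ∧ _
  rw [← killed_iff_isAssociatedPrime]
  let e1 : ((Scheme.Modules.pullback (f.fiberι y)).obj F).presheaf.stalk x' ≃ₗ[C]
      C ⊗[X.presheaf.stalk x] (F.presheaf.stalk x) :=
    ((ModStalk.pullbackStalkIso (f.fiberι y) x').app F).toLinearEquiv
  rw [Killed.congr e1, e1.length_eq, killed_iff_of_surjective (R := X.presheaf.stalk x) (S := C) hsurj,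
    ← Module.length_eq_of_surjective (S := X.presheaf.stalk x) (R := C) hsurj]
  set J := Ideal.map (f.stalkMap x).hom (maximalIdeal (Y.presheaf.stalk (f x))) with hJ
  let q : (X.presheaf.stalk x ⧸ J) ≃ₗ[X.presheaf.stalk x] C :=
    ((Ideal.quotientEquivAlgOfEq (X.presheaf.stalk x) hker.symm).trans
      (Ideal.quotientKerAlgEquivOfSurjective (f := Algebra.ofId (X.presheaf.stalk x) C) hsurj)).toLinearEquiv
  let e2 := (TensorProduct.congr q.symm (LinearEquiv.refl (X.presheaf.stalk x) (F.presheaf.stalk x))).trans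
    (TensorProduct.quotTensorEquivQuotSMul (F.presheaf.stalk x) J)
  rw [Killed.congr e2, e2.length_eq]
  obtain ⟨g⟩ := fib_equiv f x F
  exact ⟨(Killed.congr g).symm, g.length_eq.symm⟩

theorem mem_ass_fiber_iff [IsLocallyNoetherian X] (y : Y) (x' : ↥(f.fiber y)) :
    x' ∈ AssSch.Ass ((Scheme.Modules.pullback (f.fiberι y)).obj F) ↔
      FibKilled f (f.fiberι y x') F := (fiber_stalk_data f F y x').1

theorem length_fiber [IsLocallyNoetherian X] (y : Y) (x' : ↥(f.fiber y)) :
    Module.length ((f.fiber y).presheaf.stalk x')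
      (((Scheme.Modules.pullback (f.fiberι y)).obj F).presheaf.stalk x') = fibLen f (f.fiberι y x') F :=
  (fiber_stalk_data f F y x').2

end Groth.Agent.AssSch12
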