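import Groth.Agent.AssSch12.TensorAlg
import Mathlib.RingTheory.Flat.Stability
import Mathlib.RingTheory.RingHom.Flat
import Mathlib.RingTheory.TensorProduct.Quotient
import Mathlib.LinearAlgebra.TensorProduct.RightExactness
import Mathlib.RingTheory.Ideal.Quotient.Operations

/-!
# `Killed` for `(R ⊗_A F) ⊗_R (R ⊗_B G)`, `R` flat over `B ⊗_K A`
-/

set_option autoImplicit false
set_option linter.style.haveILetI false
set_option backward.isDefEq.respectTransparency false
universe u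

open TensorProduct IsLocalRing
attribute [local instance] Algebra.TensorProduct.rightAlgebra

namespace Groth.Agent.AssSch12

/-- A flat module over `C` tensor an `A`-flat `C`-module is flat over `A`. -/
theorem flat_tensor_left (A C R M : Type u) [CommRing A] [CommRing C] [Algebra A C] [AddCommGroup R]
    [Module C R] [Module.Flat C R] [AddCommGroup M] [Module C M] [Module A M] [IsScalarTower A C M]
    [SMulCommClass C A M] [Module.Flat A M] : Module.Flat A (M ⊗[C] R) := by
  rw [Module.Flat.iff_lTensor_preserves_injective_linearMap]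
  intro N N' _ _ _ _ φ hφ
  let e := TensorProduct.AlgebraTensorModule.rightComm A C C M R N
  let e' := TensorProduct.AlgebraTensorModule.rightComm A C C M R N'
  have h1 : Function.Injective ((AlgebraTensorModule.lTensor C M φ).rTensor R) :=
    Module.Flat.rTensor_preserves_injective_linearMap _
      (Module.Flat.lTensor_preserves_injective_linearMap (M := M) φ hφ)
  have h2 : ∀ z, e' (φ.lTensor (M ⊗[C] R) z) = (AlgebraTensorModule.lTensor C M φ).rTensor R (e z) := by
    intro z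
    induction z with
    | zero => simp
    | tmul m n =>
      induction m with
      | zero => simp
      | tmul a b => simp [e, e']
      | add a b ha hb => simp only [add_tmul, map_add, ha, hb]
    | add a b ha hb => simp only [map_add, ha, hb]
  intro a b hab
  refine e.injective (h1 ?_)
  rw [← h2, ← h2, hab]

section

variable (K A B R : Type u) [CommRing K] [CommRing A] [CommRing B] [CommRing R]
  [IsLocalRing K] [IsLocalRing A] [IsLocalRing B] [IsLocalRing R]
  [Algebra K A] [Algebra K B] [Algebra A R] [Algebra B R] [Algebra K R]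
  [IsScalarTower K A R] [IsScalarTower K B R]

/-- The map `B ⊗_K A → R`. -/
noncomputable abbrev pmap : B ⊗[K] A →+* R :=
  (Algebra.TensorProduct.productMap (IsScalarTower.toAlgHom K B R)
    (IsScalarTower.toAlgHom K A R)).toRingHom

variable (G : Type u) [AddCommGroup G] [Module B G] [Module K G] [IsScalarTower K B G] [Module.Flat K G]

omit [IsLocalRing K] [IsLocalRing A] [IsLocalRing B] [IsLocalRing R] in
theorem flat_left (hflat : (pmap K A B R).Flat) [SMulCommClass B A R] : Module.Flat A (R ⊗[B] G) := by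
  letI : Algebra (B ⊗[K] A) R := (pmap K A B R).toAlgebra
  haveI : Module.Flat (B ⊗[K] A) R := hflat
  haveI : IsScalarTower B (B ⊗[K] A) R := IsScalarTower.of_algebraMap_eq fun b => by
    show _ = pmap K A B R (b ⊗ₜ 1); simp
  haveI : IsScalarTower A (B ⊗[K] A) R := IsScalarTower.of_algebraMap_eq fun a => by
    show _ = pmap K A B R (1 ⊗ₜ a); simp
  let e : (B ⊗[K] A) ⊗[B] G ≃ₗ[K] A ⊗[K] G :=
    (((TensorProduct.comm B (B ⊗[K] A) G).trans
      (AlgebraTensorModule.cancelBaseChange K B B G A)).restrictScalars K).trans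
      (TensorProduct.comm K G A)
  have he : ∀ (a : A) z, e (a • z) = a • e z := by
    intro a z
    induction z with
    | zero => simp
    | add u v hu hv => rw [smul_add, map_add, map_add, smul_add, hu, hv]
    | tmul c g =>
      induction c with
      | zero => simp
      | add c d hc hd => rw [add_tmul, smul_add, map_add, map_add, smul_add, hc, hd]
      | tmul b a' =>
        rw [smul_tmul', Algebra.smul_def,
          show algebraMap A (B ⊗[K] A) a * (b ⊗ₜ a') = b ⊗ₜ (a * a') by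
            show ((1 : B) ⊗ₜ[K] a) * (b ⊗ₜ a') = _
            rw [Algebra.TensorProduct.tmul_mul_tmul, one_mul]]
        show (a * a') ⊗ₜ (b • g) = a • (a' ⊗ₜ[K] (b • g))
        rw [smul_tmul']
        rfl
  haveI : Module.Flat A ((B ⊗[K] A) ⊗[B] G) :=
    Module.Flat.of_linearEquiv (LinearEquiv.ofBijective
      ({ e.toLinearMap with map_smul' := he } : _ →ₗ[A] _) e.bijective)
  haveI := flat_tensor_left A (B ⊗[K] A) R ((B ⊗[K] A) ⊗[B] G)
  exact Module.Flat.of_linearEquiv
    (((TensorProduct.comm (B ⊗[K] A) ((B ⊗[K] A) ⊗[B] G) R).trans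
      ((AlgebraTensorModule.cancelBaseChange B (B ⊗[K] A) R R G).restrictScalars (B ⊗[K] A))).restrictScalars A).symm

variable [IsLocalHom (algebraMap K A)] [IsLocalHom (algebraMap K B)] [IsLocalHom (algebraMap A R)]
  [IsLocalHom (algebraMap B R)]

omit [Module.Flat K G] in
theorem killed_two_aux [IsNoetherianRing B] (hflat : (pmap K A B R).Flat) :
    Killed R ((R ⊗[B] G) ⊗[A] (A ⧸ maximalIdeal A)) ↔
      Killed B (G ⧸ ((maximalIdeal K).map (algebraMap K B) • (⊤ : Submodule B G))) ∧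
      Killed R (R ⧸ ((maximalIdeal A).map (algebraMap A R) ⊔ (maximalIdeal B).map (algebraMap B R))) := by
  set J₁ := (maximalIdeal A).map (algebraMap A R) with hJ₁
  set J₂ := (maximalIdeal B).map (algebraMap B R) with hJ₂
  set mKB := (maximalIdeal K).map (algebraMap K B) with hmKB
  have hJ₁R : J₁ ≤ maximalIdeal R :=
    (Ideal.map_le_iff_le_comap (K := maximalIdeal R)).2 fun r hr => map_nonunit _ r hr
  haveI : Nontrivial (R ⧸ J₁) :=
    Ideal.Quotient.nontrivial_iff.2 fun h => (maximalIdeal.isMaximal R).ne_top (top_le_iff.1 (h ▸ hJ₁R))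
  haveI : IsLocalRing (R ⧸ J₁) := IsLocalRing.of_surjective' _ Ideal.Quotient.mk_surjective
  haveI : Nontrivial (B ⧸ mKB) :=
    Ideal.Quotient.nontrivial_iff.2 fun h => (maximalIdeal.isMaximal B).ne_top (top_le_iff.1 (h ▸
      (Ideal.map_le_iff_le_comap (K := maximalIdeal B)).2 fun r hr => map_nonunit _ r hr))
  haveI : IsLocalRing (B ⧸ mKB) := IsLocalRing.of_surjective' _ Ideal.Quotient.mk_surjective
  have hKJ : mKB ≤ J₁.comap (algebraMap B R) := by
    rw [hmKB, Ideal.map_le_iff_le_comap]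
    intro k hk
    show algebraMap B R (algebraMap K B k) ∈ J₁
    rw [← IsScalarTower.algebraMap_apply, IsScalarTower.algebraMap_apply K A R]
    exact Ideal.mem_map_of_mem _ (map_nonunit _ _ hk)
  let ψ : (B ⧸ mKB) →+* (R ⧸ J₁) :=
    Ideal.Quotient.lift _ ((Ideal.Quotient.mk J₁).comp (algebraMap B R))
      fun b hb => Ideal.Quotient.eq_zero_iff_mem.2 (hKJ hb)
  letI : Algebra (B ⧸ mKB) (R ⧸ J₁) := ψ.toAlgebra
  haveI : IsScalarTower B (B ⧸ mKB) (R ⧸ J₁) := IsScalarTower.of_algebraMap_eq fun _ => rfl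
  haveI : IsNoetherianRing (B ⧸ mKB) := isNoetherianRing_of_surjective B (B ⧸ mKB) (Ideal.Quotient.mk mKB) Ideal.Quotient.mk_surjective
  have hmkB : Function.Surjective (algebraMap B (B ⧸ mKB)) := Ideal.Quotient.mk_surjective
  have hmkR : Function.Surjective (algebraMap R (R ⧸ J₁)) := Ideal.Quotient.mk_surjective
  haveI : IsLocalHom (algebraMap (B ⧸ mKB) (R ⧸ J₁)) := by
    refine ⟨fun d hd => ?_⟩
    obtain ⟨b, rfl⟩ := hmkB d
    haveI : IsLocalHom (Ideal.Quotient.mk J₁) :=
      IsLocalHom.of_surjective _ Ideal.Quotient.mk_surjective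
    exact (IsUnit.of_map (algebraMap B R) b (IsUnit.of_map (Ideal.Quotient.mk J₁) _ hd)).map _
  -- flatness over the fibre ring
  haveI : Module.Flat (B ⧸ mKB) (R ⧸ J₁) := by
    letI := Ideal.Quotient.field (maximalIdeal K)
    letI : Algebra (K ⧸ maximalIdeal K) (B ⧸ mKB) :=
      (Ideal.quotientMap mKB (algebraMap K B) Ideal.le_comap_map).toAlgebra
    haveI : IsScalarTower K (K ⧸ maximalIdeal K) (B ⧸ mKB) := IsScalarTower.of_algebraMap_eq fun _ => rfl
    letI : Algebra (K ⧸ maximalIdeal K) (A ⧸ maximalIdeal A) :=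
      (Ideal.quotientMap (maximalIdeal A) (algebraMap K A) fun k hk => map_nonunit _ k hk).toAlgebra
    haveI : IsScalarTower K (K ⧸ maximalIdeal K) (A ⧸ maximalIdeal A) :=
      IsScalarTower.of_algebraMap_eq fun _ => rfl
    haveI : TensorProduct.CompatibleSMul K (K ⧸ maximalIdeal K) (B ⧸ mKB) (A ⧸ maximalIdeal A) :=
      .of_algebraMap_surjective _ _ Ideal.Quotient.mk_surjective
    let eW : (B ⧸ mKB) ⊗[K ⧸ maximalIdeal K] (A ⧸ maximalIdeal A) ≃ₐ[B ⧸ mKB]
        (B ⧸ mKB) ⊗[K] (A ⧸ maximalIdeal A) :=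
      Algebra.TensorProduct.equivOfCompatibleSMul _ _ _ _ _
    haveI : Module.Flat (B ⧸ mKB) ((B ⧸ mKB) ⊗[K] (A ⧸ maximalIdeal A)) :=
      Module.Flat.of_linearEquiv eW.toLinearEquiv.symm
    let π : B ⊗[K] A →ₐ[K] (B ⧸ mKB) ⊗[K] (A ⧸ maximalIdeal A) :=
      Algebra.TensorProduct.map (IsScalarTower.toAlgHom K B (B ⧸ mKB))
        (IsScalarTower.toAlgHom K A (A ⧸ maximalIdeal A))
    have hπ : Function.Surjective π :=
      Algebra.TensorProduct.map_surjective (IsScalarTower.toAlgHom K B (B ⧸ mKB))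
        (IsScalarTower.toAlgHom K A (A ⧸ maximalIdeal A)) hmkB Ideal.Quotient.mk_surjective
    letI : Algebra (B ⊗[K] A) ((B ⧸ mKB) ⊗[K] (A ⧸ maximalIdeal A)) := π.toRingHom.toAlgebra
    letI : Algebra (B ⊗[K] A) R := (pmap K A B R).toAlgebra
    haveI : Module.Flat (B ⊗[K] A) R := hflat
    have hker : (RingHom.ker (algebraMap (B ⊗[K] A) ((B ⧸ mKB) ⊗[K] (A ⧸ maximalIdeal A)))).map
        (algebraMap (B ⊗[K] A) R) = J₁ := by
      show (RingHom.ker π).map (pmap K A B R) = J₁
      rw [Algebra.TensorProduct.map_ker _ _ hmkB Ideal.Quotient.mk_surjective]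
      rw [Ideal.map_sup]
      show ((RingHom.ker (Ideal.Quotient.mk mKB)).map _).map _ ⊔
        ((RingHom.ker (Ideal.Quotient.mk (maximalIdeal A))).map _).map _ = _
      rw [Ideal.mk_ker, Ideal.mk_ker]
      refine le_antisymm (sup_le ?_ ?_) ?_
      · rw [Ideal.map_le_iff_le_comap, Ideal.map_le_iff_le_comap]
        intro b hb
        show pmap K A B R (b ⊗ₜ 1) ∈ J₁
        simpa using hKJ hb
      · rw [Ideal.map_le_iff_le_comap, Ideal.map_le_iff_le_comap]
        intro a ha
        show pmap K A B R ((1 : B) ⊗ₜ a) ∈ J₁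
        simpa using Ideal.mem_map_of_mem (algebraMap A R) ha
      · refine le_trans ?_ le_sup_right
        rw [hJ₁, Ideal.map_le_iff_le_comap]
        intro a ha
        have := Ideal.mem_map_of_mem (pmap K A B R)
          (Ideal.mem_map_of_mem (Algebra.TensorProduct.includeRight : A →ₐ[K] B ⊗[K] A) ha)
        simpa using this
    let eR : ((B ⧸ mKB) ⊗[K] (A ⧸ maximalIdeal A)) ≃ₗ[B ⊗[K] A]
        ((B ⊗[K] A) ⧸ RingHom.ker (algebraMap (B ⊗[K] A) ((B ⧸ mKB) ⊗[K] (A ⧸ maximalIdeal A)))) :=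
      (Ideal.quotientKerAlgEquivOfSurjective
        (f := Algebra.ofId (B ⊗[K] A) ((B ⧸ mKB) ⊗[K] (A ⧸ maximalIdeal A))) hπ).toLinearEquiv.symm
    let e : ((B ⧸ mKB) ⊗[K] (A ⧸ maximalIdeal A)) ⊗[B ⊗[K] A] R ≃ₗ[B ⊗[K] A] R ⧸ J₁ :=
      ((TensorProduct.congr eR (LinearEquiv.refl _ R)).trans
        (TensorProduct.quotTensorEquivQuotSMul R _)).trans
        ((Submodule.quotEquivOfEq _ (J₁.restrictScalars (B ⊗[K] A))
          (by rw [← hker]; exact Ideal.smul_top_eq_map _)).trans
          (Submodule.Quotient.restrictScalarsEquiv _ _))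
    haveI : SMulCommClass (B ⊗[K] A) (B ⧸ mKB) ((B ⧸ mKB) ⊗[K] (A ⧸ maximalIdeal A)) :=
      ⟨fun c d w => by
        rw [Algebra.smul_def, Algebra.smul_def]
        exact mul_smul_comm d _ w⟩
    have he : ∀ (d : B ⧸ mKB) z, e (d • z) = d • e z := by
      intro d z
      obtain ⟨b, rfl⟩ := hmkB d
      have h1 : algebraMap B (B ⧸ mKB) b • z = (b ⊗ₜ[K] (1 : A)) • z := by
        induction z with
        | zero => simp
        | add u v hu hv => rw [smul_add, smul_add, hu, hv]
        | tmul w r =>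
          rw [smul_tmul', smul_tmul']
          congr 1
          show algebraMap B (B ⧸ mKB) b • w = π (b ⊗ₜ[K] (1 : A)) * w
          rw [Algebra.TensorProduct.map_tmul, map_one]
          exact (Algebra.smul_def (algebraMap B (B ⧸ mKB) b) w)
      rw [h1, map_smul, algebraMap_smul]
      generalize e z = w
      obtain ⟨r, rfl⟩ := Ideal.Quotient.mk_surjective w
      show (Submodule.Quotient.mk ((pmap K A B R) (b ⊗ₜ 1) * r) : R ⧸ J₁) = Submodule.Quotient.mk (b • r)
      rw [Algebra.smul_def]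
      simp
    haveI : Module.Flat (B ⧸ mKB) (((B ⧸ mKB) ⊗[K] (A ⧸ maximalIdeal A)) ⊗[B ⊗[K] A] R) :=
      Module.Flat.trans (B ⧸ mKB) ((B ⧸ mKB) ⊗[K] (A ⧸ maximalIdeal A)) _
    exact Module.Flat.of_linearEquiv (LinearEquiv.ofBijective
      ({ e.toLinearMap with map_smul' := he } : _ →ₗ[B ⧸ mKB] _) e.bijective).symm
  -- the computation
  haveI : SMulCommClass B A R := ⟨fun b a r => by
    rw [Algebra.smul_def, Algebra.smul_def, Algebra.smul_def, Algebra.smul_def, mul_left_comm]⟩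
  haveI : SMulCommClass A B R := SMulCommClass.symm _ _ _
  let e1 : (R ⊗[B] G) ⊗[A] (A ⧸ maximalIdeal A) ≃ₗ[R] (R ⊗[A] (A ⧸ maximalIdeal A)) ⊗[B] G :=
    AlgebraTensorModule.rightComm A B R R G (A ⧸ maximalIdeal A)
  let e2 : (R ⊗[A] (A ⧸ maximalIdeal A)) ⊗[B] G ≃ₗ[R] (R ⧸ J₁) ⊗[B] G :=
    AlgebraTensorModule.congr (Algebra.TensorProduct.quotIdealMapEquivTensorQuot R (maximalIdeal A)).toLinearEquiv.symm
      (LinearEquiv.refl B G)
  let e3 : (R ⧸ J₁) ⊗[B ⧸ mKB] ((B ⧸ mKB) ⊗[B] G) ≃ₗ[R ⧸ J₁] (R ⧸ J₁) ⊗[B] G :=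
    AlgebraTensorModule.cancelBaseChange B (B ⧸ mKB) (R ⧸ J₁) (R ⧸ J₁) G
  rw [Killed.congr (e1.trans e2), ← killed_iff_of_surj R (R ⧸ J₁) hmkR, ← Killed.congr e3,
    killed_tensor_iff (B ⧸ mKB) (R ⧸ J₁) (R ⧸ J₁) ((B ⧸ mKB) ⊗[B] G)]
  refine and_congr ?_ ?_
  · rw [killed_iff_of_surj B (B ⧸ mKB) hmkB]
    exact Killed.congr (TensorProduct.quotTensorEquivQuotSMul G mKB)
  · have hm : (maximalIdeal (B ⧸ mKB)).map (algebraMap (B ⧸ mKB) (R ⧸ J₁)) = J₂.map (Ideal.Quotient.mk J₁) := by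
      rw [hJ₂, Ideal.map_map]
      refine le_antisymm ?_ ?_
      · rw [Ideal.map_le_iff_le_comap]
        intro d hd
        obtain ⟨b, rfl⟩ := hmkB d
        exact Ideal.mem_map_of_mem _ (fun hu => hd (hu.map _))
      · rw [Ideal.map_le_iff_le_comap]
        intro b hb
        haveI : IsLocalHom (algebraMap B (B ⧸ mKB)) := IsLocalHom.of_surjective _ hmkB
        exact Ideal.mem_map_of_mem (algebraMap (B ⧸ mKB) (R ⧸ J₁)) (map_nonunit (algebraMap B (B ⧸ mKB)) b hb)
    rw [Killed.congr (Algebra.TensorProduct.quotIdealMapEquivTensorQuot (R ⧸ J₁)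
        (maximalIdeal (B ⧸ mKB))).toLinearEquiv.symm,
      killed_iff_of_surj R (R ⧸ J₁) hmkR]
    exact Killed.congr ((Ideal.quotientEquivAlgOfEq R hm).trans
      (DoubleQuot.quotQuotEquivQuotSupₐ R J₁ J₂)).toLinearEquiv

theorem killed_two_iff [IsNoetherianRing A] [IsNoetherianRing B] (hflat : (pmap K A B R).Flat)
    (F : Type u) [AddCommGroup F] [Module A F] :
    Killed R ((R ⊗[A] F) ⊗[R] (R ⊗[B] G)) ↔
      Killed A F ∧ Killed B (G ⧸ ((maximalIdeal K).map (algebraMap K B) • (⊤ : Submodule B G))) ∧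
      Killed R (R ⧸ ((maximalIdeal A).map (algebraMap A R) ⊔ (maximalIdeal B).map (algebraMap B R))) := by
  haveI : SMulCommClass B A R := ⟨fun b a r => by
    rw [Algebra.smul_def, Algebra.smul_def, Algebra.smul_def, Algebra.smul_def, mul_left_comm]⟩
  haveI := flat_left K A B R G hflat
  haveI : SMulCommClass A B R := SMulCommClass.symm _ _ _
  let E : ((R ⊗[A] F) ⊗[R] (R ⊗[B] G)) ≃ₗ[R] ((R ⊗[B] G) ⊗[A] F) :=
    (TensorProduct.comm R (R ⊗[A] F) (R ⊗[B] G)).trans
      (AlgebraTensorModule.cancelBaseChange A R R (R ⊗[B] G) F)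
  rw [show Killed R ((R ⊗[A] F) ⊗[R] (R ⊗[B] G)) ↔ Killed R ((R ⊗[B] G) ⊗[A] F) from Killed.congr E,
    killed_tensor_iff A R (R ⊗[B] G) F, killed_two_aux K A B R G hflat]

end

end Groth.Agent.AssSch12
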