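import Groth.Prelude.Def_FDesc
import Groth.Agent.AssSch12.TensorPoint
import Groth.Agent.AssSch12.TensorTwo
import Groth.Agent.AssSch12.FieldTensor
import Mathlib.AlgebraicGeometry.PullbackCarrier
import Mathlib.AlgebraicGeometry.Morphisms.Preimmersion

/-!
# Associated points of `p^*F ⊗ q^*G` on a fibre product
-/

set_option autoImplicit false
set_option linter.style.haveILetI false
set_option backward.isDefEq.respectTransparency false
universe u

open CategoryTheory CategoryTheory.Limits AlgebraicGeometry Opposite TopologicalSpace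
open IsLocalRing
open scoped TensorProduct

namespace Groth.Agent.AssSch12

theorem isPullback_comp_mono {W A B C D : Scheme.{u}} {a : W ⟶ A} {b : W ⟶ B} {u' : A ⟶ C}
    {v : B ⟶ C} (h : IsPullback a b u' v) (m : C ⟶ D) [Mono m] :
    IsPullback a b (u' ≫ m) (v ≫ m) :=
  IsPullback.of_isLimit' ⟨by rw [reassoc_of% h.w]⟩
    (PullbackCone.IsLimit.mk _
      (fun s => h.lift s.fst s.snd (by rw [← cancel_mono m, Category.assoc, Category.assoc, s.condition]))
      (fun s => h.lift_fst _ _ _) (fun s => h.lift_snd _ _ _)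
      (fun s k h1 h2 => h.hom_ext (h1.trans (h.lift_fst _ _ _).symm) (h2.trans (h.lift_snd _ _ _).symm)))

section Point

variable {X Y S : Scheme.{u}} (f : X ⟶ S) (g : Y ⟶ S) (z : ↑(pullback f g))

theorem fst_snd_eq : f (pullback.fst f g z) = g (pullback.snd f g z) := by
  rw [← Scheme.Hom.comp_apply, ← Scheme.Hom.comp_apply, pullback.condition]

/-- The map `O_{S,g y} → O_{X,x}`. -/
noncomputable def baseToX :
    S.presheaf.stalk (g (pullback.snd f g z)) ⟶ X.presheaf.stalk (pullback.fst f g z) :=
  S.presheaf.stalkSpecializes (Inseparable.of_eq (fst_snd_eq f g z)).specializes ≫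
    f.stalkMap (pullback.fst f g z)

theorem isLocalHom_baseToX : IsLocalHom (baseToX f g z).hom := by
  have : IsIso (S.presheaf.stalkSpecializes (Inseparable.of_eq (fst_snd_eq f g z)).specializes) :=
    inferInstanceAs (IsIso (S.presheaf.stalkCongr (Inseparable.of_eq (fst_snd_eq f g z)).symm).hom)
  unfold baseToX
  rw [CommRingCat.hom_comp]
  infer_instance

theorem specMap_baseToX :
    Spec.map (baseToX f g z) ≫ S.fromSpecStalk _ =
      X.fromSpecStalk (pullback.fst f g z) ≫ f := by
  rw [baseToX, Spec.map_comp, Category.assoc, Scheme.SpecMap_stalkSpecializes_fromSpecStalk,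
    Scheme.SpecMap_stalkMap_fromSpecStalk]

theorem baseToX_comp :
    baseToX f g z ≫ (pullback.fst f g).stalkMap z =
      g.stalkMap (pullback.snd f g z) ≫ (pullback.snd f g).stalkMap z := by
  apply Spec.map_injective
  rw [Spec.map_comp, Spec.map_comp, ← cancel_mono (S.fromSpecStalk (g (pullback.snd f g z))),
    Category.assoc, Category.assoc, specMap_baseToX, Scheme.SpecMap_stalkMap_fromSpecStalk,
    reassoc_of% (Scheme.SpecMap_stalkMap_fromSpecStalk (pullback.fst f g) (x := z)),
    reassoc_of% (Scheme.SpecMap_stalkMap_fromSpecStalk (pullback.snd f g) (x := z)),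
    pullback.condition]

/-- The ideal `m_x + m_y` of the local ring at `z`. -/
noncomputable def bothIdeal : Ideal ((pullback f g).presheaf.stalk z) :=
  (maximalIdeal (X.presheaf.stalk (pullback.fst f g z))).map ((pullback.fst f g).stalkMap z).hom ⊔
    (maximalIdeal (Y.presheaf.stalk (pullback.snd f g z))).map ((pullback.snd f g).stalkMap z).hom

/-- The criterion on `Spec κ(x) ×_S Spec κ(y)`. -/
def BothKilled : Prop :=
  Killed ((pullback f g).presheaf.stalk z) ((pullback f g).presheaf.stalk z ⧸ bothIdeal f g z)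

omit z in
/-- `B ⊗_K A → R` is flat for local rings of a fibre product. -/
theorem flat_pmap_of_mono (K A B R : Type u) [CommRing K] [CommRing A] [CommRing B] [CommRing R]
    [Algebra K A] [Algebra K B] [Algebra A R] [Algebra B R] [Algebra K R]
    [IsScalarTower K A R] [IsScalarTower K B R]
    (m : Spec (CommRingCat.of K) ⟶ S) (a : Spec (CommRingCat.of A) ⟶ X) [Mono a]
    (b : Spec (CommRingCat.of B) ⟶ Y) [Mono b]
    (hA : a ≫ f = Spec.map (CommRingCat.ofHom (algebraMap K A)) ≫ m)
    (hB : b ≫ g = Spec.map (CommRingCat.ofHom (algebraMap K B)) ≫ m)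
    (c : Spec (CommRingCat.of R) ⟶ pullback f g) [Flat c]
    (hca : c ≫ pullback.fst f g = Spec.map (CommRingCat.ofHom (algebraMap A R)) ≫ a)
    (hcb : c ≫ pullback.snd f g = Spec.map (CommRingCat.ofHom (algebraMap B R)) ≫ b) :
    (pmap K A B R).Flat := by
  let iL : CommRingCat.of B ⟶ CommRingCat.of (B ⊗[K] A) :=
    CommRingCat.ofHom Algebra.TensorProduct.includeLeftRingHom
  let iR : CommRingCat.of A ⟶ CommRingCat.of (B ⊗[K] A) :=
    CommRingCat.ofHom Algebra.TensorProduct.includeRight.toRingHom
  have sq : IsPullback (Spec.map iL) (Spec.map iR)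
      (Spec.map (CommRingCat.ofHom (algebraMap K B))) (Spec.map (CommRingCat.ofHom (algebraMap K A))) :=
    isPullback_SpecMap_of_isPushout _ _ _ _ (CommRingCat.isPushout_tensorProduct K B A)
  let j : Spec (CommRingCat.of (B ⊗[K] A)) ⟶ pullback f g :=
    pullback.lift (Spec.map iR ≫ a) (Spec.map iL ≫ b) (by
      rw [Category.assoc, Category.assoc, hA, hB, reassoc_of% sq.w])
  haveI : Mono j := ⟨fun u v huv => by
    apply sq.hom_ext
    · rw [← cancel_mono b]
      simpa [j] using congrArg (· ≫ pullback.snd f g) huv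
    · rw [← cancel_mono a]
      simpa [j] using congrArg (· ≫ pullback.fst f g) huv⟩
  let φ : CommRingCat.of (B ⊗[K] A) ⟶ CommRingCat.of R := CommRingCat.ofHom (pmap K A B R)
  have eR : iR ≫ φ = CommRingCat.ofHom (algebraMap A R) := by
    ext r
    show pmap K A B R ((1 : B) ⊗ₜ r) = _
    simp
  have eL : iL ≫ φ = CommRingCat.ofHom (algebraMap B R) := by
    ext r
    show pmap K A B R (r ⊗ₜ (1 : A)) = _
    simp
  have hb : Spec.map φ ≫ j = c := by
    apply pullback.hom_ext
    · rw [Category.assoc, pullback.lift_fst, ← Category.assoc, ← Spec.map_comp, eR, hca]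
    · rw [Category.assoc, pullback.lift_snd, ← Category.assoc, ← Spec.map_comp, eL, hcb]
  have hsq : IsPullback (𝟙 _) (Spec.map φ) c j :=
    IsPullback.of_isLimit' ⟨by rw [Category.id_comp, hb]⟩
      (PullbackCone.IsLimit.mk _ (fun s => s.fst) (fun s => Category.comp_id _)
        (fun s => by rw [← cancel_mono j, Category.assoc, hb, s.condition])
        (fun s k h1 _ => by rw [← h1, Category.comp_id]))
  have hflat : Flat (Spec.map φ) := MorphismProperty.of_isPullback hsq inferInstance
  exact (Flat.SpecMap_iff (f := φ)).1 hflat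

/-- Associated points of `p^*F ⊗ q^*G`, pointwise. -/
theorem mem_ass_two_iff [IsLocallyNoetherian X] [IsLocallyNoetherian Y]
    [IsLocallyNoetherian (pullback f g)] (F : X.Modules) (G : Y.Modules)
    (hG : FlatMod.IsFlatOverAt g G (pullback.snd f g z)) :
    z ∈ AssSch.Ass (CohB1.tensorMod ((Scheme.Modules.pullback (pullback.fst f g)).obj F)
        ((Scheme.Modules.pullback (pullback.snd f g)).obj G)) ↔
      pullback.fst f g z ∈ AssSch.Ass F ∧ FibKilled g (pullback.snd f g z) G ∧ BothKilled f g z := by
  set x := pullback.fst f g z with hx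
  set y := pullback.snd f g z with hy
  let K := S.presheaf.stalk (g y)
  letI aKA : Algebra K (X.presheaf.stalk x) := (baseToX f g z).hom.toAlgebra
  letI aKB : Algebra K (Y.presheaf.stalk y) := (g.stalkMap y).hom.toAlgebra
  letI aAR : Algebra (X.presheaf.stalk x) ((pullback f g).presheaf.stalk z) :=
    ((pullback.fst f g).stalkMap z).hom.toAlgebra
  letI aBR : Algebra (Y.presheaf.stalk y) ((pullback f g).presheaf.stalk z) :=
    ((pullback.snd f g).stalkMap z).hom.toAlgebra
  letI aKR : Algebra K ((pullback f g).presheaf.stalk z) :=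
    (g.stalkMap y ≫ (pullback.snd f g).stalkMap z).hom.toAlgebra
  haveI : IsScalarTower K (Y.presheaf.stalk y) ((pullback f g).presheaf.stalk z) :=
    IsScalarTower.of_algebraMap_eq fun r => rfl
  haveI : IsScalarTower K (X.presheaf.stalk x) ((pullback f g).presheaf.stalk z) :=
    IsScalarTower.of_algebraMap_eq fun r => (ConcreteCategory.congr_hom (baseToX_comp f g z) r).symm
  haveI : IsLocalHom (algebraMap K (X.presheaf.stalk x)) := isLocalHom_baseToX f g z
  haveI : IsLocalHom (algebraMap K (Y.presheaf.stalk y)) := inferInstanceAs (IsLocalHom (g.stalkMap y).hom)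
  haveI : IsLocalHom (algebraMap (X.presheaf.stalk x) ((pullback f g).presheaf.stalk z)) :=
    inferInstanceAs (IsLocalHom ((pullback.fst f g).stalkMap z).hom)
  haveI : IsLocalHom (algebraMap (Y.presheaf.stalk y) ((pullback f g).presheaf.stalk z)) :=
    inferInstanceAs (IsLocalHom ((pullback.snd f g).stalkMap z).hom)
  letI : Module K (G.presheaf.stalk y) := FlatMod.moduleStalkOver g G y
  haveI : IsScalarTower K (Y.presheaf.stalk y) (G.presheaf.stalk y) := IsScalarTower.of_compHom _ _ _
  haveI : Module.Flat K (G.presheaf.stalk y) := hG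
  haveI : Flat ((pullback f g).fromSpecStalk z) := Props12.flat_fromSpecStalk z
  have hflat : (pmap K (X.presheaf.stalk x) (Y.presheaf.stalk y) ((pullback f g).presheaf.stalk z)).Flat :=
    flat_pmap_of_mono f g K (X.presheaf.stalk x) (Y.presheaf.stalk y) ((pullback f g).presheaf.stalk z)
      (S.fromSpecStalk (g y)) (X.fromSpecStalk x) (Y.fromSpecStalk y)
      (specMap_baseToX f g z).symm (Scheme.SpecMap_stalkMap_fromSpecStalk g (x := y)).symm
      ((pullback f g).fromSpecStalk z) (Scheme.SpecMap_stalkMap_fromSpecStalk (pullback.fst f g) (x := z)).symm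
      (Scheme.SpecMap_stalkMap_fromSpecStalk (pullback.snd f g) (x := z)).symm
  rw [killed_stalk_iff, killed_stalk_iff, fibKilled_iff]
  let P := (Scheme.Modules.pullback (pullback.fst f g)).obj F
  let Q := (Scheme.Modules.pullback (pullback.snd f g)).obj G
  let e0 : (CohB1.tensorMod P Q).presheaf.stalk z ≃ₗ[(pullback f g).presheaf.stalk z]
      ((P.presheaf.stalk z) ⊗[(pullback f g).presheaf.stalk z] (Q.presheaf.stalk z)) :=
    (ModStalk.stalkTensorIso z P Q).toLinearEquiv
  let e1 : P.presheaf.stalk z ≃ₗ[(pullback f g).presheaf.stalk z]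
      ((pullback f g).presheaf.stalk z) ⊗[X.presheaf.stalk x] (F.presheaf.stalk x) :=
    ((ModStalk.pullbackStalkIso (pullback.fst f g) z).app F).toLinearEquiv
  let e2 : Q.presheaf.stalk z ≃ₗ[(pullback f g).presheaf.stalk z]
      ((pullback f g).presheaf.stalk z) ⊗[Y.presheaf.stalk y] (G.presheaf.stalk y) :=
    ((ModStalk.pullbackStalkIso (pullback.snd f g) z).app G).toLinearEquiv
  refine (Killed.congr (e0.trans (TensorProduct.congr e1 e2))).trans
    ((killed_two_iff K (X.presheaf.stalk x) (Y.presheaf.stalk y) ((pullback f g).presheaf.stalk z)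
      (G.presheaf.stalk y) hflat (F.presheaf.stalk x)).trans (and_congr Iff.rfl (and_congr ?_ Iff.rfl)))
  constructor
  · rintro ⟨w, hw, hk⟩
    obtain ⟨w, rfl⟩ := Submodule.mkQ_surjective _ w
    exact ⟨w, fun h => hw ((Submodule.Quotient.mk_eq_zero _).2 h),
      fun b hb => (Submodule.Quotient.mk_eq_zero _).1 (hk b hb)⟩
  · rintro ⟨w, hw, hk⟩
    exact ⟨Submodule.Quotient.mk w, fun h => hw ((Submodule.Quotient.mk_eq_zero _).1 h),
      fun b hb => (Submodule.Quotient.mk_eq_zero _).2 (hk b hb)⟩

end Point

/-- The value of `1` in the stalk of the structure module. -/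
noncomputable def unitOne {X : Scheme.{u}} (x : X) : (Coh.structureModule X).presheaf.stalk x :=
  (Coh.structureModule X).presheaf.germ ⊤ x trivial (show Γ(X, ⊤) from 1)

theorem germ_eq_smul_unitOne {X : Scheme.{u}} (x : X) {U : X.Opens} (hx : x ∈ U) (s : Γ(X, U)) :
    (Coh.structureModule X).presheaf.germ U x hx (show Γ(Coh.structureModule X, U) from s) =
      X.presheaf.germ U x hx s • unitOne x := by
  have e : unitOne x =
      (Coh.structureModule X).presheaf.germ U x hx (show Γ(Coh.structureModule X, U) from (1 : Γ(X, U))) := by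
    rw [unitOne, ← TopCat.Presheaf.germ_res_apply (Coh.structureModule X).presheaf (homOfLE le_top) x hx]
    exact congrArg _ (map_one (X.presheaf.map (homOfLE (le_top : U ≤ ⊤)).op).hom)
  rw [e, ← QCohLoc.germ_smul']
  exact congrArg _ (mul_one s).symm

theorem bijective_smul_unitOne {X : Scheme.{u}} (x : X) :
    Function.Bijective fun r : X.presheaf.stalk x => r • unitOne x := by
  constructor
  · suffices h : ∀ r : X.presheaf.stalk x, r • unitOne x = 0 → r = 0 from fun a b hab =>
      sub_eq_zero.1 (h _ (by rw [sub_smul]; exact sub_eq_zero.2 hab))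
    intro r hr
    obtain ⟨U, hx, s, rfl⟩ := X.presheaf.exists_germ_eq r
    rw [← germ_eq_smul_unitOne] at hr
    obtain ⟨V, hxV, i, i', e⟩ := TopCat.Presheaf.germ_eq (Coh.structureModule X).presheaf x hx hx
      (show Γ(Coh.structureModule X, U) from s) 0 (hr.trans (map_zero _).symm)
    replace e : X.presheaf.map i.op s = 0 := e.trans (map_zero _)
    rw [← TopCat.Presheaf.germ_res_apply X.presheaf i x hxV s, e, map_zero]
  · intro m
    obtain ⟨U, hx, s, rfl⟩ := (Coh.structureModule X).presheaf.exists_germ_eq m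
    exact ⟨X.presheaf.germ U x hx s, (germ_eq_smul_unitOne x hx s).symm⟩

theorem killed_structureModule_iff {X : Scheme.{u}} (x : X) :
    Killed (X.presheaf.stalk x) ((Coh.structureModule X).presheaf.stalk x) ↔
      Killed (X.presheaf.stalk x) (X.presheaf.stalk x) :=
  (Killed.congr (LinearEquiv.ofBijective (LinearMap.toSpanSingleton (X.presheaf.stalk x) _ (unitOne x))
    (bijective_smul_unitOne x))).symm

/-- Through a point with residue field `κ(w)`, the maximal ideal maps into the kernel. -/
theorem map_maximalIdeal_le_ker {T P W : Scheme.{u}} (j : T ⟶ P) (p : P ⟶ W) {w : W}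
    (r : T ⟶ Spec (W.residueField w)) (hfac0 : j ≫ p = r ≫ W.fromSpecResidueField w) (t : T) :
    (maximalIdeal (W.presheaf.stalk (p (j t)))).map (p.stalkMap (j t)).hom ≤
      RingHom.ker (j.stalkMap t).hom := by
  have hw : p (j t) = w := by
    rw [← Scheme.Hom.comp_apply, hfac0, Scheme.Hom.comp_apply]
    exact (W.range_fromSpecResidueField w).le ⟨_, rfl⟩
  rw [Ideal.map_le_iff_le_comap]
  intro b hb
  have hfac : j ≫ p = (r ≫ Spec.map (W.residueFieldCongr hw).hom) ≫ W.fromSpecResidueField (p (j t)) := by
    rw [Category.assoc, Scheme.residueFieldCongr_fromSpecResidueField, hfac0]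
  have h1 : Spec.map (p.stalkMap (j t) ≫ j.stalkMap t) ≫ W.fromSpecStalk (p (j t)) =
      T.fromSpecStalk t ≫ (r ≫ Spec.map (W.residueFieldCongr hw).hom) ≫
        Spec.map (W.residue (p (j t))) ≫ W.fromSpecStalk (p (j t)) := by
    rw [Spec.map_comp, Category.assoc, Scheme.SpecMap_stalkMap_fromSpecStalk,
      reassoc_of% (Scheme.SpecMap_stalkMap_fromSpecStalk j (x := t)), hfac]
    rfl
  rw [← Category.assoc (T.fromSpecStalk t), ← Category.assoc (_ ≫ _), cancel_mono] at h1
  obtain ⟨ψ, hψ⟩ := Spec.homEquiv.symm.surjective (T.fromSpecStalk t ≫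
    r ≫ Spec.map (W.residueFieldCongr hw).hom)
  rw [← hψ] at h1
  have h2 := Spec.map_injective (h1.trans (Spec.map_comp _ _).symm)
  have h3 := ConcreteCategory.congr_hom h2 b
  refine h3.trans ?_
  rw [ConcreteCategory.comp_apply, show W.residue (p (j t)) b = 0 from
    Ideal.Quotient.eq_zero_iff_mem.mpr hb, map_zero]

/-- A product of two spectra of fields over a field: no proper generalisation of an associated point. -/
theorem eq_of_specializes_of_fields {T D : Scheme.{u}} (k K L : Type u) [Field k] [Field K] [Field L]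
    [Algebra k K] [Algebra k L] (m : Spec (CommRingCat.of k) ⟶ D) [Mono m]
    {a : Spec (CommRingCat.of K) ⟶ D} {b : Spec (CommRingCat.of L) ⟶ D}
    (ha : a = Spec.map (CommRingCat.ofHom (algebraMap k K)) ≫ m)
    (hb : b = Spec.map (CommRingCat.ofHom (algebraMap k L)) ≫ m)
    {p : T ⟶ Spec (CommRingCat.of K)} {q : T ⟶ Spec (CommRingCat.of L)} (h : IsPullback p q a b)
    {t₁ t₂ : T} (hs : t₁ ⤳ t₂) (hK : Killed (T.presheaf.stalk t₂) (T.presheaf.stalk t₂)) :
    t₁ = t₂ := by
  subst ha hb
  have sq : IsPullback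
      (Spec.map (CommRingCat.ofHom (Algebra.TensorProduct.includeLeftRingHom : L →+* L ⊗[k] K)))
      (Spec.map (CommRingCat.ofHom (Algebra.TensorProduct.includeRight.toRingHom : K →+* L ⊗[k] K)))
      (Spec.map (CommRingCat.ofHom (algebraMap k L))) (Spec.map (CommRingCat.ofHom (algebraMap k K))) :=
    isPullback_SpecMap_of_isPushout _ _ _ _ (CommRingCat.isPushout_tensorProduct k L K)
  let e : T ≅ Spec (CommRingCat.of (L ⊗[k] K)) :=
    h.isoIsPullback _ _ ((isPullback_comp_mono sq m).flip)
  have key : ∀ q₁ q₂ : Spec (CommRingCat.of (L ⊗[k] K)), q₁ ⤳ q₂ →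
      Killed ((Spec (CommRingCat.of (L ⊗[k] K))).presheaf.stalk q₂)
        ((Spec (CommRingCat.of (L ⊗[k] K))).presheaf.stalk q₂) → q₁ = q₂ := by
    intro q₁ q₂ hq hK'
    obtain ⟨w, hw, hwk⟩ := hK'
    letI : Algebra (L ⊗[k] K) ((Spec (CommRingCat.of (L ⊗[k] K))).presheaf.stalk q₂) :=
      (StructureSheaf.toStalk (L ⊗[k] K) q₂).hom.toAlgebra
    haveI : IsLocalization.AtPrime ((Spec (CommRingCat.of (L ⊗[k] K))).presheaf.stalk q₂) q₂.asIdeal :=
      StructureSheaf.IsLocalization.to_stalk (L ⊗[k] K) q₂
    let W' := (Spec (CommRingCat.of (L ⊗[k] K))).presheaf.stalk q₂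
    obtain ⟨a, u, rfl⟩ := IsLocalization.exists_mk'_eq q₂.asIdeal.primeCompl (S := W') w
    apply PrimeSpectrum.ext
    haveI := q₁.isPrime
    haveI := q₂.isPrime
    refine eq_of_le_of_weakAss k K L
      q₁.asIdeal q₂.asIdeal ((PrimeSpectrum.le_iff_specializes q₁ q₂).2 hq) a (fun v hv hva => hw ?_)
      fun r hr => ?_
    · exact (IsLocalization.mk'_eq_zero_iff a u).2 ⟨⟨v, hv⟩, hva⟩
    · have h0 := hwk (algebraMap (L ⊗[k] K) W' r)
        ((IsLocalRing.mem_maximalIdeal _).2 fun hu =>
          (IsLocalization.AtPrime.isUnit_to_map_iff W' q₂.asIdeal r).1 hu hr)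
      rw [smul_eq_mul] at h0
      erw [IsLocalization.mul_mk'_eq_mk'_of_mul] at h0
      obtain ⟨⟨v, hv⟩, hva⟩ := (IsLocalization.mk'_eq_zero_iff _ u).1 h0
      exact ⟨v, hv, by rw [mul_assoc]; exact hva⟩
  apply e.hom.isOpenEmbedding.injective
  refine key _ _ (hs.map e.hom.continuous) ?_
  obtain ⟨w, hw, hwk⟩ := hK
  have hb : Function.Bijective (e.hom.stalkMap t₂).hom := ConcreteCategory.bijective_of_isIso (e.hom.stalkMap t₂)
  obtain ⟨w', rfl⟩ := hb.2 w
  refine ⟨w', fun h0 => hw (by rw [h0, map_zero]), fun r hr => hb.1 ?_⟩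
  rw [smul_eq_mul, map_mul, map_zero]
  exact hwk _ (map_nonunit (e.hom.stalkMap t₂).hom r hr)

section Residue

variable {X Y S : Scheme.{u}} (f : X ⟶ S) (g : Y ⟶ S) (x : X) (y : Y)

/-- `Spec κ(x) ×_S Spec κ(y)`. -/
noncomputable abbrev resProd : Scheme.{u} :=
  pullback (X.fromSpecResidueField x ≫ f) (Y.fromSpecResidueField y ≫ g)

/-- The monomorphism into the fibre product. -/
noncomputable abbrev resι : resProd f g x y ⟶ pullback f g :=
  pullback.map (X.fromSpecResidueField x ≫ f) (Y.fromSpecResidueField y ≫ g) f g (X.fromSpecResidueField x)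
    (Y.fromSpecResidueField y) (𝟙 S) (Category.comp_id _) (Category.comp_id _)

instance isPreimmersion_resι : IsPreimmersion (resι f g x y) := by
  exact MorphismProperty.pullbackMap (P := @IsPreimmersion) inferInstance inferInstance rfl rfl

theorem fst_resι (t : resProd f g x y) : pullback.fst f g (resι f g x y t) = x := by
  rw [← Scheme.Hom.comp_apply, pullback.lift_fst, Scheme.Hom.comp_apply]
  exact (X.range_fromSpecResidueField x).le ⟨_, rfl⟩

theorem snd_resι (t : resProd f g x y) : pullback.snd f g (resι f g x y t) = y := by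
  rw [← Scheme.Hom.comp_apply, pullback.lift_snd, Scheme.Hom.comp_apply]
  exact (Y.range_fromSpecResidueField y).le ⟨_, rfl⟩

theorem exists_resι_eq (z : ↑(pullback f g)) (hx : pullback.fst f g z = x) (hy : pullback.snd f g z = y) :
    ∃ t, resι f g x y t = z := by
  have : z ∈ Set.range (resι f g x y) := by
    rw [Scheme.Pullback.range_map, X.range_fromSpecResidueField, Y.range_fromSpecResidueField]
    exact ⟨hx, hy⟩
  exact this

variable {x y} in
theorem ker_stalkMap_of_isPullback {T : Scheme.{u}} (j : T ⟶ pullback f g) [IsPreimmersion j]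
    (rx : T ⟶ Spec (X.residueField x)) (ry : T ⟶ Spec (Y.residueField y))
    (h : IsPullback rx ry (X.fromSpecResidueField x ≫ f) (Y.fromSpecResidueField y ≫ g))
    (hjx : j ≫ pullback.fst f g = rx ≫ X.fromSpecResidueField x)
    (hjy : j ≫ pullback.snd f g = ry ≫ Y.fromSpecResidueField y) (t : T) :
    RingHom.ker (j.stalkMap t).hom = bothIdeal f g (j t) := by
  apply le_antisymm
  · have hx : pullback.fst f g (j t) = x := by
      rw [← Scheme.Hom.comp_apply, hjx, Scheme.Hom.comp_apply]
      exact (X.range_fromSpecResidueField x).le ⟨_, rfl⟩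
    have hy : pullback.snd f g (j t) = y := by
      rw [← Scheme.Hom.comp_apply, hjy, Scheme.Hom.comp_apply]
      exact (Y.range_fromSpecResidueField y).le ⟨_, rfl⟩
    set z := j t with hz
    set I := bothIdeal f g z with hIdef
    intro a ha
    have hI : I ≤ maximalIdeal ((pullback f g).presheaf.stalk z) := by
      rw [hIdef, bothIdeal]
      refine sup_le ?_ ?_
      · rw [Ideal.map_le_iff_le_comap]
        exact fun b hb => map_nonunit ((pullback.fst f g).stalkMap z).hom b hb
      · rw [Ideal.map_le_iff_le_comap]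
        exact fun b hb => map_nonunit ((pullback.snd f g).stalkMap z).hom b hb
    have : Nontrivial ((pullback f g).presheaf.stalk z ⧸ I) :=
      Ideal.Quotient.nontrivial_iff.mpr fun h ↦
        (maximalIdeal.isMaximal ((pullback f g).presheaf.stalk z)).ne_top (top_le_iff.mp (h ▸ hI))
    have : IsLocalRing ((pullback f g).presheaf.stalk z ⧸ I) :=
      IsLocalRing.of_surjective' (Ideal.Quotient.mk I) Ideal.Quotient.mk_surjective
    let q : (pullback f g).presheaf.stalk z ⟶ CommRingCat.of ((pullback f g).presheaf.stalk z ⧸ I) :=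
      CommRingCat.ofHom (Ideal.Quotient.mk I)
    have : IsLocalHom q.hom := IsLocalHom.of_surjective (Ideal.Quotient.mk I) Ideal.Quotient.mk_surjective
    have hI1 : ∀ b ∈ maximalIdeal (X.presheaf.stalk (pullback.fst f g z)),
        Ideal.Quotient.mk I (((pullback.fst f g).stalkMap z).hom b) = 0 := fun b hb => by
      rw [Ideal.Quotient.eq_zero_iff_mem, hIdef, bothIdeal]
      exact Ideal.mem_sup_left (Ideal.mem_map_of_mem _ hb)
    have hI2 : ∀ b ∈ maximalIdeal (Y.presheaf.stalk (pullback.snd f g z)),
        Ideal.Quotient.mk I (((pullback.snd f g).stalkMap z).hom b) = 0 := fun b hb => by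
      rw [Ideal.Quotient.eq_zero_iff_mem, hIdef, bothIdeal]
      exact Ideal.mem_sup_right (Ideal.mem_map_of_mem _ hb)
    let κx : X.residueField (pullback.fst f g z) ⟶ CommRingCat.of ((pullback f g).presheaf.stalk z ⧸ I) :=
      CommRingCat.ofHom (Ideal.Quotient.lift (maximalIdeal (X.presheaf.stalk (pullback.fst f g z)))
        ((Ideal.Quotient.mk I).comp ((pullback.fst f g).stalkMap z).hom) hI1)
    let κy : Y.residueField (pullback.snd f g z) ⟶ CommRingCat.of ((pullback f g).presheaf.stalk z ⧸ I) :=
      CommRingCat.ofHom (Ideal.Quotient.lift (maximalIdeal (Y.presheaf.stalk (pullback.snd f g z)))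
        ((Ideal.Quotient.mk I).comp ((pullback.snd f g).stalkMap z).hom) hI2)
    have ex : (Spec.map κx ≫ Spec.map (X.residueFieldCongr hx.symm).hom) ≫ X.fromSpecResidueField x =
        (Spec.map q ≫ (pullback f g).fromSpecStalk z) ≫ pullback.fst f g := by
      rw [Category.assoc, Category.assoc, Scheme.residueFieldCongr_fromSpecResidueField,
        Scheme.fromSpecResidueField, ← Scheme.SpecMap_stalkMap_fromSpecStalk, ← Spec.map_comp_assoc,
        ← Spec.map_comp_assoc]
      rfl
    have ey : (Spec.map κy ≫ Spec.map (Y.residueFieldCongr hy.symm).hom) ≫ Y.fromSpecResidueField y =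
        (Spec.map q ≫ (pullback f g).fromSpecStalk z) ≫ pullback.snd f g := by
      rw [Category.assoc, Category.assoc, Scheme.residueFieldCongr_fromSpecResidueField,
        Scheme.fromSpecResidueField, ← Scheme.SpecMap_stalkMap_fromSpecStalk, ← Spec.map_comp_assoc,
        ← Spec.map_comp_assoc]
      rfl
    let u₀ : Spec (CommRingCat.of ((pullback f g).presheaf.stalk z ⧸ I)) ⟶ T :=
      h.lift (Spec.map κx ≫ Spec.map (X.residueFieldCongr hx.symm).hom)
        (Spec.map κy ≫ Spec.map (Y.residueFieldCongr hy.symm).hom) (by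
        rw [← Category.assoc _ _ f, ← Category.assoc _ _ g, ex, ey]
        simp only [Category.assoc, pullback.condition])
    have hg : u₀ ≫ j = Spec.map q ≫ (pullback f g).fromSpecStalk z := by
      apply pullback.hom_ext
      · rw [Category.assoc, hjx, IsPullback.lift_fst_assoc, ex]
      · rw [Category.assoc, hjy, IsPullback.lift_snd_assoc, ey]
    have hgy : u₀ (closedPoint _) = t := by
      apply j.isEmbedding.injective
      rw [← Scheme.Hom.comp_apply, hg, Scheme.Hom.comp_apply, Spec_closedPoint,
        Scheme.fromSpecStalk_closedPoint]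
    have hrec := Scheme.Spec_stalkClosedPointTo_fromSpecStalk u₀
    have h2 : Spec.map q ≫ (pullback f g).fromSpecStalk z =
        Spec.map ((j.stalkMap t) ≫
          (T.presheaf.stalkCongr (Inseparable.of_eq hgy.symm)).hom ≫
            Scheme.stalkClosedPointTo u₀) ≫ (pullback f g).fromSpecStalk z := by
      rw [← hg]
      conv_lhs => rw [← hrec]
      rw [Spec.map_comp, Spec.map_comp, Category.assoc, Category.assoc]
      have e1 : Spec.map (T.presheaf.stalkCongr (Inseparable.of_eq hgy.symm)).hom ≫
          T.fromSpecStalk t = T.fromSpecStalk _ :=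
        Scheme.SpecMap_stalkSpecializes_fromSpecStalk (Inseparable.of_eq hgy.symm).ge
      have e2 : Spec.map (j.stalkMap t) ≫ (pullback f g).fromSpecStalk z =
          T.fromSpecStalk t ≫ j := Scheme.SpecMap_stalkMap_fromSpecStalk _
      rw [Category.assoc, e2, reassoc_of% e1]
    rw [cancel_mono] at h2
    have h3 := ConcreteCategory.congr_hom (Spec.map_injective h2) a
    refine Ideal.Quotient.eq_zero_iff_mem.mp (h3.trans ?_)
    rw [ConcreteCategory.comp_apply, show (j.stalkMap t) a = 0 from ha, map_zero]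
  · exact sup_le (map_maximalIdeal_le_ker j (pullback.fst f g) rx hjx t)
      (map_maximalIdeal_le_ker j (pullback.snd f g) ry hjy t)

theorem stalkMap_resι (t : resProd f g x y) :
    RingHom.ker ((resι f g x y).stalkMap t).hom = bothIdeal f g (resι f g x y t) :=
  ker_stalkMap_of_isPullback f g (resι f g x y) (pullback.fst _ _) (pullback.snd _ _)
    (IsPullback.of_hasPullback _ _) (pullback.lift_fst _ _ _) (pullback.lift_snd _ _ _) t

theorem ass_resProd_iff [IsLocallyNoetherian (pullback f g)] (t : resProd f g x y) :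
    t ∈ AssSch.Ass (Coh.structureModule (resProd f g x y)) ↔ BothKilled f g (resι f g x y t) := by
  set z := resι f g x y t
  have hsurj : Function.Surjective ((resι f g x y).stalkMap t).hom :=
    (resι f g x y).stalkMap_surjective t
  let C := (resProd f g x y).presheaf.stalk t
  haveI : IsNoetherianRing C := isNoetherianRing_of_surjective _ _ ((resι f g x y).stalkMap t).hom hsurj
  letI : Algebra ((pullback f g).presheaf.stalk z) C := ((resι f g x y).stalkMap t).hom.toAlgebra
  show IsAssociatedPrime _ _ ↔ _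
  rw [← killed_iff_isAssociatedPrime, killed_structureModule_iff,
    killed_iff_of_surj ((pullback f g).presheaf.stalk z) C hsurj]
  exact Killed.congr ((Ideal.quotientEquivAlgOfEq _ (stalkMap_resι f g x y t).symm).trans
    (Ideal.quotientKerAlgEquivOfSurjective
      (f := Algebra.ofId ((pullback f g).presheaf.stalk z) C) hsurj)).toLinearEquiv.symm

/-- On `Spec κ(x) ×_S Spec κ(y)` an associated point has no proper generalisation. -/
theorem eq_of_specializes_resProd {t₁ t₂ : resProd f g x y} (hs : t₁ ⤳ t₂)
    (hK : Killed ((resProd f g x y).presheaf.stalk t₂) ((resProd f g x y).presheaf.stalk t₂)) :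
    t₁ = t₂ := by
  have h : f x = g y := by
    have := fst_snd_eq f g (resι f g x y t₂)
    rwa [fst_resι, snd_resι] at this
  let φx : S.residueField (g y) ⟶ X.residueField x := (S.residueFieldCongr h).inv ≫ f.residueFieldMap x
  letI : Algebra (S.residueField (g y)) (X.residueField x) := φx.hom.toAlgebra
  letI : Algebra (S.residueField (g y)) (Y.residueField y) := (g.residueFieldMap y).hom.toAlgebra
  refine eq_of_specializes_of_fields (S.residueField (g y)) (X.residueField x) (Y.residueField y)
    (S.fromSpecResidueField (g y)) ?_ (Scheme.Hom.SpecMap_residueFieldMap_fromSpecResidueField _ _).symm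
    (IsPullback.of_hasPullback (X.fromSpecResidueField x ≫ f) (Y.fromSpecResidueField y ≫ g)) hs hK
  show X.fromSpecResidueField x ≫ f = Spec.map φx ≫ _
  simp only [φx, Spec.map_comp, Category.assoc, Scheme.residueFieldCongr_inv]
  rw [Scheme.residueFieldCongr_fromSpecResidueField, Scheme.Hom.SpecMap_residueFieldMap_fromSpecResidueField]

end Residue

end Groth.Agent.AssSch12

namespace Groth.Agent.AssSch12

variable {X Y S : Scheme.{u}} (f : X ⟶ S) (g : Y ⟶ S)

theorem killed_resProd [IsLocallyNoetherian (pullback f g)] (x : X) (y : Y) (t : resProd f g x y)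
    (h : BothKilled f g (resι f g x y t)) :
    Killed ((resProd f g x y).presheaf.stalk t) ((resProd f g x y).presheaf.stalk t) := by
  have ht := (ass_resProd_iff f g x y t).2 h
  haveI : IsNoetherianRing ((resProd f g x y).presheaf.stalk t) :=
    isNoetherianRing_of_surjective _ _ ((resι f g x y).stalkMap t).hom
      ((resι f g x y).stalkMap_surjective t)
  exact (killed_structureModule_iff t).1 ((killed_iff_isAssociatedPrime _ _).2 ht)

/-- Two associated points over the same pair of points do not specialise. -/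
theorem eq_of_specializes_pullback [IsLocallyNoetherian (pullback f g)] {z₁ z₂ : ↑(pullback f g)}
    (hs : z₁ ⤳ z₂) (hx : pullback.fst f g z₁ = pullback.fst f g z₂)
    (hy : pullback.snd f g z₁ = pullback.snd f g z₂) (hb : BothKilled f g z₂) : z₁ = z₂ := by
  obtain ⟨t₁, h₁⟩ := exists_resι_eq f g _ _ z₁ hx hy
  obtain ⟨t₂, h₂⟩ := exists_resι_eq f g _ _ z₂ rfl rfl
  refine h₁.symm.trans (Eq.trans ?_ h₂)
  refine congrArg _ (eq_of_specializes_resProd f g _ _ ?_ (killed_resProd f g _ _ t₂ (by rw [h₂]; exact hb)))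
  refine (resι f g _ _).isEmbedding.isInducing.specializes_iff.1 ?_
  rw [h₁, h₂]
  exact hs

end Groth.Agent.AssSch12
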