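import Groth.Agent.AssSch12.Ass
import Groth.Agent.Coherent.FiniteType
import Groth.Agent.Coherent.QcohOps
import Mathlib.AlgebraicGeometry.IdealSheaf.Subscheme
import Mathlib.AlgebraicGeometry.Morphisms.ClosedImmersion

/-!
# Associated points through embeddings of cyclic modules
-/

set_option autoImplicit false
universe u

open CategoryTheory CategoryTheory.Limits AlgebraicGeometry Opposite TopologicalSpace
open Groth.Agent.Coherent

namespace Groth.Agent.AssSch12

variable {X : Scheme.{u}}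

/-- Colon inclusion propagates to smaller opens. -/
theorem smul_res_eq_zero_of_colon (F G : X.Modules) [Coh.IsQCoh F] [Coh.IsQCoh G] {V : X.Opens}
    (hV : IsAffineOpen V) (s : Γ(F, V)) (s' : Γ(G, V))
    (h : ∀ r : Γ(X, V), r • s = 0 → r • s' = 0) {W : X.Opens} (hW : W ≤ V) (t : Γ(X, W))
    (ht : t • resM F hW s = 0) : t • resM G hW s' = 0 := by
  apply TopCat.Presheaf.section_ext (F := (⟨G.presheaf, G.isSheaf⟩ : TopCat.Sheaf Ab X))
  intro y hy
  refine Eq.trans ?_ (map_zero _).symm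
  show G.presheaf.germ W y hy (t • resM G hW s') = 0
  obtain ⟨f, hfW, hyf⟩ := hV.exists_basicOpen_le ⟨y, hy⟩ (hW hy)
  suffices h0 : resM G hfW (t • resM G hW s') = 0 by
    rw [← TopCat.Presheaf.germ_res_apply G.presheaf (homOfLE hfW) y hyf]
    exact (congrArg _ h0).trans (map_zero _)
  have := hV.isLocalization_basicOpen f
  obtain ⟨⟨r, ⟨_, n, rfl⟩⟩, hr⟩ := IsLocalization.surj (M := Submonoid.powers f) (R := Γ(X, V))
    (S := Γ(X, X.basicOpen f)) (X.presheaf.map (homOfLE hfW).op t)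
  set a := X.presheaf.map (homOfLE hfW).op t with ha
  replace hr : a * X.presheaf.map (homOfLE (X.basicOpen_le f)).op (f ^ n) =
      X.presheaf.map (homOfLE (X.basicOpen_le f)).op r := hr
  have hu := isUnit_res_pow f (X.basicOpen_le f) le_rfl n
  have e1 : resM F (X.basicOpen_le f) (r • s) = 0 := by
    rw [resM_smul, ← hr, mul_comm, mul_smul]
    have := congrArg (resM F hfW) ht
    rw [resM_smul, resM_resM, map_zero] at this
    rw [this, smul_zero]
  obtain ⟨k, hk⟩ := qcoh_exists_pow_smul_eq_zero hV F f (r • s) e1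
  have e2 := congrArg (resM G (X.basicOpen_le f)) (h (f ^ k * r) (by rw [mul_smul, hk]))
  rw [map_zero, resM_smul, map_mul, ← hr, mul_smul, mul_comm, mul_smul] at e2
  rw [resM_smul, resM_resM]
  exact hu.smul_eq_zero.1 ((isUnit_res_pow f (X.basicOpen_le f) le_rfl k).smul_eq_zero.1 e2)

/-- Two maps out of the same object with the same kernel: a monomorphism between the targets. -/
theorem exists_mono_desc {A B C : X.Modules} (p : A ⟶ B) (r : A ⟶ C) [Epi p]
    (h : ∀ (W : X.Opens) (a : Γ(A, W)), p.app W a = 0 ↔ r.app W a = 0) :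
    ∃ ψ : B ⟶ C, Mono ψ := by
  have h1 : kernel.ι p ≫ r = 0 := by
    ext W k; exact (h W _).1 (kernel_ι_app_zero p W k)
  have h2 : kernel.ι r ≫ p = 0 := by
    ext W k; exact (h W _).2 (kernel_ι_app_zero r W k)
  refine ⟨Abelian.epiDesc p r h1, Preadditive.mono_of_cancel_zero _ fun {P} k hk => ?_⟩
  obtain ⟨P', π, hπ, a, ha⟩ := surjective_up_to_refinements_of_epi p k
  have h0 : a ≫ r = 0 := by
    have := congrArg (π ≫ ·) hk
    simp only [comp_zero, reassoc_of% ha, Abelian.comp_epiDesc] at this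
    exact this
  rw [← cancel_epi π, comp_zero, ha, ← kernel.lift_ι r a h0, Category.assoc, h2, comp_zero]

theorem app_eq_zero_iff {A B : Ab.{u}} (f : A ⟶ B) (hf : Function.Injective f) (a : A) :
    f a = 0 ↔ a = 0 := ⟨fun h => hf (h.trans (map_zero _).symm), fun h => by rw [h, map_zero]⟩

/-- Embedding of a cyclic module. -/
theorem exists_mono_restrict (F G : X.Modules) [Coh.IsQCoh F] [Coh.IsQCoh G] {V : X.Opens}
    (hV : IsAffineOpen V) (s : Γ(F, V)) (s' : Γ(G, V))
    (h : ∀ r : Γ(X, V), r • s = 0 ↔ r • s' = 0)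
    (hgen : GenOn G V (fun _ : PUnit.{u+1} => s')) :
    ∃ ψ : G.restrict V.ι ⟶ F.restrict V.ι, Mono ψ := by
  have htop : V.ι ''ᵁ ⊤ ≤ V := (Scheme.Opens.ι_image_top V).le
  let σ := (G.restrictAppIso V.ι ⊤).inv (resM G htop s')
  let τ := (F.restrictAppIso V.ι ⊤).inv (resM F htop s)
  have ev : ∀ (M : X.Modules) (m : Γ(M, V)) (W : V.toScheme.Opens) (a : Γ(V.toScheme, W)),
      (M.restrictAppIso V.ι W).hom
        ((unitDesc (M.restrict V.ι) ((M.restrictAppIso V.ι ⊤).inv (resM M htop m))).app W a) =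
      (V.ι.appIso W).inv a • resM M ((V.ι.image_mono le_top).trans htop) m := by
    intro M m W a
    rw [app_unit, unitVal_unitDesc, Scheme.Modules.smul_restrictAppIso_hom_apply]
    refine congrArg _ ?_
    exact resM_resM M htop (V.ι.image_mono le_top) m
  haveI : Epi (unitDesc (G.restrict V.ι) σ) := by
    refine epi_of_locally_surjective _ fun W a y hy => ?_
    obtain ⟨W', hle, hy', c, hc⟩ :=
      genOn_restrict_of_genOn V.ι G (hgen.res htop) W le_top a y hy
    refine ⟨W', hle, hy', c PUnit.unit, ?_⟩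
    rw [hc, app_unit, unitVal_unitDesc, Fintype.sum_unique]
  refine exists_mono_desc (unitDesc (G.restrict V.ι) σ) (unitDesc (F.restrict V.ι) τ) fun W a => ?_
  rw [← app_eq_zero_iff (G.restrictAppIso V.ι W).hom (ConcreteCategory.bijective_of_isIso _).1,
    ← app_eq_zero_iff (F.restrictAppIso V.ι W).hom (ConcreteCategory.bijective_of_isIso _).1,
    ev, ev]
  exact ⟨smul_res_eq_zero_of_colon G F hV s' s (fun r => (h r).2) _ _,
    smul_res_eq_zero_of_colon F G hV s s' (fun r => (h r).1) _ _⟩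

section Closure

variable (x : X)

/-- The reduced closure of a point. -/
noncomputable abbrev clI : X.IdealSheafData :=
  Scheme.IdealSheafData.vanishingIdeal ⟨closure {x}, isClosed_closure⟩

/-- Its structure sheaf on `X`. -/
noncomputable abbrev clM : X.Modules :=
  (Scheme.Modules.pushforward (clI x).subschemeι).obj (Coh.structureModule (clI x).subscheme)

instance isQCoh_clM : Coh.IsQCoh (clM x) :=
  haveI := Coherent.isQCoh_structureModule (X := (clI x).subscheme)
  Coherent.isQCoh_push (clI x).subschemeι _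

theorem mem_clI_iff {V : X.Opens} (hV : IsAffineOpen V) (hx : x ∈ V) (r : Γ(X, V)) :
    r ∈ (clI x).ideal ⟨V, hV⟩ ↔ r ∈ primeAt hV hx := by
  have key : r ∈ (clI x).ideal ⟨V, hV⟩ ↔
      ∀ p : PrimeSpectrum Γ(X, V), hV.fromSpec p ∈ closure ({x} : Set X) → r ∈ p.asIdeal := by
    rw [clI, Scheme.IdealSheafData.vanishingIdeal_ideal, PrimeSpectrum.mem_vanishingIdeal]
    rfl
  rw [key]
  refine ⟨fun h => ?_, fun h p hp => ?_⟩
  · refine h (hV.primeIdealOf ⟨x, hx⟩) ?_
    rw [hV.fromSpec_primeIdealOf]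
    exact subset_closure rfl
  · have hmem : hV.fromSpec p ∈ V := hV.range_fromSpec.le ⟨p, rfl⟩
    have := (specializes_iff hV hx hmem).1 (specializes_iff_mem_closure.2 hp) h
    rwa [primeAt_fromSpec] at this

/-- The unit section of `clM`. -/
noncomputable def clOne (V : X.Opens) : Γ(clM x, V) :=
  show Γ((clI x).subscheme, (clI x).subschemeι ⁻¹ᵁ V) from 1

theorem smul_clOne (V : X.Opens) (r : Γ(X, V)) :
    r • clOne x V = (show Γ(clM x, V) from (clI x).subschemeι.app V r) :=
  mul_one (M := Γ((clI x).subscheme, (clI x).subschemeι ⁻¹ᵁ V)) _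

theorem smul_clOne_eq_zero {V : X.Opens} (hV : IsAffineOpen V) (hx : x ∈ V) (r : Γ(X, V)) :
    r • clOne x V = 0 ↔ r ∈ primeAt hV hx := by
  rw [← mem_clI_iff x hV hx, ← Scheme.IdealSheafData.ker_subschemeι_app, RingHom.mem_ker,
    smul_clOne]
  rfl

theorem genOn_clOne {V : X.Opens} (hV : IsAffineOpen V) :
    GenOn (clM x) V (fun _ : PUnit.{u+1} => clOne x V) := by
  refine genOn_of_span_top (clM x) hV _ (Submodule.eq_top_iff'.2 fun z => ?_)
  obtain ⟨r, hr⟩ := (clI x).subschemeι.app_surjective V hV z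
  rw [Set.range_const, Submodule.mem_span_singleton]
  exact ⟨r, (smul_clOne x V r).trans hr⟩

theorem exists_mono_of_mem_ass [IsLocallyNoetherian X] (F : X.Modules) (hF : Coh.IsQCoh F)
    (hx : x ∈ AssSch.Ass F) :
    ∃ U : X.Opens, x ∈ U ∧ ∃ φ : (Scheme.Modules.pullback U.ι).obj (clM x) ⟶
      (Scheme.Modules.pullback U.ι).obj F, Mono φ := by
  haveI := hF
  obtain ⟨_, ⟨V, hV, rfl⟩, hxV, -⟩ :=
    X.isBasis_affineOpens.exists_subset_of_mem_open (Set.mem_univ x) isOpen_univ
  haveI := isNoetherianRing_of_isAffineOpen hV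
  obtain ⟨-, s, hs⟩ := isAssociatedPrime_iff.1 ((mem_ass_iff hV hxV F).1 hx)
  obtain ⟨ψ, hψ⟩ := exists_mono_restrict F (clM x) hV s (clOne x V)
    (fun r => by
      rw [smul_clOne_eq_zero x hV hxV, hs, Submodule.mem_colon_singleton, Submodule.mem_bot])
    (genOn_clOne x hV)
  let e := Scheme.Modules.restrictFunctorIsoPullback (Scheme.Opens.ι (X := X) V)
  exact ⟨V, hxV, (e.app (clM x)).inv ≫ ψ ≫ (e.app F).hom, inferInstance⟩

theorem mem_ass_of_mono [IsLocallyNoetherian X] (F : X.Modules) (hF : Coh.IsQCoh F)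
    {U : X.Opens} (hxU : x ∈ U) (φ : (Scheme.Modules.pullback U.ι).obj (clM x) ⟶
      (Scheme.Modules.pullback U.ι).obj F) [Mono φ] : x ∈ AssSch.Ass F := by
  haveI := hF
  let e := Scheme.Modules.restrictFunctorIsoPullback U.ι
  let ψ : (clM x).restrict U.ι ⟶ F.restrict U.ι :=
    (e.app (clM x)).hom ≫ φ ≫ (e.app F).inv
  haveI : Mono ψ := inferInstanceAs (Mono ((e.app (clM x)).hom ≫ φ ≫ (e.app F).inv))
  obtain ⟨_, ⟨V, hV, rfl⟩, hxV, hVU⟩ := X.isBasis_affineOpens.exists_subset_of_mem_open hxU U.2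
  replace hVU : V ≤ U := hVU
  let W : U.toScheme.Opens := U.ι ⁻¹ᵁ V
  have hW : U.ι ''ᵁ W = V := by
    rw [Scheme.Hom.image_preimage_eq_opensRange_inf, Scheme.Opens.opensRange_ι]
    exact inf_eq_right.2 hVU
  have hV' : IsAffineOpen (U.ι ''ᵁ W) := hW ▸ hV
  have hx' : x ∈ U.ι ''ᵁ W := hW ▸ hxV
  haveI := isNoetherianRing_of_isAffineOpen hV'
  rw [mem_ass_iff hV' hx', associatedPrimes, Set.mem_setOf_eq, isAssociatedPrime_iff]
  refine ⟨(hV'.primeIdealOf ⟨x, hx'⟩).isPrime,
    (F.restrictAppIso U.ι W).hom (ψ.app W (((clM x).restrictAppIso U.ι W).inv (clOne x _))), ?_⟩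
  ext r
  rw [Submodule.mem_colon_singleton, Submodule.mem_bot, ← smul_clOne_eq_zero x hV' hx' r]
  obtain ⟨r', rfl⟩ := (ConcreteCategory.bijective_of_isIso (U.ι.appIso W).inv).2 r
  rw [← Scheme.Modules.smul_restrictAppIso_hom_apply U.ι F W r',
    ← Scheme.Modules.Hom.app_smul,
    app_eq_zero_iff (F.restrictAppIso U.ι W).hom (ConcreteCategory.bijective_of_isIso _).1,
    app_eq_zero_iff (ψ.app W) (app_injective_of_mono ψ W)]
  rfl

end Closure

end Groth.Agent.AssSch12
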