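import Groth.Agent.AssSch12.Ass
import Groth.Agent.ModStalk.Exact
import Groth.Agent.Coherent.QcohOps
import Groth.Agent.Coherent.FiniteType
import Mathlib.RingTheory.Filtration

/-!
# Coprimary quotients of coherent modules
-/

set_option autoImplicit false
universe u

open CategoryTheory CategoryTheory.Limits AlgebraicGeometry Opposite TopologicalSpace
open Groth.Agent.QCohLoc Groth.Agent.ModStalk

namespace Groth.Agent.AssSch12

variable {X : Scheme.{u}} {x : X}

/-- A skyscraper of a module killed by a power of the maximal ideal is quasi-coherent. -/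
theorem isQCoh_sky (A : ModuleCat.{u} (X.presheaf.stalk x)) (k : ℕ)
    (hA : ∀ r ∈ IsLocalRing.maximalIdeal (X.presheaf.stalk x), ∀ a : A, r ^ k • a = 0) :
    Coh.IsQCoh ((sky x).obj A) := by
  classical
  refine (Coherent.isQCoh_iff_localizesOn _).2 fun U _ => ⟨fun f s => ?_, fun f t ht => ?_⟩
  · refine ⟨0, (smk fun _ => if h : x ∈ X.basicOpen f then sval (A := A) (U := X.basicOpen f) s h else 0 :
      SkySec A U), ?_⟩
    rw [pow_zero, map_one, one_smul]
    refine sval_ext (A := A) (U := X.basicOpen f) fun h => ?_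
    show dite (x ∈ X.basicOpen f) _ _ = _
    rw [dif_pos h]
  · by_cases hxf : x ∈ X.basicOpen f
    · refine ⟨0, ?_⟩
      rw [pow_zero, one_smul]
      refine sval_ext (A := A) (U := U) fun _ => ?_
      exact congrArg (fun z => sval (A := A) (U := X.basicOpen f) z hxf) ht
    · refine ⟨k, sval_ext (A := A) (U := U) fun h => ?_⟩
      show X.presheaf.germ U x h (f ^ k) • sval (A := A) (U := U) t h = _
      rw [map_pow]
      exact hA _ ((IsLocalRing.mem_maximalIdeal _).2
        fun hu => hxf ((Scheme.mem_basicOpen _ _ _ h).2 hu)) _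

/-- Associated points of such a skyscraper. -/
theorem ass_sky_subset [IsLocallyNoetherian X] (A : ModuleCat.{u} (X.presheaf.stalk x)) (k : ℕ)
    (hA : ∀ r ∈ IsLocalRing.maximalIdeal (X.presheaf.stalk x), ∀ a : A, r ^ k • a = 0) :
    AssSch.Ass ((sky x).obj A) ⊆ {x} := by
  intro y hy
  haveI := isQCoh_sky A k hA
  obtain ⟨_, ⟨V, hV, rfl⟩, hyV, -⟩ :=
    X.isBasis_affineOpens.exists_subset_of_mem_open (Set.mem_univ y) isOpen_univ
  haveI := isNoetherianRing_of_isAffineOpen hV
  obtain ⟨hp, s, hs⟩ := isAssociatedPrime_iff.1 ((mem_ass_iff hV hyV _).1 hy)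
  have hxV : x ∈ V := by
    by_contra hxV
    refine hp.ne_top ((Ideal.eq_top_iff_one _).2 ?_)
    rw [hs, Submodule.mem_colon_singleton, Submodule.mem_bot, one_smul]
    exact sval_ext (A := A) (U := V) fun h => absurd h hxV
  have h1 : primeAt hV hyV ≤ primeAt hV hxV := by
    intro r hr
    rw [hs, Submodule.mem_colon_singleton, Submodule.mem_bot] at hr
    by_contra hrx
    refine hp.ne_top ((Ideal.eq_top_iff_one _).2 ?_)
    rw [hs, Submodule.mem_colon_singleton, Submodule.mem_bot, one_smul]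
    refine sval_ext (A := A) (U := V) fun h => ?_
    have h2 := congrArg (fun z => sval (A := A) (U := V) z h) hr
    exact ((Scheme.mem_basicOpen _ _ _ hxV).1 ((notMem_primeAt_iff hV hxV r).1 hrx)).smul_eq_zero.1 h2
  have h2 : primeAt hV hxV ≤ primeAt hV hyV := by
    intro r hr
    refine hp.mem_of_pow_mem k ?_
    rw [hs, Submodule.mem_colon_singleton, Submodule.mem_bot]
    refine sval_ext (A := A) (U := V) fun h => ?_
    show X.presheaf.germ V x h (r ^ k) • sval (A := A) (U := V) s h = _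
    rw [map_pow]
    exact hA _ ((germ_mem_maximalIdeal_iff hV hxV r).2 hr) _
  exact ((specializes_iff hV hyV hxV).2 h1).antisymm ((specializes_iff hV hxV hyV).2 h2) |>.eq

theorem finite_stalk [IsLocallyNoetherian X] {M : X.Modules} (hM : Coh.IsCoh M) (x : X) :
    Module.Finite (X.presheaf.stalk x) (M.presheaf.stalk x) := by
  haveI := hM.1
  obtain ⟨_, ⟨V, hV, rfl⟩, hxV, -⟩ :=
    X.isBasis_affineOpens.exists_subset_of_mem_open (Set.mem_univ x) isOpen_univ
  obtain ⟨G, hG⟩ := ((Coherent.isCoh_iff_finite_sections M).1 hM).2 V hV |>.fg_top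
  classical
  refine ⟨⟨G.image (M.presheaf.germ V x hxV), top_le_iff.1 fun z _ => ?_⟩⟩
  obtain ⟨f, m, hf, hm⟩ := exists_smul_stalk_eq_germ M hV hxV z
  have hu : IsUnit (X.presheaf.germ V x hxV f) := (Scheme.mem_basicOpen _ _ _ hxV).1 hf
  rw [← Submodule.smul_mem_iff_of_isUnit _ hu, hm]
  clear hm
  have : m ∈ Submodule.span Γ(X, V) (G : Set Γ(M, V)) := hG.ge trivial
  induction this using Submodule.span_induction with
  | mem a ha => exact Submodule.subset_span (by simpa using ⟨a, ha, rfl⟩)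
  | zero => rw [map_zero]; exact zero_mem _
  | add a b _ _ ha hb => rw [map_add]; exact add_mem ha hb
  | smul r a _ ha => rw [germ_smul']; exact Submodule.smul_mem _ _ ha

variable (M : X.Modules)

/-- The chosen exponent: the power of the maximal ideal meets the socle trivially. -/
theorem exists_exponent [IsLocallyNoetherian X] (hM : Coh.IsCoh M) (x : X) :
    ∃ k : ℕ, 0 < k ∧ ∀ z : M.presheaf.stalk x,
      z ∈ (IsLocalRing.maximalIdeal (X.presheaf.stalk x)) ^ k • (⊤ : Submodule (X.presheaf.stalk x) (M.presheaf.stalk x)) →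
      (∀ r ∈ IsLocalRing.maximalIdeal (X.presheaf.stalk x), r • z = 0) → z = 0 := by
  haveI := finite_stalk hM x
  set m := IsLocalRing.maximalIdeal (X.presheaf.stalk x)
  let Z : Submodule (X.presheaf.stalk x) (M.presheaf.stalk x) :=
    { carrier := {z | ∀ r ∈ m, r • z = 0}
      add_mem' := fun ha hb r hr => by rw [smul_add, ha r hr, hb r hr, add_zero]
      zero_mem' := fun r _ => smul_zero r
      smul_mem' := fun c z hz r hr => by rw [smul_comm, hz r hr, smul_zero] }
  obtain ⟨k₀, hk₀⟩ := Ideal.exists_pow_inf_eq_pow_smul m Z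
  refine ⟨k₀ + 1, Nat.succ_pos _, fun z hz hz' => ?_⟩
  have h : z ∈ m ^ (k₀ + 1) • ⊤ ⊓ Z := ⟨hz, hz'⟩
  rw [hk₀ (k₀ + 1) (Nat.le_succ _), Nat.add_sub_cancel_left, pow_one] at h
  have hbot : m • (m ^ k₀ • ⊤ ⊓ Z) ≤ ⊥ := by
    rw [Submodule.smul_le]
    rintro r hr w ⟨-, hw⟩
    exact (Submodule.mem_bot _).2 (hw r hr)
  exact (Submodule.mem_bot _).1 (hbot h)

variable [IsLocallyNoetherian X] (hM : Coh.IsCoh M) (x)

/-- The exponent at `x`. -/
noncomputable def expo : ℕ := (exists_exponent M hM x).choose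

/-- `M_x / m^k M_x`. -/
noncomputable abbrev primQuot : ModuleCat.{u} (X.presheaf.stalk x) :=
  ModuleCat.of _ ((M.presheaf.stalk x) ⧸
    ((IsLocalRing.maximalIdeal (X.presheaf.stalk x)) ^ expo x M hM •
      (⊤ : Submodule (X.presheaf.stalk x) (M.presheaf.stalk x))))

/-- The map to the skyscraper. -/
noncomputable def primMap : M ⟶ (sky x).obj (primQuot x M hM) :=
  ⟨liftSky (P := M.val) (ModuleCat.ofHom (Submodule.mkQ _))⟩

theorem primMap_app_eq_zero_iff (W : X.Opens) (s : Γ(M, W)) :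
    (primMap x M hM).app W s = 0 ↔ ∀ h : x ∈ W, M.presheaf.germ W x h s ∈
      (IsLocalRing.maximalIdeal (X.presheaf.stalk x)) ^ expo x M hM •
        (⊤ : Submodule (X.presheaf.stalk x) (M.presheaf.stalk x)) := by
  constructor
  · intro h0 h
    exact (Submodule.Quotient.mk_eq_zero _).1
      (congrArg (fun z => sval (A := primQuot x M hM) (U := W) z h) h0)
  · exact fun h0 => sval_ext (A := primQuot x M hM) (U := W) fun h =>
      (Submodule.Quotient.mk_eq_zero _).2 (h0 h)

theorem pow_smul_primQuot : ∀ r ∈ IsLocalRing.maximalIdeal (X.presheaf.stalk x),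
    ∀ a : primQuot x M hM, r ^ expo x M hM • a = 0 := by
  intro r hr a
  obtain ⟨z, rfl⟩ := Submodule.mkQ_surjective _ a
  rw [← map_smul]
  exact (Submodule.Quotient.mk_eq_zero _).2 (Submodule.smul_mem_smul (Ideal.pow_mem_pow hr _) trivial)

/-- The coprimary quotient at `x`. -/
noncomputable def prim : X.Modules := Abelian.image (primMap x M hM)

/-- The projection. -/
noncomputable def primπ : M ⟶ prim x M hM := Abelian.factorThruImage (primMap x M hM)

instance : Epi (primπ x M hM) := inferInstanceAs (Epi (Abelian.factorThruImage _))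

theorem primπ_ι : primπ x M hM ≫ Abelian.image.ι (primMap x M hM) = primMap x M hM :=
  Abelian.image.fac _

theorem primπ_app_eq_zero_iff (W : X.Opens) (s : Γ(M, W)) :
    (primπ x M hM).app W s = 0 ↔ (primMap x M hM).app W s = 0 := by
  have h : (primMap x M hM).app W s =
      (Abelian.image.ι (primMap x M hM)).app W ((primπ x M hM).app W s) :=
    ConcreteCategory.congr_hom (congrArg (fun φ => Scheme.Modules.Hom.app φ W) (primπ_ι x M hM).symm) s
  rw [h]
  refine ⟨fun h0 => by rw [h0]; exact map_zero _, fun h0 => ?_⟩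
  exact Coherent.app_injective_of_mono (Abelian.image.ι (primMap x M hM)) W (h0.trans (map_zero _).symm)

theorem isCoh_of_epi {N : X.Modules} (φ : M ⟶ N) [Epi φ] (hN : Coh.IsQCoh N)
    (hfg : Coherent.LocallyFinGen M) : Coh.IsCoh N := by
  refine ⟨hN, Coherent.isFT_of_locallyFinGen fun y => ?_⟩
  obtain ⟨U, I, _, s, hy, hs⟩ := hfg y
  refine ⟨U, I, inferInstance, fun i => φ.app U (s i), hy, fun W hW a z hz => ?_⟩
  obtain ⟨W₁, hW₁, hzW₁, b, hb⟩ := Coherent.exists_lift_of_epi φ W a z hz
  obtain ⟨W₂, hW₂, hzW₂, c, hc⟩ := hs W₁ (hW₁.trans hW) b z hzW₁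
  refine ⟨W₂, hW₂.trans hW₁, hzW₂, c, ?_⟩
  have := congrArg (φ.app W₂) hc
  rw [Coherent.app_resM, hb, Coherent.resM_resM, map_sum] at this
  rw [this]
  exact Finset.sum_congr rfl fun i _ => by
    rw [Scheme.Modules.Hom.app_smul, Coherent.app_resM]

theorem isQCoh_prim : Coh.IsQCoh (prim x M hM) := by
  haveI := hM.1
  haveI := isQCoh_sky (primQuot x M hM) _ (pow_smul_primQuot x M hM)
  exact Coherent.isQCoh_image _

theorem isCoh_prim : Coh.IsCoh (prim x M hM) :=
  isCoh_of_epi M (primπ x M hM) (isQCoh_prim x M hM) (Coherent.locallyFinGen_of_isFT M hM.2)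

theorem stalkFunctor_map_germ {M N : X.Modules} (φ : M ⟶ N) {W : X.Opens} {y : X} (hy : y ∈ W)
    (s : Γ(M, W)) :
    (DerSch.stalkFunctor X y).map φ (M.presheaf.germ W y hy s) =
      N.presheaf.germ W y hy (φ.app W s) :=
  TopCat.Presheaf.stalkFunctor_map_germ_apply W y hy φ.mapPresheaf s

omit [IsLocallyNoetherian X] in
theorem ass_subset_of_mono {N : X.Modules} (φ : M ⟶ N) [Mono φ] : AssSch.Ass M ⊆ AssSch.Ass N := by
  intro y hy
  exact IsAssociatedPrime.map_of_injective ((DerSch.stalkFunctor X y).map φ).hom hy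
    ((ModuleCat.mono_iff_injective _).1 inferInstance)

theorem ass_nonempty_of_section {N : X.Modules} (hN : Coh.IsQCoh N) {W : X.Opens} (hW : IsAffineOpen W)
    (s : Γ(N, W)) (hs : s ≠ 0) : ∃ y ∈ W, y ∈ AssSch.Ass N := by
  haveI := hN
  haveI := isNoetherianRing_of_isAffineOpen hW
  haveI : Nontrivial Γ(N, W) := nontrivial_of_ne s 0 hs
  obtain ⟨p, hp⟩ := associatedPrimes.nonempty Γ(X, W) Γ(N, W)
  haveI := IsAssociatedPrime.isPrime hp
  obtain ⟨y, hy, rfl⟩ := exists_point hW p
  exact ⟨y, hy, (mem_ass_iff hW hy N).2 hp⟩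

theorem ass_prim_subset : AssSch.Ass (prim x M hM) ⊆ {x} :=
  (ass_subset_of_mono _ (Abelian.image.ι (primMap x M hM))).trans
    (ass_sky_subset _ _ (pow_smul_primQuot x M hM))

theorem ass_prim (hx : x ∈ AssSch.Ass M) : AssSch.Ass (prim x M hM) = {x} := by
  refine (ass_prim_subset x M hM).antisymm ?_
  haveI := hM.1
  haveI := finite_stalk hM x
  haveI : Nontrivial (M.presheaf.stalk x) := by
    by_contra h
    rw [not_nontrivial_iff_subsingleton] at h
    exact not_isAssociatedPrime_of_subsingleton (show IsAssociatedPrime _ _ from hx)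
  have hne : ¬ (⊤ : Submodule (X.presheaf.stalk x) (M.presheaf.stalk x)) ≤
      (IsLocalRing.maximalIdeal (X.presheaf.stalk x)) ^ expo x M hM • ⊤ := fun h => top_ne_bot
    (Submodule.eq_bot_of_le_smul_of_le_jacobson_bot _ _ Module.Finite.fg_top h
      ((Ideal.pow_le_self (exists_exponent M hM x).choose_spec.1.ne').trans
        (IsLocalRing.maximalIdeal_le_jacobson _)))
  obtain ⟨z, -, hz⟩ := SetLike.not_le_iff_exists.1 hne
  obtain ⟨_, ⟨V, hV, rfl⟩, hxV, -⟩ :=
    X.isBasis_affineOpens.exists_subset_of_mem_open (Set.mem_univ x) isOpen_univ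
  obtain ⟨f, s, hf, hfs⟩ := exists_smul_stalk_eq_germ M hV hxV z
  have hne' : (primπ x M hM).app V s ≠ 0 := by
    rw [Ne, primπ_app_eq_zero_iff, primMap_app_eq_zero_iff]
    intro h
    have := h hxV
    rw [← hfs, Submodule.smul_mem_iff_of_isUnit _ ((Scheme.mem_basicOpen _ _ _ hxV).1 hf)] at this
    exact hz this
  obtain ⟨y, -, hy⟩ := ass_nonempty_of_section (isQCoh_prim x M hM) hV _ hne'
  rintro _ rfl
  rwa [Set.mem_singleton_iff.1 (ass_prim_subset _ M hM hy)] at hy

omit x in
theorem eq_zero_of_primπ (W : X.Opens) (s : Γ(M, W))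
    (h : ∀ x ∈ AssSch.Ass M, x ∈ W → (primπ x M hM).app W s = 0) : s = 0 := by
  haveI := hM.1
  apply TopCat.Presheaf.section_ext (F := (⟨M.presheaf, M.isSheaf⟩ : TopCat.Sheaf Ab X))
  intro y hy
  refine Eq.trans ?_ (map_zero _).symm
  show M.presheaf.germ W y hy s = 0
  obtain ⟨_, ⟨V, hV, rfl⟩, hyV, hVW⟩ := X.isBasis_affineOpens.exists_subset_of_mem_open hy W.2
  replace hVW : V ≤ W := hVW
  rw [← TopCat.Presheaf.germ_res_apply M.presheaf (homOfLE hVW) y hyV s]
  suffices hs0 : M.presheaf.map (homOfLE hVW).op s = 0 by rw [hs0, map_zero]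
  by_contra hne
  haveI := isNoetherianRing_of_isAffineOpen hV
  set s' := M.presheaf.map (homOfLE hVW).op s with hs'
  let S := Submodule.span Γ(X, V) {s'}
  haveI : Nontrivial S := nontrivial_of_ne ⟨s', Submodule.mem_span_singleton_self _⟩ 0
    fun e => hne congr(($e).1)
  obtain ⟨p, hp⟩ := associatedPrimes.nonempty Γ(X, V) S
  obtain ⟨hpp, ⟨z, hz⟩, hzp⟩ := isAssociatedPrime_iff.1 hp
  haveI := hpp
  obtain ⟨r, rfl⟩ := Submodule.mem_span_singleton.1 hz
  obtain ⟨x, hxV, rfl⟩ := exists_point hV p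
  have hxa : x ∈ AssSch.Ass M := (mem_ass_iff hV hxV M).2
    (associatedPrimes.subset_of_injective (Submodule.injective_subtype S) hp)
  have hkill : ∀ g ∈ primeAt hV hxV, g • r • s' = 0 := by
    intro g hg
    rw [hzp, Submodule.mem_colon_singleton, Submodule.mem_bot] at hg
    exact congr(($hg).1)
  have h0 : M.presheaf.germ V x hxV (r • s') = 0 := by
    refine (exists_exponent M hM x).choose_spec.2 _ ?_ ?_
    · rw [germ_smul']
      refine Submodule.smul_mem _ _ ?_
      rw [hs', TopCat.Presheaf.germ_res_apply]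
      exact (primMap_app_eq_zero_iff x M hM W s).1
        ((primπ_app_eq_zero_iff x M hM W s).1 (h x hxa (hVW hxV))) (hVW hxV)
    · intro g hg
      rw [maximalIdeal_eq_map_primeAt hV hxV] at hg
      induction hg using Submodule.span_induction with
      | mem a ha =>
        obtain ⟨g, hg, rfl⟩ := ha
        rw [← germ_smul', hkill g hg, map_zero]
      | zero => rw [zero_smul]
      | add a b _ _ ha hb => rw [add_smul, ha, hb, add_zero]
      | smul c a _ ha => rw [smul_eq_mul, mul_smul, ha, smul_zero]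
  obtain ⟨g, hg, hgs⟩ := exists_smul_eq_zero_of_germ M hV hxV _ h0
  refine (notMem_primeAt_iff hV hxV g).2 hg ?_
  rw [hzp, Submodule.mem_colon_singleton, Submodule.mem_bot]
  exact Subtype.ext hgs

omit x in
theorem primπ_jointly_mono (T : X.Modules) (a b : T ⟶ M)
    (h : ∀ x : AssSch.Ass M, a ≫ primπ x.1 M hM = b ≫ primπ x.1 M hM) : a = b := by
  ext W t
  refine sub_eq_zero.1 ?_
  refine eq_zero_of_primπ M hM W _ fun x hx _ => ?_
  rw [map_sub, sub_eq_zero]
  exact ConcreteCategory.congr_hom (congrArg (fun φ => Scheme.Modules.Hom.app φ W) (h ⟨x, hx⟩)) t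

end Groth.Agent.AssSch12
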