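import Groth.Agent.AssSch12.PullbackPoint

/-!
# Associated points of a module flat over the base
-/

set_option autoImplicit false
set_option linter.style.haveILetI false
set_option backward.isDefEq.respectTransparency false
universe u

open CategoryTheory CategoryTheory.Limits AlgebraicGeometry Opposite TopologicalSpace
open IsLocalRing
open scoped TensorProduct

namespace Groth.Agent.AssSch12

variable {Y S : Scheme.{u}} (g : Y ⟶ S) (y : Y) (G : Y.Modules)

theorem mem_ass_flat_iff [IsLocallyNoetherian Y] [IsLocallyNoetherian S]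
    (hG : FlatMod.IsFlatOverAt g G y) :
    y ∈ AssSch.Ass G ↔ g y ∈ AssSch.Ass (Coh.structureModule S) ∧ FibKilled g y G := by
  letI := (g.stalkMap y).hom.toAlgebra
  letI := FlatMod.moduleStalkOver g G y
  haveI : IsScalarTower (S.presheaf.stalk (g y)) (Y.presheaf.stalk y) (G.presheaf.stalk y) :=
    IsScalarTower.of_compHom _ _ _
  haveI : Module.Flat (S.presheaf.stalk (g y)) (G.presheaf.stalk y) := hG
  haveI : IsLocalHom (algebraMap (S.presheaf.stalk (g y)) (Y.presheaf.stalk y)) :=
    inferInstanceAs (IsLocalHom (g.stalkMap y).hom)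
  rw [killed_stalk_iff, killed_stalk_iff, killed_structureModule_iff]
  exact (Killed.congr (TensorProduct.AlgebraTensorModule.rid (S.presheaf.stalk (g y)) (Y.presheaf.stalk y)
      (G.presheaf.stalk y))).symm.trans
    (killed_tensor_iff (S.presheaf.stalk (g y)) (Y.presheaf.stalk y) (G.presheaf.stalk y)
      (S.presheaf.stalk (g y)))

end Groth.Agent.AssSch12

namespace Groth.Agent.AssSch12

theorem maximalIdeal_eq_bot_of_killed (R : Type*) [CommRing R] [IsLocalRing R] [_root_.IsReduced R]
    (h : Killed R R) : maximalIdeal R = ⊥ := by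
  obtain ⟨z, hz, hk⟩ := h
  refine eq_bot_iff.2 fun r hr => (Submodule.mem_bot R).2 ?_
  by_cases hzm : z ∈ maximalIdeal R
  · exact absurd (IsReduced.eq_zero z ⟨2, by rw [pow_two]; exact hk z hzm⟩) hz
  · rw [IsLocalRing.mem_maximalIdeal, mem_nonunits_iff, not_not] at hzm
    exact hzm.mul_left_eq_zero.1 (hk r hr)

/-- At an associated point of a flat scheme over a base with reduced fibres, the local ring is reduced. -/
theorem isReduced_stalk_of_killed {X Y : Scheme.{u}} [IsLocallyNoetherian X] [IsLocallyNoetherian Y]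
    (f : X ⟶ Y) [Flat f] (a : X) (hY : _root_.IsReduced (Y.presheaf.stalk (f a)))
    (hfib : ∀ y : Y, AlgebraicGeometry.IsReduced (f.fiber y))
    (ha : Killed (X.presheaf.stalk a) (X.presheaf.stalk a)) :
    _root_.IsReduced (X.presheaf.stalk a) := by
  letI := (f.stalkMap a).hom.toAlgebra
  haveI : Module.Flat (Y.presheaf.stalk (f a)) (X.presheaf.stalk a) := Flat.stalkMap f a
  haveI : IsLocalHom (algebraMap (Y.presheaf.stalk (f a)) (X.presheaf.stalk a)) :=
    inferInstanceAs (IsLocalHom (f.stalkMap a).hom)
  obtain ⟨hK, -⟩ := killed_of_killed_tensor (Y.presheaf.stalk (f a)) (X.presheaf.stalk a)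
    (X.presheaf.stalk a) (Y.presheaf.stalk (f a))
    ((Killed.congr (TensorProduct.AlgebraTensorModule.rid (Y.presheaf.stalk (f a)) (X.presheaf.stalk a)
      (X.presheaf.stalk a))).2 ha)
  haveI := hY
  have hbot := maximalIdeal_eq_bot_of_killed _ hK
  obtain ⟨q, hq⟩ : a ∈ Set.range (f.fiberι (f a)) := (f.range_fiberι (f a)).ge rfl
  haveI := hfib (f a)
  haveI : _root_.IsReduced ((f.fiber (f a)).presheaf.stalk q) := inferInstance
  obtain ⟨-, hker⟩ := Props12.stalkMap_fiberι f (f a) q
  have hinj : Function.Injective ((f.fiberι (f a)).stalkMap q).hom := by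
    rw [RingHom.injective_iff_ker_eq_bot, hker]
    clear hker
    revert hbot
    generalize f.fiberι (f a) q = b at hq
    subst hq
    intro hbot
    rw [hbot, Ideal.map_bot]
  have hred := isReduced_of_injective _ hinj
  clear hinj hker
  generalize f.fiberι (f a) q = b at hq hred
  subst hq
  exact hred

end Groth.Agent.AssSch12
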