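import Groth.Agent.AssSch12.Ass
import Groth.Agent.QCohLoc.Unit
import Mathlib.AlgebraicGeometry.Morphisms.Integral
import Mathlib.AlgebraicGeometry.Morphisms.QuasiSeparated
import Mathlib.RingTheory.Ideal.GoingUp

/-!
# Associated points and direct images
-/

set_option autoImplicit false
universe u

open CategoryTheory AlgebraicGeometry Opposite TopologicalSpace
open Groth.Agent.QCohLoc

namespace Groth.Agent.AssSch12

variable {X Y : Scheme.{u}} (f : X ⟶ Y) (M : X.Modules) [M.IsQuasicoherent]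

omit [M.IsQuasicoherent] in
theorem push_smul (V : Y.Opens) (r : Γ(Y, V)) (s : Γ((Coh.push f).obj M, V)) :
    (r • s : Γ((Coh.push f).obj M, V)) = (show Γ(M, f ⁻¹ᵁ V) from
      (f.app V).hom r • (show Γ(M, f ⁻¹ᵁ V) from s)) := rfl

theorem mem_ass_push_of_affine [IsLocallyNoetherian X] [IsLocallyNoetherian Y]
    {V : Y.Opens} (hV : IsAffineOpen V) (hW : IsAffineOpen (f ⁻¹ᵁ V)) {x : X} (hxW : f.base x ∈ V)
    (hx : x ∈ AssSch.Ass M) : f.base x ∈ AssSch.Ass ((Coh.push f).obj M) := by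
  haveI := isNoetherianRing_of_isAffineOpen hW
  haveI := isNoetherianRing_of_isAffineOpen hV
  obtain ⟨-, s, hs⟩ := isAssociatedPrime_iff.1 ((mem_ass_iff hW hxW M).1 hx)
  set y := f.base x with hy
  let z := ((Coh.push f).obj M).presheaf.germ V y hxW (show Γ((Coh.push f).obj M, V) from s)
  have hP : ∀ r : Γ(Y, V), r ∈ primeAt hV hxW ↔ (f.app V).hom r • s = 0 := by
    intro r
    rw [← Submodule.mem_bot Γ(X, f ⁻¹ᵁ V), ← Submodule.mem_colon_singleton, ← hs, mem_primeAt_iff,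
      mem_primeAt_iff, ← Scheme.preimage_basicOpen]
    exact Iff.rfl
  have hz0 : z ≠ 0 := by
    intro h
    obtain ⟨V', hyV', i, j, e⟩ := TopCat.Presheaf.germ_eq ((Coh.push f).obj M).presheaf y hxW hxW
      (show Γ((Coh.push f).obj M, V) from s) 0 (h.trans (map_zero _).symm)
    obtain ⟨h', hh', hyh⟩ := hV.exists_basicOpen_le (⟨y, hyV'⟩ : V') hxW
    have h0 : M.presheaf.map (homOfLE (X.basicOpen_le ((f.app V).hom h'))).op s = 0 := by
      have h1 := congr(((Coh.push f).obj M).presheaf.map (homOfLE hh').op $e)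
      rw [map_zero, map_zero, ← Functor.map_comp_apply] at h1
      have e' : f ⁻¹ᵁ Y.basicOpen h' = X.basicOpen ((f.app V).hom h') := Scheme.preimage_basicOpen f h'
      have h2 := congr(M.presheaf.map (eqToHom e'.symm).op $h1)
      replace h2 := h2.trans (map_zero _)
      refine Eq.trans ?_ h2
      show _ = M.presheaf.map _ (M.presheaf.map _ s)
      rw [← Functor.map_comp_apply]
      rfl
    obtain ⟨n, hn⟩ := exists_pow_smul_eq_zero M hW _ s h0
    refine (mem_primeAt_iff hV hxW h').1 ?_ hyh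
    exact (hV.primeIdealOf ⟨y, hxW⟩).2.mem_of_pow_mem n ((hP _).2 (by rwa [map_pow]))
  show IsAssociatedPrime _ _
  rw [isAssociatedPrime_iff]
  refine ⟨Ideal.IsMaximal.isPrime inferInstance, z, ?_⟩
  apply (IsLocalRing.maximalIdeal.isMaximal _).eq_of_le
  · intro htop
    have h1 := (Ideal.eq_top_iff_one _).1 htop
    rw [Submodule.mem_colon_singleton, Submodule.mem_bot, one_smul] at h1
    exact hz0 h1
  · rw [maximalIdeal_eq_map_primeAt hV hxW, Ideal.map_le_iff_le_comap]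
    intro r hr
    rw [Ideal.mem_comap, Submodule.mem_colon_singleton, Submodule.mem_bot, ← germ_smul', push_smul,
      show ((f.app V).hom r • s : Γ(M, f ⁻¹ᵁ V)) = 0 from (hP r).1 hr]
    exact map_zero _

theorem ass_push_subset [IsLocallyNoetherian X] [IsLocallyNoetherian Y] [QuasiCompact f] :
    AssSch.Ass ((Coh.push f).obj M) ⊆ f.base '' AssSch.Ass M := by
  intro y hy
  obtain ⟨-, z, hz⟩ := isAssociatedPrime_iff.1
    (show IsAssociatedPrime _ _ from hy)
  obtain ⟨V₀, hyV₀, s₀, rfl⟩ := ((Coh.push f).obj M).presheaf.exists_germ_eq z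
  obtain ⟨_, ⟨V, hV, rfl⟩, hyV, hVV₀⟩ := Y.isBasis_affineOpens.exists_subset_of_mem_open hyV₀ V₀.2
  haveI := isNoetherianRing_of_isAffineOpen hV
  replace hVV₀ : V ≤ V₀ := hVV₀
  set s := ((Coh.push f).obj M).presheaf.map (homOfLE hVV₀).op s₀ with hs
  rw [← TopCat.Presheaf.germ_res_apply ((Coh.push f).obj M).presheaf (homOfLE hVV₀) y hyV s₀, ← hs] at hz
  obtain ⟨G, hG⟩ := IsNoetherian.noetherian (primeAt hV hyV)
  have hkill : ∀ g ∈ primeAt hV hyV,
      ((Coh.push f).obj M).presheaf.germ V y hyV (g • s) = 0 := by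
    intro g hg
    rw [germ_smul', ← Submodule.mem_bot (Y.presheaf.stalk y), ← Submodule.mem_colon_singleton, ← hz]
    exact (germ_mem_maximalIdeal_iff hV hyV g).2 hg
  -- a neighbourhood killing all generators
  have hnb : ∀ g ∈ G, ∃ V' : Y.Opens, y ∈ V' ∧ ∃ i : V' ≤ V,
      ((Coh.push f).obj M).presheaf.map (homOfLE i).op (g • s) = 0 := by
    intro g hg
    obtain ⟨V', hyV', i, j, e⟩ := TopCat.Presheaf.germ_eq ((Coh.push f).obj M).presheaf y hyV hyV
      (g • s) 0 ((hkill g (hG.le (Submodule.subset_span hg))).trans (map_zero _).symm)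
    exact ⟨V', hyV', leOfHom i, e.trans (map_zero _)⟩
  choose Vg hyVg hVgV hVg0 using hnb
  let V₁ : Y.Opens := V ⊓ (G.attach.inf fun g => Vg g.1 g.2)
  have hyV₁ : y ∈ V₁ := by
    refine ⟨hyV, ?_⟩
    have : ∀ S : Finset {g // g ∈ G}, y ∈ S.inf fun g => Vg g.1 g.2 := by
      classical
      intro S
      induction S using Finset.induction with
      | empty => simp
      | insert a S ha ih => rw [Finset.inf_insert]; exact ⟨hyVg _ _, ih⟩
    exact this _
  obtain ⟨_, ⟨V₂, hV₂, rfl⟩, hyV₂, hV₂₁⟩ := Y.isBasis_affineOpens.exists_subset_of_mem_open hyV₁ V₁.2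
  replace hV₂₁ : V₂ ≤ V₁ := hV₂₁
  have hV₂V : V₂ ≤ V := hV₂₁.trans inf_le_left
  -- finitely many affines covering the preimage
  obtain ⟨𝒮, h𝒮, hcov⟩ := (isCompact_and_isOpen_iff_finite_and_eq_biUnion_affineOpens).1
    ⟨f.isCompact_preimage hV₂.isCompact, (f ⁻¹ᵁ V₂).2⟩
  have hle : ∀ W ∈ 𝒮, (W : X.Opens) ≤ f ⁻¹ᵁ V := fun W hW =>
    le_trans (fun p hp => by
      have : p ∈ (⋃ i ∈ 𝒮, ((i : X.Opens) : Set X)) := Set.mem_biUnion hW hp
      rw [← hcov] at this
      exact this) (f.preimage_mono hV₂V)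
  have hT := fun (W : X.affineOpens) (hW : W ∈ 𝒮) => exists_finite_ass_generating_support W.2 M
    (M.presheaf.map (homOfLE (hle W hW)).op (show Γ(M, f ⁻¹ᵁ V) from s))
  choose T hTfin hTass hTgen using hT
  let T' : Set X := ⋃ (W : X.affineOpens) (hW : W ∈ 𝒮), T W hW
  have hT'fin : T'.Finite := h𝒮.biUnion' fun W hW => hTfin W hW
  by_contra hne
  -- remove the closures of the images
  let C : Set Y := ⋃ t ∈ T', closure {f.base t}
  have hC : IsClosed C := hT'fin.isClosed_biUnion fun _ _ => isClosed_closure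
  have hyC : y ∉ C := by
    simp only [C, Set.mem_iUnion, not_exists]
    rintro t ht hyt
    obtain ⟨W, hW, htW⟩ := Set.mem_iUnion₂.1 ht
    obtain ⟨htW', htass, htne⟩ := hTass W hW t htW
    refine hne ⟨t, htass, ?_⟩
    have hspec : f.base t ⤳ y := specializes_iff_mem_closure.2 hyt
    have hftV : f.base t ∈ V := hle W hW htW'
    -- every generator vanishes at `f t`
    have hle' : primeAt hV hyV ≤ primeAt hV hftV := by
      rw [← hG]
      refine Submodule.span_le.2 fun g hg => ?_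
      show g ∈ primeAt hV hftV
      rw [mem_primeAt_iff]
      intro hftg
      apply htne
      have ht2 : f.base t ∈ V₂ := hspec.mem_open V₂.2 hyV₂
      have hgs : M.presheaf.germ (f ⁻¹ᵁ V) t hftV ((f.app V).hom g • (show Γ(M, f ⁻¹ᵁ V) from s)) = 0 := by
        have hV₂g : V₂ ≤ Vg g hg := hV₂₁.trans (inf_le_right.trans (Finset.inf_le (Finset.mem_attach _ ⟨g, hg⟩)))
        have h1 := congr(M.presheaf.germ (f ⁻¹ᵁ Vg g hg) t (hV₂g ht2) $(hVg0 g hg))
        replace h1 := h1.trans (map_zero _)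
        rw [← h1, push_smul]
        exact (TopCat.Presheaf.germ_res_apply M.presheaf (homOfLE (f.preimage_mono (hVgV g hg))) t (hV₂g ht2) _).symm
      rw [germ_smul'] at hgs
      have hu : IsUnit (X.presheaf.germ (f ⁻¹ᵁ V) t hftV ((f.app V).hom g)) := by
        have hftg' : t ∈ X.basicOpen ((f.app V).hom g) := by
          rw [← Scheme.preimage_basicOpen]; exact hftg
        exact (Scheme.mem_basicOpen _ _ _ (show t ∈ f ⁻¹ᵁ V from hftV)).1 hftg'
      rw [TopCat.Presheaf.germ_res_apply]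
      exact hu.smul_eq_zero.1 hgs
    exact (hspec.antisymm ((specializes_iff hV hyV hftV).2 hle')).eq
  apply (IsLocalRing.maximalIdeal.isMaximal (Y.presheaf.stalk y)).ne_top
  rw [hz, Ideal.eq_top_iff_one, Submodule.mem_colon_singleton, Submodule.mem_bot, one_smul]
  let V₃ : Y.Opens := V₂ ⊓ ⟨Cᶜ, hC.isOpen_compl⟩
  have hyV₃ : y ∈ V₃ := ⟨hyV₂, hyC⟩
  have h3V : V₃ ≤ V := inf_le_left.trans hV₂V
  rw [← TopCat.Presheaf.germ_res_apply ((Coh.push f).obj M).presheaf (homOfLE h3V) y hyV₃ s]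
  have hzero : M.presheaf.map (homOfLE (f.preimage_mono h3V)).op (show Γ(M, f ⁻¹ᵁ V) from s) = 0 := by
    apply TopCat.Presheaf.section_ext (F := (⟨M.presheaf, M.isSheaf⟩ : TopCat.Sheaf Ab X))
    intro p hp
    rw [map_zero]
    erw [TopCat.Presheaf.germ_res_apply]
    by_contra hp0
    have hp2 : p ∈ (⋃ i ∈ 𝒮, ((i : X.Opens) : Set X)) := hcov ▸ hp.1
    obtain ⟨W, hW, hpW⟩ := Set.mem_iUnion₂.1 hp2
    obtain ⟨t, ht, htp⟩ := hTgen W hW p hpW (by rw [TopCat.Presheaf.germ_res_apply]; exact hp0)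
    exact hp.2 (Set.mem_biUnion (Set.mem_iUnion₂.2 ⟨W, hW, ht⟩ : t ∈ T')
      (specializes_iff_mem_closure.1 (htp.map f.continuous)))
  have h5 : ((Coh.push f).obj M).presheaf.map (homOfLE h3V).op s = 0 := hzero
  rw [h5, map_zero]

theorem ass_push_eq_of_isAffineHom [IsLocallyNoetherian X] [IsLocallyNoetherian Y] [IsAffineHom f] :
    AssSch.Ass ((Coh.push f).obj M) = f.base '' AssSch.Ass M := by
  refine (ass_push_subset f M).antisymm ?_
  rintro _ ⟨x, hx, rfl⟩
  obtain ⟨_, ⟨V, hV, rfl⟩, hxV, -⟩ :=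
    Y.isBasis_affineOpens.exists_subset_of_mem_open (Set.mem_univ (f.base x)) isOpen_univ
  exact mem_ass_push_of_affine f M hV (hV.preimage f) hxV hx

theorem ass_push_eq_of_isOpenImmersion [IsLocallyNoetherian X] [IsLocallyNoetherian Y] [IsOpenImmersion f] :
    AssSch.Ass ((Coh.push f).obj M) = f.base '' AssSch.Ass M := by
  haveI : QuasiCompact f := inferInstance
  refine (ass_push_subset f M).antisymm ?_
  rintro _ ⟨x, hx, rfl⟩
  obtain ⟨_, ⟨V, hV, rfl⟩, hxV, hVr⟩ :=
    Y.isBasis_affineOpens.exists_subset_of_mem_open (show f.base x ∈ f.opensRange from ⟨x, rfl⟩) f.opensRange.2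
  have hW : IsAffineOpen (f ⁻¹ᵁ V) := by
    rw [← f.isAffineOpen_iff_of_isOpenImmersion, Scheme.Hom.image_preimage_eq_opensRange_inf,
      inf_eq_right.2 (show V ≤ f.opensRange from hVr)]
    exact hV
  exact mem_ass_push_of_affine f M hV hW hxV hx

theorem eq_of_specializes_of_isIntegralHom [IsIntegralHom f] {x y : X} (h : y ⤳ x)
    (he : f.base x = f.base y) : x = y := by
  obtain ⟨_, ⟨V, hV, rfl⟩, hxV, -⟩ :=
    Y.isBasis_affineOpens.exists_subset_of_mem_open (Set.mem_univ (f.base x)) isOpen_univ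
  have hW : IsAffineOpen (f ⁻¹ᵁ V) := hV.preimage f
  have hyW : y ∈ f ⁻¹ᵁ V := by show f.base y ∈ V; rw [← he]; exact hxV
  algebraize [(f.app V).hom]
  haveI : Algebra.IsIntegral Γ(Y, V) Γ(X, f ⁻¹ᵁ V) := ⟨Scheme.Hom.isIntegral_app f V hV⟩
  have hle := (specializes_iff hW hyW hxV).1 h
  have hc : ∀ {p : X} (hp : p ∈ f ⁻¹ᵁ V),
      (primeAt hW hp).comap (algebraMap Γ(Y, V) Γ(X, f ⁻¹ᵁ V)) = primeAt hV (show f.base p ∈ V from hp) := by
    intro p hp
    ext r
    rw [Ideal.mem_comap, mem_primeAt_iff, mem_primeAt_iff]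
    show p ∉ X.basicOpen ((f.app V).hom r) ↔ _
    rw [← Scheme.preimage_basicOpen]
    exact Iff.rfl
  have heq : primeAt hW hyW = primeAt hW hxV := by
    by_contra hne
    have hlt := Ideal.IsIntegral.comap_lt_comap (R := Γ(Y, V)) (lt_of_le_of_ne hle hne)
    rw [hc, hc] at hlt
    refine hlt.ne ?_
    simp only [he]
  have := congrArg hW.fromSpec (PrimeSpectrum.ext heq :
    hW.primeIdealOf ⟨y, hyW⟩ = hW.primeIdealOf ⟨x, hxV⟩)
  rw [hW.fromSpec_primeIdealOf, hW.fromSpec_primeIdealOf] at this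
  exact this.symm

omit f in
theorem eq_zero_of_germ_ass [IsLocallyNoetherian X] {V : X.Opens} (hV : IsAffineOpen V) (s : Γ(M, V))
    (h : ∀ (x : X) (hx : x ∈ V), x ∈ AssSch.Ass M → M.presheaf.germ V x hx s = 0) : s = 0 := by
  haveI := isNoetherianRing_of_isAffineOpen hV
  refine eq_zero_of_forall_associatedPrimes (R := Γ(X, V)) s fun p hp => ?_
  haveI := IsAssociatedPrime.isPrime hp
  obtain ⟨x, hx, rfl⟩ := exists_point hV p
  obtain ⟨g, hg, hgs⟩ := exists_smul_eq_zero_of_germ M hV hx s (h x hx ((mem_ass_iff hV hx M).2 hp))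
  exact ⟨g, (notMem_primeAt_iff hV hx g).2 hg, hgs⟩

omit f in
theorem ass_subset_iff [IsLocallyNoetherian X] (U : X.Opens) :
    AssSch.Ass M ⊆ (U : Set X) ↔
      ∀ (V : X.Opens), IsAffineOpen V → ∀ s : Γ(M, V),
        M.presheaf.map (homOfLE (inf_le_left : V ⊓ U ≤ V)).op s = 0 → s = 0 := by
  constructor
  · intro h V hV s hs
    refine eq_zero_of_germ_ass M hV s fun x hx hxa => ?_
    have h1 := congr(M.presheaf.germ (V ⊓ U) x ⟨hx, h hxa⟩ $hs)
    rw [map_zero, TopCat.Presheaf.germ_res_apply] at h1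
    exact h1
  · intro h x hxa
    by_contra hxU
    obtain ⟨_, ⟨V, hV, rfl⟩, hxV, -⟩ :=
      X.isBasis_affineOpens.exists_subset_of_mem_open (Set.mem_univ x) isOpen_univ
    haveI := isNoetherianRing_of_isAffineOpen hV
    obtain ⟨hp, s, hs⟩ := isAssociatedPrime_iff.1 ((mem_ass_iff hV hxV M).1 hxa)
    have hs0 : s = 0 := by
      refine h V hV s ?_
      apply TopCat.Presheaf.section_ext (F := (⟨M.presheaf, M.isSheaf⟩ : TopCat.Sheaf Ab X))
      intro y hy
      rw [map_zero]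
      erw [TopCat.Presheaf.germ_res_apply]
      obtain ⟨g, hgU, hyg⟩ := hV.exists_basicOpen_le (⟨y, hy.2⟩ : U) hy.1
      have hgP : g ∈ primeAt hV hxV := (mem_primeAt_iff hV hxV g).2 fun hxg => hxU (hgU hxg)
      rw [hs, Submodule.mem_colon_singleton, Submodule.mem_bot] at hgP
      exact germ_eq_zero_of_smul_eq_zero hy.1 M hyg hgP
    exact hp.ne_top (by rw [hs, hs0, Submodule.colon_singleton_zero])

end Groth.Agent.AssSch12
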