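import Groth.Agent.AssSch12.TensorGlobal
import Groth.Agent.AssSch12.FlatBase
import Groth.Agent.AssSch12.Push
import Mathlib.RingTheory.Length
import Mathlib.RingTheory.FiniteLength

/-!
# Maximal points of the support
-/

set_option autoImplicit false
set_option backward.isDefEq.respectTransparency false
universe u

open CategoryTheory AlgebraicGeometry Opposite TopologicalSpace
open Groth.Agent.QCohLoc IsLocalRing

namespace Groth.Agent.AssSch12

variable {X : Scheme.{u}} [IsLocallyNoetherian X] (M : X.Modules)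

theorem mem_support_iff {x : X} : x ∈ CohB1.support M ↔ Nontrivial (M.presheaf.stalk x) :=
  not_subsingleton_iff_nontrivial

theorem ass_max_iff (hM : Coh.IsQCoh M) (x : X) :
    (x ∈ AssSch.Ass M ∧ ∀ y ∈ AssSch.Ass M, y ⤳ x → y = x) ↔
      (Nontrivial (M.presheaf.stalk x) ∧ ∀ y : X, Nontrivial (M.presheaf.stalk y) → y ⤳ x → y = x) := by
  constructor
  · rintro ⟨hx, hmax⟩
    refine ⟨(mem_support_iff M).1 (mem_support_of_ass M hx), fun y hy hyx => ?_⟩
    obtain ⟨a, ha, hay⟩ := exists_ass_generalization M hM ((mem_support_iff M).2 hy)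
    obtain rfl := hmax a ha (hay.trans hyx)
    exact hyx.antisymm hay |>.eq
  · rintro ⟨hx, hmax⟩
    obtain ⟨a, ha, hax⟩ := exists_ass_generalization M hM ((mem_support_iff M).2 hx)
    obtain rfl := hmax a ((mem_support_iff M).1 (mem_support_of_ass M ha)) hax
    exact ⟨ha, fun y hy hyx => hmax y ((mem_support_iff M).1 (mem_support_of_ass M hy)) hyx⟩

theorem isSMulRegular_iff (hM : Coh.IsQCoh M) (f : Γ(X, ⊤)) :
    (∀ x : X, IsSMulRegular (M.presheaf.stalk x) (X.presheaf.germ ⊤ x trivial f)) ↔
      AssSch.Ass M ⊆ (X.basicOpen f : Set X) := by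
  haveI := hM
  constructor
  · intro h x hx
    by_contra hxf
    obtain ⟨z, hz, hk⟩ := (killed_stalk_iff M x).1 hx
    have hm : X.presheaf.germ ⊤ x trivial f ∈ maximalIdeal (X.presheaf.stalk x) := by
      rw [IsLocalRing.mem_maximalIdeal, mem_nonunits_iff, ← Scheme.mem_basicOpen X f x trivial]
      exact hxf
    exact hz ((h x).right_eq_zero_of_smul (hk _ hm))
  · intro h x
    refine isSMulRegular_iff_right_eq_zero_of_smul.2 fun z hz => ?_
    obtain ⟨_, ⟨V, hV, rfl⟩, hxV, -⟩ :=
      X.isBasis_affineOpens.exists_subset_of_mem_open (Set.mem_univ x) isOpen_univ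
    obtain ⟨g, m, hg, hm⟩ := exists_smul_stalk_eq_germ M hV hxV z
    let f' : Γ(X, V) := X.presheaf.map (homOfLE (le_top : V ≤ ⊤)).op f
    have hf' : ∀ (a : X) (ha : a ∈ V), X.presheaf.germ V a ha f' = X.presheaf.germ ⊤ a trivial f :=
      fun a ha => TopCat.Presheaf.germ_res_apply X.presheaf _ a ha f
    have h0 : M.presheaf.germ V x hxV (f' • m) = 0 := by
      rw [germ_smul', hf', ← hm, smul_comm, hz, smul_zero]
    obtain ⟨k, hk, hkm⟩ := exists_smul_eq_zero_of_germ M hV hxV _ h0
    have h1 : k • m = 0 := by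
      refine eq_zero_of_germ_ass M hV _ fun a ha haM => ?_
      refine germ_eq_zero_of_smul_eq_zero (r := f') ha M ?_ ?_
      · rw [Scheme.mem_basicOpen _ _ _ ha, hf', ← Scheme.mem_basicOpen X f a trivial]
        exact h haM
      · rw [smul_comm]; exact hkm
    have h2 := germ_eq_zero_of_smul_eq_zero hxV M hk h1
    rw [← hm] at h2
    exact ((Scheme.mem_basicOpen _ _ _ hxV).1 hg).smul_eq_zero.1 h2

theorem isFiniteLength_of_pow_le {R N : Type u} [CommRing R] [IsNoetherianRing R] [IsLocalRing R]
    [AddCommGroup N] [Module R N] [Module.Finite R N]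
    (h : maximalIdeal R ≤ (Module.annihilator R N).radical) : IsFiniteLength R N := by
  obtain ⟨n, hn⟩ := Ideal.exists_pow_le_of_le_radical_of_fg h (IsNoetherian.noetherian _)
  let J := maximalIdeal R ^ (n + 1)
  have hJ : Module.IsTorsionBySet R N (J : Set R) := fun v r =>
    Module.mem_annihilator.mp (hn (Ideal.pow_le_pow_right (Nat.le_succ n) r.2)) v
  let _ : Module (R ⧸ J) N := hJ.module
  have : IsScalarTower R (R ⧸ J) N := IsScalarTower.of_algebraMap_smul fun r v => rfl
  have : IsArtinianRing (R ⧸ J) :=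
    (isArtinianRing_iff_isNoetherianRing_krullDimLE_zero).mpr ⟨inferInstance, by
      rw [Ring.krullDimLE_zero_iff]
      intro P hP
      have h1 : maximalIdeal R ≤ P.comap (Ideal.Quotient.mk J) := by
        intro r hr
        refine (hP.comap (Ideal.Quotient.mk J)).mem_of_pow_mem (n + 1) ?_
        rw [Ideal.mem_comap, Ideal.Quotient.eq_zero_iff_mem.mpr (Ideal.pow_mem_pow hr (n + 1))]
        exact zero_mem _
      have h2 : (P.comap (Ideal.Quotient.mk J)).IsMaximal :=
        (maximalIdeal.isMaximal R).eq_of_le (Ideal.comap_ne_top _ hP.ne_top) h1 ▸ inferInstance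
      rcases Ideal.map_eq_top_or_isMaximal_of_surjective (Ideal.Quotient.mk J) Ideal.Quotient.mk_surjective h2 with h3 | h3
      · rw [Ideal.map_comap_of_surjective _ Ideal.Quotient.mk_surjective] at h3
        exact absurd h3 hP.ne_top
      · rwa [Ideal.map_comap_of_surjective _ Ideal.Quotient.mk_surjective] at h3⟩
  have : Module.Finite (R ⧸ J) N := Module.Finite.of_restrictScalars_finite R _ _
  rw [← Module.length_ne_top_iff,
    Module.length_eq_of_surjective (S := R) (R := R ⧸ J) (M := N) Ideal.Quotient.mk_surjective]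
  exact Module.length_ne_top

theorem max_support_iff (hM : Coh.IsCoh M) (x : X) :
    (Nontrivial (M.presheaf.stalk x) ∧ ∀ y : X, Nontrivial (M.presheaf.stalk y) → y ⤳ x → y = x) ↔
      (Nontrivial (M.presheaf.stalk x) ∧ IsFiniteLength (X.presheaf.stalk x) (M.presheaf.stalk x)) := by
  haveI := hM.1
  haveI := finite_stalk hM x
  refine and_congr_right fun hnt => ?_
  obtain ⟨_, ⟨V, hV, rfl⟩, hxV, -⟩ :=
    X.isBasis_affineOpens.exists_subset_of_mem_open (Set.mem_univ x) isOpen_univ
  haveI := isNoetherianRing_of_isAffineOpen hV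
  letI := TopCat.Presheaf.algebra_section_stalk X.presheaf (⟨x, hxV⟩ : V)
  haveI := hV.isLocalization_stalk ⟨x, hxV⟩
  constructor
  · intro hmax
    refine isFiniteLength_of_pow_le fun r hr => ?_
    rw [Ideal.radical_eq_sInf, Submodule.mem_sInf]
    rintro Q ⟨hQ, hQp⟩
    -- the point of `V` under `Q`
    obtain ⟨t, ht, htq⟩ := exists_point hV (Ideal.comap (algebraMap Γ(X, V) (X.presheaf.stalk x)) Q)
      (hq := hQp.comap _)
    have htx : t ⤳ x := by
      rw [specializes_iff hV ht hxV, htq]
      intro a ha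
      rw [← germ_mem_maximalIdeal_iff hV hxV a]
      exact le_maximalIdeal hQp.ne_top ha
    have hts : Nontrivial (M.presheaf.stalk t) := by
      by_contra hc
      rw [not_nontrivial_iff_subsingleton] at hc
      -- every element of the stalk at `x` is killed outside `Q`
      have hk : ∀ z : M.presheaf.stalk x, ∃ c ∉ Q, c • z = 0 := by
        intro z
        obtain ⟨g, m, hg, hm⟩ := exists_smul_stalk_eq_germ M hV hxV z
        obtain ⟨k, hk, hkm⟩ := exists_smul_eq_zero_of_germ M hV ht m (Subsingleton.elim _ _)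
        refine ⟨X.presheaf.germ V x hxV k * X.presheaf.germ V x hxV g, fun hmem => ?_, ?_⟩
        · rcases hQp.mem_or_mem hmem with h1 | h1
          · have : k ∈ primeAt hV ht := htq ▸ h1
            exact (mem_primeAt_iff hV ht k).1 this hk
          · have hu : IsUnit (X.presheaf.germ V x hxV g) := (Scheme.mem_basicOpen _ _ _ hxV).1 hg
            exact hQp.ne_top (Ideal.eq_top_of_isUnit_mem _ h1 hu)
        · rw [mul_smul, hm, ← germ_smul', hkm, map_zero]
      obtain ⟨n, v, hv⟩ := Module.Finite.exists_fin (R := X.presheaf.stalk x) (M := M.presheaf.stalk x)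
      choose c hc1 hc2 using fun i => hk (v i)
      have hmem : (∏ i, c i) ∈ Module.annihilator (X.presheaf.stalk x) (M.presheaf.stalk x) := by
        rw [← Submodule.annihilator_top, ← hv, Submodule.mem_annihilator_span]
        rintro ⟨_, i, rfl⟩
        rw [← Finset.prod_erase_mul _ _ (Finset.mem_univ i), mul_smul, hc2 i, smul_zero]
      obtain ⟨i, -, hi⟩ := hQp.prod_mem_iff.1 (hQ hmem)
      exact hc1 i hi
    obtain rfl := hmax t hts htx
    have hQm : Q = maximalIdeal _ := by
      refine ((IsLocalization.map_comap (primeAt hV hxV).primeCompl (X.presheaf.stalk t) Q).symm.trans ?_)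
      show Ideal.map (algebraMap Γ(X, V) (X.presheaf.stalk t))
        (Ideal.comap (algebraMap Γ(X, V) (X.presheaf.stalk t)) Q) = _
      rw [← htq]
      exact (maximalIdeal_eq_map_primeAt hV hxV).symm
    exact hQm ▸ hr
  · intro hfl y hy hyx
    obtain ⟨a, ha, hay⟩ := exists_ass_generalization M hM.1 ((mem_support_iff M).2 hy)
    have hax : a ⤳ x := hay.trans hyx
    have haV : a ∈ V := hax.mem_open V.2 hxV
    obtain ⟨hp, s, hs⟩ := isAssociatedPrime_iff.1 ((mem_ass_iff hV haV M).1 ha)
    suffices hax' : primeAt hV hxV ≤ primeAt hV haV by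
      have : x ⤳ a := (specializes_iff hV hxV haV).2 hax'
      obtain rfl : a = x := hax.antisymm this |>.eq
      exact hyx.antisymm hay |>.eq
    intro r hr
    haveI := (isFiniteLength_iff_isNoetherian_isArtinian.mp hfl).2
    let N := Submodule.span (X.presheaf.stalk x) {M.presheaf.germ V x hxV s}
    -- a power of `r` kills the germ
    obtain ⟨n, hn⟩ : ∃ n : ℕ, X.presheaf.germ V x hxV r ^ n • M.presheaf.germ V x hxV s = 0 := by
      let c : ℕ →o (Submodule (X.presheaf.stalk x) (M.presheaf.stalk x))ᵒᵈ :=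
        ⟨fun n => OrderDual.toDual (Submodule.span _ {X.presheaf.germ V x hxV r ^ n • M.presheaf.germ V x hxV s}),
          fun i j hij => by
            show Submodule.span _ _ ≤ Submodule.span _ _
            rw [Submodule.span_singleton_le_iff_mem, ← Nat.sub_add_cancel hij, pow_add, mul_smul]
            exact Submodule.smul_mem _ _ (Submodule.mem_span_singleton_self _)⟩
      obtain ⟨n, hn⟩ := IsArtinian.monotone_stabilizes c
      refine ⟨n, ?_⟩
      have h1 : X.presheaf.germ V x hxV r ^ n • M.presheaf.germ V x hxV s ∈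
          Submodule.span (X.presheaf.stalk x) {X.presheaf.germ V x hxV r ^ (n + 1) • M.presheaf.germ V x hxV s} := by
        have := hn (n + 1) (Nat.le_succ n)
        exact (OrderDual.toDual.injective this).le (Submodule.mem_span_singleton_self _)
      obtain ⟨b, hb⟩ := Submodule.mem_span_singleton.1 h1
      have hu : IsUnit (1 - b * X.presheaf.germ V x hxV r) := by
        refine IsLocalRing.isUnit_one_sub_self_of_mem_nonunits _ ?_
        exact (mem_maximalIdeal _).1 (Ideal.mul_mem_left _ b ((germ_mem_maximalIdeal_iff hV hxV r).2 hr))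
      refine hu.smul_eq_zero.1 ?_
      rw [sub_smul, one_smul, mul_smul, ← mul_smul (X.presheaf.germ V x hxV r), ← pow_succ', hb, sub_self]
    rw [← map_pow, ← germ_smul'] at hn
    obtain ⟨k, hk, hks⟩ := exists_smul_eq_zero_of_germ M hV hxV _ hn
    rw [← mul_smul] at hks
    have : k * r ^ n ∈ primeAt hV haV := by
      rw [hs, Submodule.mem_colon_singleton, Submodule.mem_bot]
      exact hks
    rcases hp.mem_or_mem this with h1 | h1
    · exact absurd h1 ((notMem_primeAt_iff hV haV k).2 (hax.mem_open (X.basicOpen k).isOpen hk |> fun h => h))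
    · exact hp.mem_of_pow_mem n h1

theorem eq_of_specializes_map {Y : Scheme.{u}} (f : X ⟶ Y) [IsLocallyNoetherian Y]
    (hY : AssSch.NoEmbedded (Coh.structureModule Y)) (F : X.Modules) (hfl : FlatMod.IsFlatOver f F)
    (x : X) (hx : x ∈ AssSch.Ass F) (hYq : Coh.IsQCoh (Coh.structureModule Y)) (y : Y) (hy : y ⤳ f x) :
    y = f x := by
  have hfx := ((mem_ass_flat_iff f x F (hfl x)).1 hx).1
  have hnt : y ∈ CohB1.support (Coh.structureModule Y) := fun h => by
    haveI : Subsingleton ((Coh.structureModule Y).presheaf.stalk y) := h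
    haveI : Subsingleton (Y.presheaf.stalk y) := (bijective_smul_unitOne y).1.subsingleton
    exact not_subsingleton (Y.presheaf.stalk y) inferInstance
  obtain ⟨a, ha, hay⟩ := exists_ass_generalization (Coh.structureModule Y) hYq hnt
  obtain rfl := hY (f x) hfx a ha (hay.trans hy)
  exact hy.antisymm hay |>.eq

end Groth.Agent.AssSch12
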