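import Groth.Agent.AssSch12.Primary
import Groth.Agent.AssSch12.Push
import Mathlib.Algebra.Category.Grp.Limits
import Mathlib.Algebra.Category.Grp.Abelian

/-!
# Uniqueness of primary decomposition without embedded points; filtrations
-/

set_option autoImplicit false
universe u

open CategoryTheory CategoryTheory.Limits AlgebraicGeometry Opposite TopologicalSpace
open Groth.Agent.QCohLoc

namespace Groth.Agent.AssSch12

variable {X : Scheme.{u}} [IsLocallyNoetherian X] (M : X.Modules)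

theorem eq_zero_of_germ_generic {N : X.Modules} (hN : Coh.IsQCoh N) {x : X}
    (hA : AssSch.Ass N ⊆ {x}) {W : X.Opens} (s : Γ(N, W))
    (h : ∀ hx : x ∈ W, N.presheaf.germ W x hx s = 0) : s = 0 := by
  apply TopCat.Presheaf.section_ext (F := (⟨N.presheaf, N.isSheaf⟩ : TopCat.Sheaf Ab X))
  intro y hy
  refine Eq.trans ?_ (map_zero _).symm
  show N.presheaf.germ W y hy s = 0
  obtain ⟨_, ⟨V, hV, rfl⟩, hyV, hVW⟩ := X.isBasis_affineOpens.exists_subset_of_mem_open hy W.2
  replace hVW : V ≤ W := hVW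
  rw [← TopCat.Presheaf.germ_res_apply N.presheaf (homOfLE hVW) y hyV s]
  haveI := hN
  rw [eq_zero_of_germ_ass N hV (N.presheaf.map (homOfLE hVW).op s) fun z hz hza => ?_, map_zero]
  obtain rfl := Set.mem_singleton_iff.1 (hA hza)
  rw [TopCat.Presheaf.germ_res_apply]
  exact h (hVW hz)

theorem ker_eq_ker (hM : Coh.IsCoh M) (hne : AssSch.NoEmbedded M)
    (G : ↥(AssSch.Ass M) → X.Modules) (q : ∀ x, M ⟶ G x)
    (hG : ∀ x, Coh.IsQCoh (G x)) (hA : ∀ x, AssSch.Ass (G x) ⊆ {x.1})
    (hm : ∀ (T : X.Modules) (a b : T ⟶ M), (∀ x, a ≫ q x = b ≫ q x) → a = b)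
    (x : ↥(AssSch.Ass M)) (W : X.Opens) (s : Γ(M, W)) :
    (q x).app W s = 0 ↔ ∀ hx : x.1 ∈ W, M.presheaf.germ W x.1 hx s = 0 := by
  constructor
  swap
  · intro h
    refine eq_zero_of_germ_generic (hG x) (hA x) _ fun hx => ?_
    rw [← stalkFunctor_map_germ, h hx]; exact map_zero _
  intro h hx
  haveI := hM.1
  obtain ⟨_, ⟨V, hV, rfl⟩, hxV, hVW⟩ := X.isBasis_affineOpens.exists_subset_of_mem_open hx W.2
  replace hVW : V ≤ W := hVW
  haveI := isNoetherianRing_of_isAffineOpen hV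
  haveI := ((Coherent.isCoh_iff_finite_sections M).1 hM).2 V hV
  -- the finitely many associated points in the affine
  let F : Set ↥(AssSch.Ass M) := {y | y.1 ∈ V}
  classical
  have hF : F.Finite := by
    refine Set.Finite.of_injOn (f := fun y => if h : y.1 ∈ V then primeAt hV h else ⊥)
      (fun y hy => ?_) (fun a ha b hb e => ?_) (associatedPrimes.finite Γ(X, V) Γ(M, V))
    · dsimp only
      rw [dif_pos (show y.1 ∈ V from hy)]
      exact (mem_ass_iff hV hy M).1 y.2
    · dsimp only at e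
      rw [dif_pos (show a.1 ∈ V from ha), dif_pos (show b.1 ∈ V from hb)] at e
      exact Subtype.ext (((specializes_iff hV ha hb).2 e.le).antisymm ((specializes_iff hV hb ha).2 e.ge)).eq
  -- each vanishes near `x`
  have hnb : ∀ y ∈ F, ∃ (D : X.Opens) (_ : x.1 ∈ D) (i : D ≤ W),
      (q y).app D (M.presheaf.map (homOfLE i).op s) = 0 := by
    intro y _
    by_cases hy : y = x
    · subst hy
      refine ⟨W, hx, le_rfl, ?_⟩
      rw [show M.presheaf.map (homOfLE (le_refl W)).op s = s by simp]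
      exact h
    · have hns : ¬ y.1 ⤳ x.1 := fun hs => hy (Subtype.ext (hne x.1 x.2 y.1 y.2 hs).symm)
      let D : X.Opens := W ⊓ ⟨(closure {y.1})ᶜ, isClosed_closure.isOpen_compl⟩
      refine ⟨D, ⟨hx, fun hc => hns (specializes_iff_mem_closure.2 hc)⟩, inf_le_left, ?_⟩
      exact eq_zero_of_germ_generic (hG y) (hA y) _ fun hyD => absurd (subset_closure (Set.mem_singleton _)) hyD.2
  choose D hxD hDW hD using hnb
  let D' : X.Opens := V ⊓ hF.toFinset.attach.inf fun y => D y.1 (hF.mem_toFinset.1 y.2)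
  have hxD' : x.1 ∈ D' := by
    refine ⟨hxV, ?_⟩
    classical
    have : ∀ S : Finset {y // y ∈ hF.toFinset},
        x.1 ∈ S.inf fun y => D y.1 (hF.mem_toFinset.1 y.2) := by
      intro S
      induction S using Finset.induction with
      | empty => simp
      | insert a S ha ih => rw [Finset.inf_insert]; exact ⟨hxD _ _, ih⟩
    exact this _
  have hD'W : D' ≤ W := inf_le_left.trans hVW
  set s' := M.presheaf.map (homOfLE hD'W).op s with hs'
  -- killed by every projection
  have hall : ∀ y, (q y).app D' s' = 0 := by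
    intro y
    by_cases hy : y.1 ∈ V
    · have hle : D' ≤ D y hy := inf_le_right.trans
        (Finset.inf_le (Finset.mem_attach _ ⟨y, hF.mem_toFinset.2 hy⟩))
      have e : s' = M.presheaf.map (homOfLE hle).op (M.presheaf.map (homOfLE (hDW y hy)).op s) := by
        rw [hs', ← Functor.map_comp_apply]; rfl
      rw [e]
      refine (Coherent.app_resM (q y) hle _).trans ?_
      rw [hD y hy, map_zero]
    · exact eq_zero_of_germ_generic (hG y) (hA y) _ fun hyD => absurd hyD.1 hy
  have hs0 : s' = 0 := by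
    haveI : Mono (Pi.lift q) := ⟨fun a b e => hm _ a b fun y => by
      simpa using congrArg (fun φ => φ ≫ Pi.π G y) e⟩
    refine Coherent.app_injective_of_mono (Pi.lift q) D' (?_ : _ = _)
    rw [map_zero]
    let P := Scheme.Modules.toPresheaf X ⋙ (CategoryTheory.evaluation _ Ab.{u}).obj (op D')
    haveI : HasLimitsOfShape (Discrete ↥(AssSch.Ass M)) Ab.{u} := inferInstance
    haveI : PreservesLimitsOfShape (Discrete ↥(AssSch.Ass M))
        ((CategoryTheory.evaluation (Opens X)ᵒᵖ Ab.{u}).obj (op D')) :=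
      evaluation_preservesLimitsOfShape _
    haveI : PreservesLimitsOfShape (Discrete ↥(AssSch.Ass M)) P :=
      comp_preservesLimitsOfShape (Scheme.Modules.toPresheaf X) _
    refine Concrete.isLimit_ext (Discrete.functor G ⋙ P)
      (isLimitOfPreserves P (limit.isLimit (Discrete.functor G))) _ _ fun y => ?_
    show (Pi.π G y.as).app D' ((Pi.lift q).app D' s') = (Pi.π G y.as).app D' 0
    rw [map_zero, ← hall y.as]
    exact ConcreteCategory.congr_hom
      (congrArg (fun φ => Scheme.Modules.Hom.app φ D') (Pi.lift_π q y.as)) s'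
  rw [← TopCat.Presheaf.germ_res_apply M.presheaf (homOfLE hD'W) x.1 hxD' s, ← hs', hs0, map_zero]

omit [IsLocallyNoetherian X] in
theorem comp_eq_zero_of_ker {A B C : X.Modules} (p : A ⟶ B) (r : A ⟶ C)
    (h : ∀ (W : X.Opens) (s : Γ(A, W)), p.app W s = 0 → r.app W s = 0) : kernel.ι p ≫ r = 0 := by
  ext W k
  exact h W _ (Coherent.kernel_ι_app_zero p W k)

theorem exists_iso (hM : Coh.IsCoh M) (hne : AssSch.NoEmbedded M)
    (G G' : ↥(AssSch.Ass M) → X.Modules) (q : ∀ x, M ⟶ G x) (q' : ∀ x, M ⟶ G' x)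
    (hq : ∀ x, Epi (q x)) (hq' : ∀ x, Epi (q' x)) (hG : ∀ x, Coh.IsQCoh (G x)) (hG' : ∀ x, Coh.IsQCoh (G' x))
    (hA : ∀ x, AssSch.Ass (G x) ⊆ {x.1}) (hA' : ∀ x, AssSch.Ass (G' x) ⊆ {x.1})
    (hm : ∀ (T : X.Modules) (a b : T ⟶ M), (∀ x, a ≫ q x = b ≫ q x) → a = b)
    (hm' : ∀ (T : X.Modules) (a b : T ⟶ M), (∀ x, a ≫ q' x = b ≫ q' x) → a = b) (x : ↥(AssSch.Ass M)) :
    ∃ e : G x ≅ G' x, q x ≫ e.hom = q' x := by
  have hk := ker_eq_ker M hM hne G q hG hA hm x
  have hk' := ker_eq_ker M hM hne G' q' hG' hA' hm' x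
  haveI := hq x
  haveI := hq' x
  have h1 := comp_eq_zero_of_ker (q x) (q' x) fun W s h => (hk' W s).2 ((hk W s).1 h)
  have h2 := comp_eq_zero_of_ker (q' x) (q x) fun W s h => (hk W s).2 ((hk' W s).1 h)
  refine ⟨⟨Abelian.epiDesc (q x) (q' x) h1, Abelian.epiDesc (q' x) (q x) h2, ?_, ?_⟩,
    Abelian.comp_epiDesc _ _ _⟩
  · rw [← cancel_epi (q x), Abelian.comp_epiDesc_assoc, Abelian.comp_epiDesc, Category.comp_id]
  · rw [← cancel_epi (q' x), Abelian.comp_epiDesc_assoc, Abelian.comp_epiDesc, Category.comp_id]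

open Classical in
theorem finite_ass [CompactSpace X] (hM : Coh.IsCoh M) : (AssSch.Ass M).Finite := by
  haveI := hM.1
  obtain ⟨S, hS, hcov⟩ := (isCompact_and_isOpen_iff_finite_and_eq_biUnion_affineOpens
    (U := (Set.univ : Set X))).1 ⟨isCompact_univ, isOpen_univ⟩
  have : AssSch.Ass M ⊆ ⋃ V ∈ S, (AssSch.Ass M ∩ ((V : X.Opens) : Set X)) := by
    intro y hy
    obtain ⟨V, hV, hyV⟩ := Set.mem_iUnion₂.1 (hcov.le (Set.mem_univ y))
    exact Set.mem_iUnion₂.2 ⟨V, hV, hy, hyV⟩
  refine (hS.biUnion fun V _ => ?_).subset this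
  haveI := isNoetherianRing_of_isAffineOpen V.2
  haveI := ((Coherent.isCoh_iff_finite_sections M).1 hM).2 V.1 V.2
  refine Set.Finite.of_injOn (f := fun y => if h : y ∈ V.1 then primeAt V.2 h else ⊥)
    (fun y hy => ?_) (fun a ha b hb e => ?_) (associatedPrimes.finite Γ(X, V.1) Γ(M, V.1))
  · dsimp only
    rw [dif_pos (show y ∈ V.1 from hy.2)]
    exact (mem_ass_iff V.2 hy.2 M).1 hy.1
  · dsimp only at e
    rw [dif_pos (show a ∈ V.1 from ha.2), dif_pos (show b ∈ V.1 from hb.2)] at e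
    exact (((specializes_iff V.2 ha.2 hb.2).2 e.le).antisymm ((specializes_iff V.2 hb.2 ha.2).2 e.ge)).eq

omit [IsLocallyNoetherian X] in
/-- The part of a subobject killed by a morphism. -/
noncomputable abbrev kerSub {N : X.Modules} (S : Subobject M) (φ : M ⟶ N) : Subobject M :=
  Subobject.mk (kernel.ι (S.arrow ≫ φ) ≫ S.arrow)

omit [IsLocallyNoetherian X] in
theorem kerSub_le {N : X.Modules} (S : Subobject M) (φ : M ⟶ N) : kerSub M S φ ≤ S :=
  Subobject.mk_le_of_comm (kernel.ι (S.arrow ≫ φ)) rfl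

omit [IsLocallyNoetherian X] in
theorem kerSub_arrow {N : X.Modules} (S : Subobject M) (φ : M ⟶ N) :
    (kerSub M S φ).arrow ≫ φ = 0 := by
  rw [kerSub, ← Subobject.underlyingIso_hom_comp_eq_mk, Category.assoc, Category.assoc,
    kernel.condition, comp_zero]

omit [IsLocallyNoetherian X] in
theorem isQCoh_kerSub {N : X.Modules} (S : Subobject M) (φ : M ⟶ N) (hN : Coh.IsQCoh N)
    (hS : Coh.IsQCoh (S : X.Modules)) : Coh.IsQCoh (kerSub M S φ : X.Modules) := by
  haveI := hN
  haveI := hS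
  haveI := Coherent.isQCoh_kernel (S.arrow ≫ φ)
  exact Coherent.isQCoh_of_iso (Subobject.underlyingIso (kernel.ι (S.arrow ≫ φ) ≫ S.arrow)).symm

omit [IsLocallyNoetherian X] in
/-- The successive quotient embeds. -/
theorem ass_quot_kerSub {N : X.Modules} (S T : Subobject M) (φ : M ⟶ N) (h : T = kerSub M S φ)
    (hTS : T ≤ S) : AssSch.Ass (cokernel (Subobject.ofLE T S hTS)) ⊆ AssSch.Ass N := by
  subst h
  let ι₀ := Subobject.ofLE (kerSub M S φ) S hTS
  have hι₀ : ι₀ = (Subobject.underlyingIso (kernel.ι (S.arrow ≫ φ) ≫ S.arrow)).hom ≫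
      kernel.ι (S.arrow ≫ φ) := by
    rw [← cancel_mono S.arrow, Subobject.ofLE_arrow, Category.assoc]
    exact (Subobject.underlyingIso_hom_comp_eq_mk _).symm
  have hc : ι₀ ≫ S.arrow ≫ φ = 0 := by rw [hι₀, Category.assoc, kernel.condition, comp_zero]
  let ψ : cokernel ι₀ ⟶ N := cokernel.desc _ (S.arrow ≫ φ) hc
  haveI : Mono ψ := by
    refine Preadditive.mono_of_cancel_zero _ fun {P} k hk => ?_
    obtain ⟨P', π, hπ, a, ha⟩ := surjective_up_to_refinements_of_epi (cokernel.π ι₀) k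
    have h0 : a ≫ S.arrow ≫ φ = 0 := by
      have := congrArg (π ≫ ·) hk
      simpa [ψ, reassoc_of% ha] using this
    rw [← cancel_epi π, comp_zero, ha]
    obtain ⟨b, hb⟩ : ∃ b, b ≫ ι₀ = a := ⟨kernel.lift (S.arrow ≫ φ) a h0 ≫
      (Subobject.underlyingIso (kernel.ι (S.arrow ≫ φ) ≫ S.arrow)).inv, by
        rw [hι₀, Category.assoc, Iso.inv_hom_id_assoc, kernel.lift_ι]⟩
    rw [← hb, Category.assoc, cokernel.condition, comp_zero]
  exact ass_subset_of_mono _ ψ

omit [IsLocallyNoetherian X] in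
theorem exists_filtration [IsNoetherian X] (hM : Coh.IsCoh M) :
    ∃ (n : ℕ) (F : Fin (n + 1) → Subobject M) (hF : Antitone F),
      F 0 = ⊤ ∧ F (Fin.last n) = ⊥ ∧ (∀ j, Coh.IsCoh ((F j : Subobject M) : X.Modules)) ∧
        ∀ i : Fin n,
          IsZero (cokernel (Subobject.ofLE (F i.succ) (F i.castSucc) (hF (Fin.castSucc_lt_succ (i := i)).le))) ∨
            ∃ x ∈ AssSch.Ass M,
              AssSch.Ass (cokernel (Subobject.ofLE (F i.succ) (F i.castSucc) (hF (Fin.castSucc_lt_succ (i := i)).le))) = {x} := by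
  obtain ⟨n, e, he⟩ : ∃ (n : ℕ) (e : Fin n → X), Set.range e = AssSch.Ass M :=
    (finite_ass M hM).fin_param.imp fun n ⟨e, _, he⟩ => ⟨e, he⟩
  let step : ℕ → Subobject M → Subobject M := fun i S =>
    if hi : i < n then kerSub M S (primπ (e ⟨i, hi⟩) M hM) else S
  let G : ℕ → Subobject M := fun i => Nat.rec ⊤ step i
  have hG1 : ∀ i, G (i + 1) = step i (G i) := fun _ => rfl
  have hle : ∀ i, G (i + 1) ≤ G i := by
    intro i
    rw [hG1]
    dsimp only [step]
    split_ifs with hi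
    · exact kerSub_le _ _ _
    · exact le_rfl
  have hG : Antitone G := antitone_nat_of_succ_le hle
  have hcoh : ∀ i, Coh.IsCoh (Subobject.underlying.obj (G i)) := by
    intro i
    have hq : Coh.IsQCoh (Subobject.underlying.obj (G i)) := by
      induction i with
      | zero =>
        haveI := hM.1
        exact Coherent.isQCoh_of_iso (Subobject.underlyingIso (𝟙 M)).symm
      | succ i ih =>
        rw [hG1]
        dsimp only [step]
        split_ifs with hi
        · exact isQCoh_kerSub _ _ _ (isQCoh_prim _ M hM) ih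
        · exact ih
    haveI : Mono (Subobject.arrow (X := M) (G i)) := Subobject.arrow_mono _
    exact @Coherent.isCoh_of_mono X inferInstance M _ (Subobject.arrow (X := M) (G i)) this hM hq
  refine ⟨n, fun j => G j, fun a b h => hG h, rfl, ?_, fun j => hcoh j, fun i => ?_⟩
  · -- the last step is zero
    show G n = ⊥
    have hk : ∀ (i : ℕ) (hi : i < n), (G n).arrow ≫ primπ (e ⟨i, hi⟩) M hM = 0 := by
      intro i hi
      have h1 : G n ≤ step i (G i) := (hG1 i) ▸ hG hi
      dsimp only [step] at h1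
      rw [dif_pos hi] at h1
      rw [← Subobject.ofLE_arrow h1, Category.assoc, kerSub_arrow, comp_zero]
    have h0 : (G n).arrow = 0 := primπ_jointly_mono M hM _ _ _ fun y => by
      obtain ⟨i, hi⟩ := he.ge y.2
      rw [zero_comp]
      have := hk i.1 i.2
      rw [show (⟨i.1, i.2⟩ : Fin n) = i from rfl, hi] at this
      exact this
    exact le_bot_iff.1 (Subobject.le_of_comm 0 (by simp [h0]))
  · have hi := i.2
    have hS : G (i.1 + 1) = kerSub M (G i) (primπ (e i) M hM) := by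
      rw [hG1]; dsimp only [step]; rw [dif_pos hi]
    let ι₀ := Subobject.ofLE (G (i.1 + 1)) (G i) (hle i)
    have hsub : AssSch.Ass (cokernel ι₀) ⊆ {e i} :=
      (ass_quot_kerSub M (G i) (G (i.1 + 1)) (primπ (e i) M hM) hS (hle i)).trans
        (ass_prim_subset (e i) M hM)
    have hq : Coh.IsQCoh (cokernel ι₀) :=
      @Coherent.isQCoh_cokernel X _ _ ι₀ (hcoh (i.1 + 1)).1 (hcoh i).1
    show IsZero (cokernel ι₀) ∨ ∃ x ∈ AssSch.Ass M, AssSch.Ass (cokernel ι₀) = {x}
    by_cases hz : e i ∈ AssSch.Ass (cokernel ι₀)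
    · exact Or.inr ⟨e i, he.le ⟨i, rfl⟩, hsub.antisymm (by simpa using hz)⟩
    · refine Or.inl ?_
      rw [IsZero.iff_id_eq_zero]
      ext W s
      refine eq_zero_of_germ_generic hq hsub s fun hx => ?_
      by_contra hne
      haveI := hq
      obtain ⟨_, ⟨V, hV, rfl⟩, hxV, hVW⟩ := X.isBasis_affineOpens.exists_subset_of_mem_open hx W.2
      replace hVW : V ≤ W := hVW
      rw [← TopCat.Presheaf.germ_res_apply (cokernel ι₀).presheaf (homOfLE hVW) (e i) hxV s] at hne
      obtain ⟨y, hy, hya⟩ := ass_nonempty_of_section hq hV ((cokernel ι₀).presheaf.map (homOfLE hVW).op s)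
        (fun h0 => hne (by rw [h0, map_zero]))
      exact hz (Set.mem_singleton_iff.1 (hsub hya) ▸ hya)

end Groth.Agent.AssSch12
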