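import Mathlib.RingTheory.Length
import Mathlib.Algebra.BigOperators.WithTop
import Mathlib.RingTheory.Nakayama
import Mathlib.RingTheory.Ideal.AssociatedPrime.Finiteness
import Mathlib.RingTheory.Ideal.KrullsHeightTheorem
import Mathlib.RingTheory.KrullDimension.Module
import Mathlib.RingTheory.KrullDimension.Zero
import Mathlib.Algebra.Module.SnakeLemma
import Mathlib.Algebra.Module.LocalizedModule.Exact
import Mathlib.RingTheory.Support
import Mathlib.RingTheory.HopkinsLevitzki

/-!
# The length of `M / tM` for a module of dimension one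
-/

set_option autoImplicit false
universe u

open LinearMap (ker range lsmul)

namespace Groth.Agent.AssSch12

variable {A : Type u} [CommRing A] [IsNoetherianRing A] [IsLocalRing A]

/-- cokernel of multiplication by `t` -/
abbrev coTor (t : A) (N : Type u) [AddCommGroup N] [Module A N] :=
  N ⧸ range (lsmul A N t)

/-- kernel of multiplication by `t` -/
abbrev tor (t : A) (N : Type u) [AddCommGroup N] [Module A N] := ker (lsmul A N t)

theorem six_term (t : A) {N₁ N₂ N₃ : Type u} [AddCommGroup N₁] [Module A N₁] [AddCommGroup N₂]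
    [Module A N₂] [AddCommGroup N₃] [Module A N₃] (f : N₁ →ₗ[A] N₂) (g : N₂ →ₗ[A] N₃)
    (hf : Function.Injective f) (hg : Function.Surjective g) (hfg : Function.Exact f g) :
    ∃ d : ℕ∞,
      (Module.length A (tor t N₁) ≠ ⊤ → Module.length A (tor t N₃) ≠ ⊤ →
        Module.length A (tor t N₂) ≠ ⊤ ∧ d ≠ ⊤) ∧
      (Module.length A (coTor t N₁) ≠ ⊤ → Module.length A (coTor t N₃) ≠ ⊤ →
        Module.length A (coTor t N₂) ≠ ⊤) ∧
      Module.length A (tor t N₁) + Module.length A (tor t N₃) =
        Module.length A (tor t N₂) + d ∧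
      Module.length A (coTor t N₁) + Module.length A (coTor t N₃) =
        d + Module.length A (coTor t N₂) := by
  classical
  set i₁ := lsmul A N₁ t
  set i₂ := lsmul A N₂ t
  set i₃ := lsmul A N₃ t
  have h₁ : f.comp i₁ = i₂.comp f := LinearMap.ext fun x => f.map_smul t x
  have h₂ : g.comp i₂ = i₃.comp g := LinearMap.ext fun x => g.map_smul t x
  obtain ⟨σ, hσ⟩ := hg.hasRightInverse
  obtain ⟨ρ, hρ⟩ := hf.hasLeftInverse
  let ι₃ : tor t N₃ →ₗ[A] N₃ := (ker i₃).subtype
  let ι₂ : tor t N₂ →ₗ[A] N₂ := (ker i₂).subtype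
  have hι₃ : Function.Exact ι₃ i₃ := LinearMap.exact_subtype_ker_map i₃
  have hι₂ : Function.Exact ι₂ i₂ := LinearMap.exact_subtype_ker_map i₂
  let π₁ : N₁ →ₗ[A] coTor t N₁ := (range i₁).mkQ
  let π₂ : N₂ →ₗ[A] coTor t N₂ := (range i₂).mkQ
  have hπ₁ : Function.Exact i₁ π₁ := LinearMap.exact_map_mkQ_range i₁
  have hπ₂ : Function.Exact i₂ π₂ := LinearMap.exact_map_mkQ_range i₂
  let δ := SnakeLemma.δ i₁ i₂ i₃ f g hfg f g hfg h₁ h₂ σ (funext hσ) ρ (funext hρ) ι₃ hι₃ π₁ hπ₁
  let F₁ : tor t N₁ →ₗ[A] tor t N₂ := f.restrict fun x hx => by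
    rw [LinearMap.mem_ker] at hx ⊢
    rw [← LinearMap.comp_apply i₂, ← h₁, LinearMap.comp_apply, hx, map_zero]
  let F₂ : tor t N₂ →ₗ[A] tor t N₃ := g.restrict fun x hx => by
    rw [LinearMap.mem_ker] at hx ⊢
    rw [← LinearMap.comp_apply i₃, ← h₂, LinearMap.comp_apply, hx, map_zero]
  let G₁ : coTor t N₁ →ₗ[A] coTor t N₂ := Submodule.mapQ _ _ f (by
    rintro _ ⟨x, rfl⟩; exact ⟨f x, (f.map_smul t x).symm⟩)
  let G₂ : coTor t N₂ →ₗ[A] coTor t N₃ := Submodule.mapQ _ _ g (by
    rintro _ ⟨x, rfl⟩; exact ⟨g x, (g.map_smul t x).symm⟩)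
  have eδ₁ : Function.Exact F₂ δ := SnakeLemma.exact_δ_right i₁ i₂ i₃ f g hfg f g hfg h₁ h₂ σ
    (funext hσ) ρ (funext hρ) ι₂ hι₂ ι₃ hι₃ π₁ hπ₁ F₂ rfl Subtype.val_injective
  have eδ₂ : Function.Exact δ G₁ := SnakeLemma.exact_δ_left i₁ i₂ i₃ f g hfg f g hfg h₁ h₂ σ
    (funext hσ) ρ (funext hρ) ι₃ hι₃ π₁ hπ₁ π₂ hπ₂ G₁ (LinearMap.ext fun _ => rfl)
    (Submodule.mkQ_surjective _)
  have iF₁ : Function.Injective F₁ := fun a b h => Subtype.ext (hf congr(($h).1))
  have eF : Function.Exact F₁ F₂ := by
    intro x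
    refine ⟨fun hx => ?_, ?_⟩
    · obtain ⟨y, hy⟩ := (hfg x.1).1 congr(($hx).1)
      refine ⟨⟨y, ?_⟩, Subtype.ext hy⟩
      rw [LinearMap.mem_ker]
      apply hf
      rw [map_zero, ← LinearMap.comp_apply f, h₁, LinearMap.comp_apply, hy]
      exact x.2
    · rintro ⟨y, rfl⟩
      exact Subtype.ext (hfg.apply_apply_eq_zero y.1)
  have eG : Function.Exact G₁ G₂ := by
    intro x
    obtain ⟨x, rfl⟩ := (range i₂).mkQ_surjective x
    refine ⟨fun hx => ?_, ?_⟩
    · obtain ⟨y, hy⟩ := (Submodule.Quotient.mk_eq_zero _).1 hx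
      obtain ⟨y, rfl⟩ := hg y
      obtain ⟨z, hz⟩ := (hfg (x - t • y)).1 (by
        rw [map_sub, map_smul]; exact sub_eq_zero.2 hy.symm)
      refine ⟨(range i₁).mkQ z, (Submodule.Quotient.eq _).2 ⟨-y, ?_⟩⟩
      show t • -y = f z - x
      rw [hz, smul_neg]; abel
    · rintro ⟨y, hy⟩
      obtain ⟨y, rfl⟩ := (range i₁).mkQ_surjective y
      rw [← hy]
      show (range i₃).mkQ (g (f y)) = 0
      rw [hfg.apply_apply_eq_zero, map_zero]
  have sG₂ : Function.Surjective G₂ := fun x => by
    obtain ⟨x, rfl⟩ := (range i₃).mkQ_surjective x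
    obtain ⟨y, rfl⟩ := hg x
    exact ⟨(range i₂).mkQ y, rfl⟩
  have split : ∀ {X Y Z : Type u} [AddCommGroup X] [Module A X] [AddCommGroup Y] [Module A Y]
      [AddCommGroup Z] [Module A Z] (u : X →ₗ[A] Y) (v : Y →ₗ[A] Z), Function.Exact u v →
      Module.length A Y = Module.length A (range u) + Module.length A (range v) := by
    intro X Y Z _ _ _ _ _ _ u v huv
    refine Module.length_eq_add_of_exact (range u).subtype v.rangeRestrict Subtype.val_injective
      v.surjective_rangeRestrict fun y => ?_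
    simpa [Subtype.ext_iff] using huv y
  have a : Module.length A (tor t N₂) = Module.length A (tor t N₁) + Module.length A (range F₂) := by
    rw [split _ _ eF, (LinearEquiv.ofInjective F₁ iF₁).length_eq]
  have b : Module.length A (tor t N₃) = Module.length A (range F₂) + Module.length A (range δ) :=
    split _ _ eδ₁
  have c : Module.length A (coTor t N₁) = Module.length A (range δ) + Module.length A (range G₁) :=
    split _ _ eδ₂
  have d : Module.length A (coTor t N₂) = Module.length A (range G₁) + Module.length A (coTor t N₃) := by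
    rw [split _ _ eG, LinearMap.range_eq_top.2 sG₂, Module.length_top]
  refine ⟨Module.length A (range δ), fun p q => ?_, fun p q => ?_, ?_, ?_⟩
  · rw [b, ne_eq, ENat.add_eq_top, not_or] at q
    rw [a, ne_eq, ENat.add_eq_top, not_or]
    exact ⟨⟨p, q.1⟩, q.2⟩
  · rw [c, ne_eq, ENat.add_eq_top, not_or] at p
    rw [d, ne_eq, ENat.add_eq_top, not_or]
    exact ⟨p.2, q⟩
  · rw [a, b]; abel
  · rw [c, d]; abel

theorem length_localizedModule_quotient_self (p : Ideal A) [p.IsPrime] :
    Module.length (Localization.AtPrime p) (LocalizedModule p.primeCompl (A ⧸ p)) = 1 := by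
  rw [Module.length_eq_one_iff, isSimpleModule_iff_toSpanSingleton_surjective]
  refine ⟨?_, fun z hz => ?_⟩
  · refine nontrivial_of_ne (LocalizedModule.mk (Ideal.Quotient.mk p 1) 1) 0 fun h => ?_
    obtain ⟨⟨s, hs⟩, h⟩ := (IsLocalizedModule.eq_zero_iff p.primeCompl
      (LocalizedModule.mkLinearMap p.primeCompl (A ⧸ p))).1 h
    exact hs (Ideal.Quotient.eq_zero_iff_mem.1 (by simpa [Submonoid.smul_def, Algebra.smul_def] using h))
  · induction z using LocalizedModule.induction_on with
    | _ m s =>
      obtain ⟨a, rfl⟩ := Ideal.Quotient.mk_surjective m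
      have ha : a ∉ p := fun ha => hz (by simp [Ideal.Quotient.eq_zero_iff_mem.2 ha])
      intro w
      induction w using LocalizedModule.induction_on with
      | _ n r =>
        obtain ⟨b, rfl⟩ := Ideal.Quotient.mk_surjective n
        refine ⟨Localization.mk (b * s) (r * ⟨a, ha⟩), ?_⟩
        rw [LinearMap.toSpanSingleton_apply, LocalizedModule.mk_smul_mk, LocalizedModule.mk_eq]
        refine ⟨1, ?_⟩
        simp only [one_smul, Submonoid.smul_def, Submonoid.coe_mul, Algebra.smul_def,
          Ideal.Quotient.algebraMap_eq, ← map_mul]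
        congr 1
        ring

theorem length_localizedModule_quotient_eq_zero {p q : Ideal A} [p.IsPrime] (h : ¬ q ≤ p) :
    Module.length (Localization.AtPrime p) (LocalizedModule p.primeCompl (A ⧸ q)) = 0 := by
  obtain ⟨a, haq, hap⟩ := SetLike.not_le_iff_exists.1 h
  rw [Module.length_eq_zero_iff]
  refine subsingleton_of_forall_eq 0 fun z => ?_
  induction z using LocalizedModule.induction_on with
  | _ m s =>
    obtain ⟨b, rfl⟩ := Ideal.Quotient.mk_surjective m
    rw [← LocalizedModule.zero_mk s, LocalizedModule.mk_eq]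
    refine ⟨⟨a, hap⟩, ?_⟩
    simp [Submonoid.smul_def, Algebra.smul_def, ← map_mul, Ideal.Quotient.eq_zero_iff_mem,
      Ideal.mul_mem_right _ _ haq]

/-- Data: `I` ideal, `t` an element, `P` the minimal primes over `I`, none maximal. -/
structure DimOne (I : Ideal A) (t : A) : Prop where
  mem : t ∈ IsLocalRing.maximalIdeal A
  fin : ∀ q : Ideal A, q.IsPrime → I ≤ q → t ∈ q → q = IsLocalRing.maximalIdeal A
  pos : IsLocalRing.maximalIdeal A ∉ I.minimalPrimes

theorem DimOne.minimal {I : Ideal A} {t : A} (D : DimOne I t) {q : Ideal A} (hq : q.IsPrime)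
    (hIq : I ≤ q) (htq : t ∉ q) : q ∈ I.minimalPrimes := by
  obtain ⟨p, hp, hpq⟩ := Ideal.exists_minimalPrimes_le hIq
  haveI := hp.isPrime
  by_contra hne
  have hlt : p < q := lt_of_le_of_ne hpq fun h => hne (h ▸ hp)
  let π := Ideal.Quotient.mk p
  have hsurj : Function.Surjective π := Ideal.Quotient.mk_surjective
  haveI hm : ((IsLocalRing.maximalIdeal A).map π).IsPrime :=
    Ideal.map_isPrime_of_surjective hsurj (by
      rw [Ideal.mk_ker]; exact IsLocalRing.le_maximalIdeal (Ideal.IsPrime.ne_top ‹_›))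
  have hmin : (IsLocalRing.maximalIdeal A).map π ∈ (Ideal.span {π t}).minimalPrimes := by
    refine ⟨⟨hm, ?_⟩, ?_⟩
    · rw [Ideal.span_le, Set.singleton_subset_iff]
      exact Ideal.mem_map_of_mem π D.mem
    · rintro r ⟨hr, hrt⟩ hrm
      haveI := hr
      have e := D.fin (r.comap π) (Ideal.IsPrime.comap π) (hp.1.2.trans fun x hx => by
        simp [π, Ideal.Quotient.eq_zero_iff_mem.2 hx]) (hrt (Ideal.mem_span_singleton_self _))
      rw [← e, Ideal.map_comap_of_surjective π hsurj]
  have hh := Ideal.height_le_one_of_isPrincipal_of_mem_minimalPrimes (Ideal.span {π t}) _ hmin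
  haveI := hq
  haveI hq' : (q.map π).IsPrime := Ideal.map_isPrime_of_surjective hsurj (by rw [Ideal.mk_ker]; exact hpq)
  have hback : (q.map π).comap π = q := by
    rw [Ideal.comap_map_of_surjective' π hsurj, Ideal.mk_ker, sup_eq_left]; exact hpq
  have hne0 : (⊥ : Ideal (A ⧸ p)) < q.map π := by
    refine bot_lt_iff_ne_bot.2 fun h => hlt.ne ?_
    rw [← hback, h, ← RingHom.ker_eq_comap_bot, Ideal.mk_ker]
  have hlt2 : q.map π < (IsLocalRing.maximalIdeal A).map π := by
    refine lt_of_le_of_ne (Ideal.map_mono (IsLocalRing.le_maximalIdeal hq.ne_top)) fun h => htq ?_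
    rw [← hback, h]
    exact Ideal.mem_comap.2 (Ideal.mem_map_of_mem π D.mem)
  haveI : IsDomain (A ⧸ p) := inferInstance
  have h2 := Ideal.height_add_one_le_of_lt_of_isPrime hlt2
  have h0 : (q.map π).height = 0 := by
    have h3 := h2.trans hh
    by_contra h4
    have h5 : 1 + 1 ≤ (q.map π).height + 1 := by
      gcongr; exact Order.one_le_iff_ne_zero.2 h4
    exact absurd (h5.trans h3) (by decide)
  exact hne0.ne' (Ideal.height_eq_zero_iff_eq_bot.1 h0)

theorem DimOne.not_mem {I : Ideal A} {t : A} (D : DimOne I t) {p : Ideal A}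
    (hp : p ∈ I.minimalPrimes) : t ∉ p := fun h =>
  D.pos (D.fin p hp.isPrime hp.1.2 h ▸ hp)

/-- The multiplicity of `t` on `A / p`. -/
noncomputable abbrev mult (t : A) (p : Ideal A) : ℕ∞ := Module.length A (A ⧸ (p ⊔ Ideal.span {t}))

theorem DimOne.mult_ne_top {I : Ideal A} {t : A} (D : DimOne I t) {p : Ideal A} (hp : I ≤ p) :
    mult t p ≠ ⊤ := by
  set J := p ⊔ Ideal.span {t}
  haveI : Ring.KrullDimLE 0 (A ⧸ J) := by
    rw [Ring.krullDimLE_zero_iff]
    intro r hr
    haveI := hr
    have hJ : J ≤ r.comap (Ideal.Quotient.mk J) := fun x hx => by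
      rw [Ideal.mem_comap, Ideal.Quotient.eq_zero_iff_mem.2 hx]; exact r.zero_mem
    have e := D.fin (r.comap (Ideal.Quotient.mk J)) (Ideal.IsPrime.comap _)
      ((hp.trans le_sup_left).trans hJ) (hJ (Ideal.mem_sup_right (Ideal.mem_span_singleton_self t)))
    rw [← Ideal.map_comap_of_surjective _ Ideal.Quotient.mk_surjective r, e]
    refine Ideal.IsMaximal.map_of_surjective_of_ker_le Ideal.Quotient.mk_surjective ?_
    rw [Ideal.mk_ker]
    exact hJ.trans e.le
  haveI : IsArtinianRing (A ⧸ J) := IsNoetherianRing.isArtinianRing_of_krullDimLE_zero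
  rw [mult, Module.length_eq_of_surjective (S := A) (R := A ⧸ J) Ideal.Quotient.mk_surjective]
  exact Module.length_ne_top

theorem one_le_mult {t : A} (ht : t ∈ IsLocalRing.maximalIdeal A) {p : Ideal A} (hp : p ≠ ⊤) :
    1 ≤ mult t p := by
  rw [Order.one_le_iff_ne_zero, Ne, Module.length_eq_zero_iff, Submodule.Quotient.subsingleton_iff]
  intro h
  apply (IsLocalRing.maximalIdeal.isMaximal A).ne_top
  refine top_le_iff.1 (h ▸ sup_le (IsLocalRing.le_maximalIdeal hp) ?_)
  rw [Ideal.span_le, Set.singleton_subset_iff]; exact ht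

theorem mult_eq_one_iff {t : A} (ht : t ∈ IsLocalRing.maximalIdeal A) {p : Ideal A} [p.IsPrime] :
    mult t p = 1 ↔ Ideal.map (Ideal.Quotient.mk p) (IsLocalRing.maximalIdeal A) =
      Ideal.span {Ideal.Quotient.mk p t} := by
  rw [mult, Module.length_eq_one_iff, isSimpleModule_iff_isCoatom, ← Ideal.isMaximal_def]
  have hs : Function.Surjective (Ideal.Quotient.mk p) := Ideal.Quotient.mk_surjective
  have hpm := IsLocalRing.le_maximalIdeal (Ideal.IsPrime.ne_top ‹p.IsPrime›)
  constructor
  · intro h
    rw [← IsLocalRing.eq_maximalIdeal h, Ideal.map_sup, Ideal.map_quotient_self, bot_sup_eq,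
      Ideal.map_span, Set.image_singleton]
  · intro h
    have : IsLocalRing.maximalIdeal A = p ⊔ Ideal.span {t} := by
      have := congrArg (Ideal.comap (Ideal.Quotient.mk p)) h
      rw [← Set.image_singleton, ← Ideal.map_span, Ideal.comap_map_of_surjective' _ hs,
        Ideal.comap_map_of_surjective' _ hs, Ideal.mk_ker, sup_eq_left.2 hpm] at this
      rw [this, sup_comm]
    rw [← this]
    exact IsLocalRing.maximalIdeal.isMaximal A

section main

variable (M : Type u) [AddCommGroup M] [Module A M] [Module.Finite A M]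

/-- Local length of `M` at `p`. -/
noncomputable abbrev locLen (p : Ideal A) [p.IsPrime] : ℕ∞ :=
  Module.length (Localization.AtPrime p) (LocalizedModule p.primeCompl M)

theorem DimOne.length_eq {I : Ideal A} {t : A} (D : DimOne I t) (hI : I ≤ Module.annihilator A M)
    [Fintype I.minimalPrimes] :
    Module.length A (tor t M) ≠ ⊤ ∧ Module.length A (coTor t M) ≠ ⊤ ∧
      (∀ p : I.minimalPrimes, haveI : p.1.IsPrime := p.2.isPrime; locLen M p.1 ≠ ⊤) ∧
      Module.length A (coTor t M) = Module.length A (tor t M) +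
        ∑ p : I.minimalPrimes, haveI : p.1.IsPrime := p.2.isPrime; locLen M p.1 * mult t p.1 := by
  revert hI
  induction ‹Module.Finite A M› using
    IsNoetherianRing.induction_on_isQuotientEquivQuotientPrime A with
  | subsingleton N =>
    intro _
    have e : ∀ p : I.minimalPrimes, haveI : p.1.IsPrime := p.2.isPrime; locLen N p.1 = 0 := by
      intro p
      haveI : p.1.IsPrime := p.2.isPrime
      rw [Module.length_eq_zero_iff]
      refine subsingleton_of_forall_eq 0 fun z => ?_
      induction z using LocalizedModule.induction_on with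
      | _ m s => rw [Subsingleton.elim m 0, LocalizedModule.zero_mk]
    refine ⟨by simp [Module.length_eq_zero], by simp [Module.length_eq_zero], fun p => by simp [e p], ?_⟩
    simp [Module.length_eq_zero, e]
  | quotient N q ev =>
    intro hI
    have hIq : I ≤ q.asIdeal := by
      rw [ev.annihilator_eq] at hI
      exact hI.trans (le_of_eq (Ideal.annihilator_quotient (I := q.asIdeal)))
    haveI := q.2
    have eloc : ∀ p : I.minimalPrimes, haveI : p.1.IsPrime := p.2.isPrime;
        locLen N p.1 = Module.length (Localization.AtPrime p.1) (LocalizedModule p.1.primeCompl (A ⧸ q.asIdeal)) := by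
      intro p
      haveI : p.1.IsPrime := p.2.isPrime
      exact (LinearEquiv.ofBijective (LocalizedModule.map p.1.primeCompl ev.toLinearMap)
        ⟨LocalizedModule.map_injective _ _ ev.injective,
          LocalizedModule.map_surjective _ _ ev.surjective⟩).length_eq
    by_cases htq : t ∈ q.asIdeal
    · have hq := D.fin q.asIdeal q.2 hIq htq
      have e0 : ∀ p : I.minimalPrimes, haveI : p.1.IsPrime := p.2.isPrime; locLen N p.1 = 0 := by
        intro p
        haveI : p.1.IsPrime := p.2.isPrime
        rw [eloc]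
        refine length_localizedModule_quotient_eq_zero fun h => ?_
        have := (hq ▸ IsLocalRing.maximalIdeal.isMaximal A : q.asIdeal.IsMaximal).eq_of_le
          (Ideal.IsPrime.ne_top ‹_›) h
        exact D.pos (hq ▸ this ▸ p.2)
      have hz : lsmul A N t = 0 := by
        ext x
        apply ev.injective
        rw [LinearMap.lsmul_apply, map_smul, LinearMap.zero_apply, map_zero]
        obtain ⟨y, hy⟩ := Ideal.Quotient.mk_surjective (ev x)
        rw [← hy, Algebra.smul_def, Ideal.Quotient.algebraMap_eq, ← map_mul,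
          Ideal.Quotient.eq_zero_iff_mem]
        exact Ideal.mul_mem_right _ _ htq
      haveI : IsSimpleModule A (A ⧸ q.asIdeal) := by
        rw [isSimpleModule_iff_isCoatom, ← Ideal.isMaximal_def, hq]
        exact IsLocalRing.maximalIdeal.isMaximal A
      have h1 : Module.length A N = 1 := by rw [ev.length_eq, Module.length_eq_one]
      have ek : Module.length A (tor t N) = 1 := by
        rw [tor, hz, LinearMap.ker_zero, Module.length_top, h1]
      have ec : Module.length A (coTor t N) = 1 := by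
        rw [(Submodule.quotEquivOfEqBot (range (lsmul A N t)) (by rw [hz, LinearMap.range_zero])).length_eq, h1]
      exact ⟨by simp [ek], by simp [ec], fun p => by simp [e0 p], by simp [ek, ec, e0]⟩
    · have hqP := D.minimal q.2 hIq htq
      let q0 : I.minimalPrimes := ⟨q.asIdeal, hqP⟩
      have e0 : ∀ p : I.minimalPrimes, p ≠ q0 →
          haveI : p.1.IsPrime := p.2.isPrime; locLen N p.1 = 0 := by
        intro p hp
        haveI : p.1.IsPrime := p.2.isPrime
        rw [eloc]
        refine length_localizedModule_quotient_eq_zero fun h => hp (Subtype.ext ?_)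
        exact le_antisymm (p.2.2 hqP.1 h) h
      have e1 : locLen N q.asIdeal = 1 :=
        (eloc q0).trans (length_localizedModule_quotient_self q.asIdeal)
      have ek : Module.length A (tor t N) = 0 := by
        rw [Module.length_eq_zero_iff, Submodule.subsingleton_iff_eq_bot, LinearMap.ker_eq_bot']
        intro x hx
        obtain ⟨y, hy⟩ := Ideal.Quotient.mk_surjective (ev x)
        have := congrArg ev hx
        rw [LinearMap.lsmul_apply, map_smul, map_zero, ← hy, Algebra.smul_def,
          Ideal.Quotient.algebraMap_eq, ← map_mul, Ideal.Quotient.eq_zero_iff_mem] at this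
        rw [← ev.map_eq_zero_iff, ← hy, Ideal.Quotient.eq_zero_iff_mem]
        exact (q.2.mem_or_mem this).resolve_left htq
      have ec : Module.length A (coTor t N) = mult t q.asIdeal := by
        have hmap : (range (lsmul A N t)).map (ev : N →ₗ[A] _) =
            Submodule.map (Submodule.mkQ q.asIdeal) (q.asIdeal ⊔ Ideal.span {t}) := by
          rw [Submodule.map_sup, ← LinearMap.range_comp]
          rw [show Submodule.map (Submodule.mkQ q.asIdeal) q.asIdeal = ⊥ by
            rw [eq_bot_iff]; rintro _ ⟨x, hx, rfl⟩; simpa [Submodule.Quotient.mk_eq_zero, Ideal.Quotient.eq_zero_iff_mem] using hx, bot_sup_eq]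
          apply le_antisymm
          · rintro _ ⟨x, rfl⟩
            obtain ⟨y, hy⟩ := Ideal.Quotient.mk_surjective (ev x)
            refine ⟨y * t, Ideal.mem_span_singleton'.2 ⟨y, rfl⟩, ?_⟩
            simp only [LinearMap.comp_apply, LinearMap.lsmul_apply, map_smul, LinearEquiv.coe_coe]
            rw [← hy, mul_comm, Algebra.smul_def]
            rfl
          · rintro _ ⟨x, hx, rfl⟩
            obtain ⟨y, rfl⟩ := Ideal.mem_span_singleton'.1 hx
            refine ⟨ev.symm (Ideal.Quotient.mk _ y), ?_⟩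
            simp only [LinearMap.comp_apply, LinearMap.lsmul_apply, map_smul, LinearEquiv.coe_coe,
              LinearEquiv.apply_symm_apply]
            rw [mul_comm, Algebra.smul_def]
            rfl
        exact ((Submodule.Quotient.equiv _ _ ev hmap).trans
          (Submodule.quotientQuotientEquivQuotient q.asIdeal _ le_sup_left)).length_eq
      have hsum : (∑ p : I.minimalPrimes, haveI : p.1.IsPrime := p.2.isPrime; locLen N p.1 * mult t p.1) =
          mult t q.asIdeal := by
        rw [Finset.sum_eq_single q0 (fun p _ hp => by rw [e0 p hp, zero_mul]) (by simp)]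
        simp only [q0, e1, one_mul]
      refine ⟨by simp [ek], ec ▸ D.mult_ne_top hIq, fun p => ?_, by rw [ek, ec, hsum, zero_add]⟩
      by_cases hp : p = q0
      · subst hp; simp [q0, e1]
      · simp [e0 p hp]
  | exact N₁ N₂ N₃ f g hf hg hfg ih₁ ih₃ =>
    intro hI
    obtain ⟨k₁, c₁, l₁, E₁⟩ := ih₁ (hI.trans (LinearMap.annihilator_le_of_injective f hf))
    obtain ⟨k₃, c₃, l₃, E₃⟩ := ih₃ (hI.trans (LinearMap.annihilator_le_of_surjective g hg))
    obtain ⟨d, hk, hc, eK, eC⟩ := six_term t f g hf hg hfg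
    obtain ⟨k₂, hd⟩ := hk k₁ k₃
    have hloc : ∀ p : I.minimalPrimes, haveI : p.1.IsPrime := p.2.isPrime;
        locLen N₂ p.1 = locLen N₁ p.1 + locLen N₃ p.1 := by
      intro p
      haveI : p.1.IsPrime := p.2.isPrime
      exact Module.length_eq_add_of_exact (LocalizedModule.map p.1.primeCompl f)
        (LocalizedModule.map p.1.primeCompl g) (LocalizedModule.map_injective _ f hf)
        (LocalizedModule.map_surjective _ g hg) (LocalizedModule.map_exact _ f g hfg)
    refine ⟨k₂, hc c₁ c₃, fun p => by rw [hloc, ne_eq, ENat.add_eq_top, not_or]; exact ⟨l₁ p, l₃ p⟩, ?_⟩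
    simp only [hloc, add_mul, Finset.sum_add_distrib]
    apply (ENat.addLECancellable_of_ne_top hd).inj.1
    rw [← eC, E₁, E₃, ← add_assoc d, add_comm d, ← eK]
    abel

theorem DimOne.sum_le_and_eq_iff {I : Ideal A} {t : A} (D : DimOne I t)
    (hI : I ≤ Module.annihilator A M) :
    (∑ᶠ p : I.minimalPrimes, haveI : p.1.IsPrime := p.2.isPrime; locLen M p.1) ≤
      Module.length A (M ⧸ (Ideal.span {t} • (⊤ : Submodule A M))) ∧
    ((∑ᶠ p : I.minimalPrimes, haveI : p.1.IsPrime := p.2.isPrime; locLen M p.1) =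
        Module.length A (M ⧸ (Ideal.span {t} • (⊤ : Submodule A M))) ↔
      IsSMulRegular M t ∧ ∀ p : I.minimalPrimes, haveI : p.1.IsPrime := p.2.isPrime;
        Nontrivial (LocalizedModule p.1.primeCompl M) →
          Ideal.map (Ideal.Quotient.mk p.1) (IsLocalRing.maximalIdeal A) =
            Ideal.span {Ideal.Quotient.mk p.1 t}) := by
  haveI : Finite I.minimalPrimes := (Ideal.finite_minimalPrimes_of_isNoetherianRing A I).to_subtype
  haveI := Fintype.ofFinite I.minimalPrimes
  obtain ⟨hk, -, hl, E⟩ := D.length_eq M hI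
  have hC : Module.length A (M ⧸ (Ideal.span {t} • (⊤ : Submodule A M))) =
      Module.length A (coTor t M) := by
    refine (Submodule.quotEquivOfEq _ _ ?_).length_eq
    ext z
    rw [Submodule.ideal_span_singleton_smul, Submodule.mem_smul_pointwise_iff_exists]
    exact ⟨fun ⟨y, _, hy⟩ => ⟨y, hy⟩, fun ⟨y, hy⟩ => ⟨y, trivial, hy⟩⟩
  rw [finsum_eq_sum_of_fintype, hC, E]
  set k := Module.length A (tor t M)
  set n : I.minimalPrimes → ℕ∞ := fun p => haveI : p.1.IsPrime := p.2.isPrime; locLen M p.1 with hn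
  show ∑ p, n p ≤ k + ∑ p, n p * mult t p.1 ∧ _
  have hle : ∀ p, n p ≤ n p * mult t p.1 := fun p =>
    le_mul_of_one_le_right' (one_le_mult D.mem p.2.isPrime.ne_top)
  have hS : ∑ p, n p ≤ ∑ p, n p * mult t p.1 := Finset.sum_le_sum fun p _ => hle p
  refine ⟨hS.trans le_add_self, ?_⟩
  have hfin : ∑ p, n p ≠ ⊤ := fun h => by
    obtain ⟨p, -, hp⟩ := (WithTop.sum_eq_top (M := ℕ)).1 h
    exact hl p hp
  have hreg : IsSMulRegular M t ↔ k = 0 := by
    rw [Module.length_eq_zero_iff, Submodule.subsingleton_iff_eq_bot, LinearMap.ker_eq_bot]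
    rfl
  constructor
  · intro h
    change ∑ p, n p = k + ∑ p, n p * mult t p.1 at h
    have hk0 : k = 0 := by
      have h' : k + ∑ p, n p ≤ 0 + ∑ p, n p := by
        rw [zero_add]; conv_rhs => rw [h]
        exact add_le_add le_rfl hS
      exact le_zero_iff.1 ((ENat.addLECancellable_of_ne_top hfin).add_le_add_iff_right.1 h')
    refine ⟨hreg.2 hk0, fun p => ?_⟩
    haveI : p.1.IsPrime := p.2.isPrime
    intro hnt
    rw [← mult_eq_one_iff D.mem]
    rw [hk0, zero_add] at h
    refine le_antisymm ?_ (one_le_mult D.mem p.2.isPrime.ne_top)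
    classical
    rw [← Finset.add_sum_erase _ _ (Finset.mem_univ p), ← Finset.add_sum_erase _ _ (Finset.mem_univ p)] at h
    have hrest : ∑ q ∈ Finset.univ.erase p, n q ≠ ⊤ :=
      ne_top_of_le_ne_top hfin (Finset.sum_le_sum_of_subset (Finset.erase_subset _ _))
    have h' : n p * mult t p.1 + ∑ q ∈ Finset.univ.erase p, n q ≤
        n p + ∑ q ∈ Finset.univ.erase p, n q := by
      rw [h]; gcongr; exact hle _
    have h'' : n p * mult t p.1 ≤ n p * 1 := by
      rw [mul_one]; exact (ENat.addLECancellable_of_ne_top hrest).add_le_add_iff_right.1 h'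
    exact (ENat.mul_le_mul_left_iff (Module.length_pos_iff.2 hnt).ne' (hl p)).1 h''
  · rintro ⟨hr, hm⟩
    change ∑ p, n p = k + ∑ p, n p * mult t p.1
    rw [hreg.1 hr, zero_add]
    refine Finset.sum_congr rfl fun p _ => ?_
    haveI : p.1.IsPrime := p.2.isPrime
    rcases subsingleton_or_nontrivial (LocalizedModule p.1.primeCompl M) with h | h
    · have : n p = 0 := Module.length_eq_zero_iff.2 h
      rw [this, zero_mul]
    · rw [(mult_eq_one_iff D.mem).2 (hm p h), mul_one]

end main

end Groth.Agent.AssSch12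

namespace Groth.Agent.AssSch12

variable {A : Type u} [CommRing A] [IsNoetherianRing A] [IsLocalRing A]

theorem not_mem_minimalPrimes_of_krullDim_pos {I : Ideal A}
    (h : 0 < Order.krullDim {x : PrimeSpectrum A // I ≤ x.asIdeal}) :
    IsLocalRing.maximalIdeal A ∉ I.minimalPrimes := by
  intro hm
  have hs : ∀ x : {x : PrimeSpectrum A // I ≤ x.asIdeal}, x.1.asIdeal = IsLocalRing.maximalIdeal A :=
    fun x => le_antisymm (IsLocalRing.le_maximalIdeal x.1.2.ne_top)
      (hm.2 ⟨x.1.2, x.2⟩ (IsLocalRing.le_maximalIdeal x.1.2.ne_top))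
  haveI : Subsingleton {x : PrimeSpectrum A // I ≤ x.asIdeal} :=
    ⟨fun x y => Subtype.ext (PrimeSpectrum.ext ((hs x).trans (hs y).symm))⟩
  exact absurd Order.krullDim_nonpos_of_subsingleton (not_le.2 h)

theorem DimOne.of_ringKrullDim_pos {t : A} (ht : t ∈ IsLocalRing.maximalIdeal A)
    (hdim : 0 < ringKrullDim A) (hart : IsArtinianRing (A ⧸ Ideal.span {t})) :
    DimOne (⊥ : Ideal A) t where
  mem := ht
  fin q hq _ htq := by
    haveI := hq
    have hle : Ideal.span {t} ≤ q := by rwa [Ideal.span_le, Set.singleton_subset_iff]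
    set π := Ideal.Quotient.mk (Ideal.span {t})
    haveI : (q.map π).IsPrime := Ideal.map_isPrime_of_surjective Ideal.Quotient.mk_surjective
      (by rw [Ideal.mk_ker]; exact hle)
    have hmax : (q.map π).IsMaximal := IsArtinianRing.isMaximal_of_isPrime _
    have := Ideal.comap_isMaximal_of_surjective π Ideal.Quotient.mk_surjective (K := q.map π)
    rw [Ideal.comap_map_of_surjective' π Ideal.Quotient.mk_surjective, Ideal.mk_ker,
      sup_eq_left.2 hle] at this
    exact IsLocalRing.eq_maximalIdeal this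
  pos := by
    refine not_mem_minimalPrimes_of_krullDim_pos ?_
    exact hdim.trans_eq (Order.krullDim_eq_of_orderIso
      (⟨(Equiv.subtypeUnivEquiv fun _ => bot_le).symm, Iff.rfl⟩ :
        PrimeSpectrum A ≃o {x : PrimeSpectrum A // (⊥ : Ideal A) ≤ x.asIdeal}))

theorem DimOne.of_length_ne_top {t : A} (ht : t ∈ IsLocalRing.maximalIdeal A)
    (M : Type u) [AddCommGroup M] [Module A M] [Module.Finite A M]
    (hdim : 0 < Module.supportDim A M)
    (hfin : Module.length A (M ⧸ (Ideal.span {t} • (⊤ : Submodule A M))) ≠ ⊤) :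
    DimOne (Module.annihilator A M) t where
  mem := ht
  fin q hq hIq htq := by
    haveI := hq
    set Q := M ⧸ (Ideal.span {t} • (⊤ : Submodule A M)) with hQ
    have hflQ := Module.length_ne_top_iff.1 hfin
    obtain ⟨_, hart⟩ := isFiniteLength_iff_isNoetherian_isArtinian.1 hflQ
    have hmemQ : (⟨q, hq⟩ : PrimeSpectrum A) ∈ Module.support A Q := by
      show _ ∈ Module.support A (M ⧸ (Ideal.span {t} • (⊤ : Submodule A M)))
      rw [Module.support_quotient]
      refine ⟨?_, ?_⟩
      · rw [Module.support_eq_zeroLocus]; exact hIq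
      · simpa using htq
    obtain ⟨k, hk⟩ := IsArtinian.monotone_stabilizes
      (⟨fun n => OrderDual.toDual ((IsLocalRing.maximalIdeal A) ^ n • (⊤ : Submodule A Q)),
        fun a b hab => Submodule.smul_mono_left (Ideal.pow_le_pow_right hab)⟩ :
        ℕ →o (Submodule A Q)ᵒᵈ)
    have e : (IsLocalRing.maximalIdeal A) ^ k • (⊤ : Submodule A Q) =
        (IsLocalRing.maximalIdeal A) ^ (k + 1) • (⊤ : Submodule A Q) := hk (k + 1) (Nat.le_succ k)
    have h0 : (IsLocalRing.maximalIdeal A) ^ k • (⊤ : Submodule A Q) = ⊥ := by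
      refine Submodule.eq_bot_of_le_smul_of_le_jacobson_bot (IsLocalRing.maximalIdeal A) _
        (IsNoetherian.noetherian _) ?_ (IsLocalRing.maximalIdeal_le_jacobson _)
      conv_lhs => rw [e, pow_succ', Submodule.mul_smul]
    have hann : (IsLocalRing.maximalIdeal A) ^ k ≤ q := by
      rw [Module.support_eq_zeroLocus] at hmemQ
      refine le_trans ?_ hmemQ
      intro a ha
      rw [Module.mem_annihilator]
      intro m
      rw [← Submodule.mem_bot A, ← h0]
      exact Submodule.smul_mem_smul ha trivial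
    exact le_antisymm (IsLocalRing.le_maximalIdeal hq.ne_top) (hq.le_of_pow_le hann)
  pos := by
    refine not_mem_minimalPrimes_of_krullDim_pos ?_
    have : Module.support A M = {x | Module.annihilator A M ≤ x.asIdeal} := by
      rw [Module.support_eq_zeroLocus]; rfl
    rw [Module.supportDim, this] at hdim
    exact hdim

theorem nontrivial_localizedModule_of_mem_minimalPrimes
    (M : Type u) [AddCommGroup M] [Module A M] [Module.Finite A M] {p : Ideal A} [p.IsPrime]
    (hp : p ∈ (Module.annihilator A M).minimalPrimes) :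
    Nontrivial (LocalizedModule p.primeCompl M) := by
  have : (⟨p, ‹_›⟩ : PrimeSpectrum A) ∈ Module.support A M := by
    rw [Module.support_eq_zeroLocus]; exact hp.1.2
  exact Module.mem_support_iff.1 this

end Groth.Agent.AssSch12
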