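import Groth.Agent.AssSch12.TensorGlobal

/-!
# Associated points and open restriction
-/

set_option autoImplicit false
set_option linter.style.haveILetI false
set_option backward.isDefEq.respectTransparency false
universe u

open CategoryTheory CategoryTheory.Limits AlgebraicGeometry Opposite TopologicalSpace
open IsLocalRing
open scoped TensorProduct

namespace Groth.Agent.AssSch12

variable {X Z : Scheme.{u}} (j : Z ⟶ X)

theorem pullback_iso_stalk [IsLocallyNoetherian X] [IsLocallyNoetherian Z] (F : X.Modules) (z : Z)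
    (hj : IsIso (j.stalkMap z)) :
    (z ∈ AssSch.Ass ((Scheme.Modules.pullback j).obj F) ↔ j z ∈ AssSch.Ass F) ∧
    Module.length (Z.presheaf.stalk z) (((Scheme.Modules.pullback j).obj F).presheaf.stalk z) =
      Module.length (X.presheaf.stalk (j z)) (F.presheaf.stalk (j z)) := by
  have hbij : Function.Bijective (j.stalkMap z).hom :=
    haveI := hj
    ConcreteCategory.bijective_of_isIso (j.stalkMap z)
  let C := Z.presheaf.stalk z
  letI alg : Algebra (X.presheaf.stalk (j z)) C := (j.stalkMap z).hom.toAlgebra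
  let e1 : ((Scheme.Modules.pullback j).obj F).presheaf.stalk z ≃ₗ[C]
      C ⊗[X.presheaf.stalk (j z)] (F.presheaf.stalk (j z)) :=
    ((ModStalk.pullbackStalkIso j z).app F).toLinearEquiv
  rw [killed_stalk_iff, killed_stalk_iff, Killed.congr e1, e1.length_eq,
    killed_iff_of_surjective (R := X.presheaf.stalk (j z)) (S := C) hbij.2,
    ← Module.length_eq_of_surjective (S := X.presheaf.stalk (j z)) (R := C) hbij.2]
  let e2 := (TensorProduct.congr (AlgEquiv.ofBijective (Algebra.ofId (X.presheaf.stalk (j z)) C) hbij).symm.toLinearEquiv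
    (LinearEquiv.refl (X.presheaf.stalk (j z)) (F.presheaf.stalk (j z)))).trans
    (TensorProduct.lid (X.presheaf.stalk (j z)) (F.presheaf.stalk (j z)))
  exact ⟨Killed.congr e2, e2.length_eq⟩

theorem ass_restrict_iff [IsLocallyNoetherian X] (U : X.Opens) (F : X.Modules) (z : U.toScheme) :
    (z ∈ AssSch.Ass ((Scheme.Modules.pullback U.ι).obj F) ↔ U.ι z ∈ AssSch.Ass F) ∧
    Module.length (U.toScheme.presheaf.stalk z) (((Scheme.Modules.pullback U.ι).obj F).presheaf.stalk z) =
      Module.length (X.presheaf.stalk (U.ι z)) (F.presheaf.stalk (U.ι z)) :=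
  pullback_iso_stalk U.ι F z inferInstance

theorem ass_subset_of_dense [IsLocallyNoetherian X] (U : X.Opens) (F : X.Modules) (hF : Coh.IsCoh F)
    (hdense : CohB1.support F ⊆ closure ((U : Set X) ∩ CohB1.support F)) (hne : AssSch.NoEmbedded F)
    {x : X} (hx : x ∈ AssSch.Ass F) : x ∈ U := by
  haveI := hF.1
  obtain ⟨_, ⟨V, hV, rfl⟩, hxV, -⟩ :=
    X.isBasis_affineOpens.exists_subset_of_mem_open (Set.mem_univ x) isOpen_univ
  haveI := isNoetherianRing_of_isAffineOpen hV
  haveI := ((Coherent.isCoh_iff_finite_sections F).1 hF).2 V hV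
  classical
  have hfin : (AssSch.Ass F ∩ (V : Set X)).Finite := by
    refine Set.Finite.of_injOn (f := fun y => if h : y ∈ V then primeAt hV h else ⊥)
      (fun y hy => ?_) (fun a ha b hb e => ?_) (associatedPrimes.finite Γ(X, V) Γ(F, V))
    · dsimp only
      rw [dif_pos (show y ∈ V from hy.2)]
      exact (mem_ass_iff hV hy.2 F).1 hy.1
    · dsimp only at e
      rw [dif_pos (show a ∈ V from ha.2), dif_pos (show b ∈ V from hb.2)] at e
      exact (((specializes_iff hV ha.2 hb.2).2 e.le).antisymm ((specializes_iff hV hb.2 ha.2).2 e.ge)).eq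
  let C : Set X := ⋃ a ∈ (AssSch.Ass F ∩ (V : Set X)) \ {x}, closure {a}
  have hC : IsClosed C := hfin.sdiff.isClosed_biUnion fun _ _ => isClosed_closure
  have hxC : x ∉ C := by
    simp only [C, Set.mem_iUnion, not_exists]
    intro a ha hxa
    exact ha.2 (hne x hx a ha.1.1 (specializes_iff_mem_closure.2 hxa)).symm
  obtain ⟨z, ⟨hzV, hzC⟩, hzU, hzs⟩ := mem_closure_iff.1 (hdense (mem_support_of_ass F hx))
    ((V : Set X) ∩ Cᶜ) (V.2.inter hC.isOpen_compl) ⟨hxV, hxC⟩
  obtain ⟨a, ha, haz⟩ := exists_ass_generalization F hF.1 hzs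
  have haV : a ∈ V := haz.mem_open V.2 hzV
  have hax : a = x := by
    by_contra hax
    exact hzC (Set.mem_biUnion ⟨⟨ha, haV⟩, hax⟩ (specializes_iff_mem_closure.1 haz))
  exact hax ▸ haz.mem_open U.2 hzU

end Groth.Agent.AssSch12
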