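import Groth.Agent.AssSch12.TensorPoint
import Groth.Agent.AssSch12.Primary

/-!
# Supports, generalisations and fibres
-/

set_option autoImplicit false
set_option linter.style.haveILetI false
universe u

open CategoryTheory CategoryTheory.Limits AlgebraicGeometry Opposite TopologicalSpace
open IsLocalRing
open Groth.Agent.QCohLoc

namespace Groth.Agent.AssSch12

variable {X Y : Scheme.{u}} (f : X ⟶ Y)

theorem exists_ass_generalization [IsLocallyNoetherian X] (M : X.Modules) (hM : Coh.IsQCoh M) {x : X}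
    (hx : x ∈ CohB1.support M) : ∃ a ∈ AssSch.Ass M, a ⤳ x := by
  haveI := hM
  haveI : Nontrivial (M.presheaf.stalk x) := not_subsingleton_iff_nontrivial.1 hx
  obtain ⟨z, hz⟩ := exists_ne (0 : M.presheaf.stalk x)
  obtain ⟨_, ⟨V, hV, rfl⟩, hxV, -⟩ :=
    X.isBasis_affineOpens.exists_subset_of_mem_open (Set.mem_univ x) isOpen_univ
  obtain ⟨g, m, hg, hm⟩ := exists_smul_stalk_eq_germ M hV hxV z
  have hne : M.presheaf.germ V x hxV m ≠ 0 := by
    rw [← hm]
    exact fun h0 => hz (((Scheme.mem_basicOpen _ _ _ hxV).1 hg).smul_eq_zero.1 h0)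
  obtain ⟨T, -, hT, hgen⟩ := exists_finite_ass_generating_support hV M m
  obtain ⟨t, ht, htx⟩ := hgen x hxV hne
  exact ⟨t, (hT t ht).2.1, htx⟩

theorem mem_support_of_ass [IsLocallyNoetherian X] (M : X.Modules) {x : X} (hx : x ∈ AssSch.Ass M) :
    x ∈ CohB1.support M := fun h => not_isAssociatedPrime_of_subsingleton (show IsAssociatedPrime _ _ from hx)

theorem mem_support_of_fibKilled (F : X.Modules) {x : X} (h : FibKilled f x F) :
    x ∈ CohB1.support F := by
  intro hs
  obtain ⟨z, hz, -⟩ := (fibKilled_iff f x F).1 h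
  exact hz (by rw [Subsingleton.elim z 0]; exact zero_mem _)

/-- Inside its own fibre, a point of the support generalises to an associated point of the fibre. -/
theorem exists_fibKilled_generalization [IsLocallyNoetherian X] (F : X.Modules) (hF : Coh.IsCoh F)
    {x : X} (hx : x ∈ CohB1.support F) : ∃ a : X, a ⤳ x ∧ f a = f x ∧ FibKilled f a F := by
  haveI := hF.1
  haveI := finite_stalk hF x
  haveI : Nontrivial (F.presheaf.stalk x) := not_subsingleton_iff_nontrivial.1 hx
  obtain ⟨_, ⟨V, hV, rfl⟩, hyV, -⟩ :=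
    Y.isBasis_affineOpens.exists_subset_of_mem_open (Set.mem_univ (f x)) isOpen_univ
  obtain ⟨_, ⟨U, hU, rfl⟩, hxU, hUV⟩ :=
    X.isBasis_affineOpens.exists_subset_of_mem_open (show x ∈ f ⁻¹ᵁ V from hyV) (f ⁻¹ᵁ V).2
  replace hUV : U ≤ f ⁻¹ᵁ V := hUV
  haveI := isNoetherianRing_of_isAffineOpen hU
  let P := primeAt hV hyV
  let I : Ideal Γ(X, U) := P.map (f.appLE V U hUV).hom
  let IM : Submodule Γ(X, U) Γ(F, U) := I • ⊤
  have hgerm : ∀ {a : X} (ha : a ∈ U) (r : Γ(Y, V)),
      X.presheaf.germ U a ha (f.appLE V U hUV r) = f.stalkMap a (Y.presheaf.germ V (f a) (hUV ha) r) := by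
    intro a ha r
    rw [Scheme.Hom.germ_stalkMap_apply, Scheme.Hom.appLE, CommRingCat.comp_apply,
      TopCat.Presheaf.germ_res_apply]
  have hJ : ∀ {a : X} (ha : a ∈ U), f a = f x →
      Ideal.map (f.stalkMap a).hom (maximalIdeal (Y.presheaf.stalk (f a))) = I.map (X.presheaf.germ U a ha).hom := by
    intro a ha he
    have hP : primeAt hV (hUV ha : f a ∈ V) = P := by simp only [P, he]
    rw [maximalIdeal_eq_map_primeAt hV (hUV ha), hP, Ideal.map_map, Ideal.map_map]
    congr 1
    ext r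
    exact (hgerm ha r).symm
  -- membership in the extended submodule
  have hmem : ∀ {a : X} (ha : a ∈ U), f a = f x → ∀ z : F.presheaf.stalk a,
      z ∈ Ideal.map (f.stalkMap a).hom (maximalIdeal (Y.presheaf.stalk (f a))) •
        (⊤ : Submodule (X.presheaf.stalk a) (F.presheaf.stalk a)) →
      ∃ h : Γ(X, U), a ∈ X.basicOpen h ∧ ∃ m ∈ IM, X.presheaf.germ U a ha h • z = F.presheaf.germ U a ha m := by
    intro a ha he z hz
    rw [hJ ha he] at hz
    refine Submodule.smul_induction_on hz (fun c hc w _ => ?_) fun z₁ z₂ h₁ h₂ => ?_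
    · induction hc using Submodule.span_induction with
      | mem _ hc =>
        obtain ⟨c, hc, rfl⟩ := hc
        obtain ⟨h, m, hh, hm⟩ := exists_smul_stalk_eq_germ F hU ha w
        exact ⟨h, hh, c • m, Submodule.smul_mem_smul hc trivial, by rw [germ_smul', ← hm, smul_comm]⟩
      | zero => exact ⟨1, by rw [Scheme.basicOpen_of_isUnit _ isUnit_one]; exact ha, 0, zero_mem _,
          by rw [map_zero, zero_smul, smul_zero]⟩
      | add p q _ _ hp hq =>
        obtain ⟨h₁, hh₁, m₁, hm₁, e₁⟩ := hp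
        obtain ⟨h₂, hh₂, m₂, hm₂, e₂⟩ := hq
        refine ⟨h₁ * h₂, by rw [X.basicOpen_mul]; exact ⟨hh₁, hh₂⟩, h₂ • m₁ + h₁ • m₂,
          add_mem (IM.smul_mem _ hm₁) (IM.smul_mem _ hm₂), ?_⟩
        rw [map_add, germ_smul', germ_smul', ← e₁, ← e₂, map_mul, add_smul, smul_add, smul_smul,
          smul_smul, smul_smul, smul_smul, smul_smul, smul_smul]
        ring_nf
      | smul c p _ hp =>
        obtain ⟨h₀, hh₀, m₀, hm₀, e₀⟩ := hp
        obtain ⟨V', hV', c', rfl⟩ := X.presheaf.exists_germ_eq c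
        obtain ⟨g, hgV, hag⟩ := hU.exists_basicOpen_le (⟨a, hV'⟩ : V') ha
        have := hU.isLocalization_basicOpen g
        obtain ⟨⟨r, ⟨_, n, rfl⟩⟩, hr⟩ := IsLocalization.surj (M := Submonoid.powers g)
          (R := Γ(X, U)) (S := Γ(X, X.basicOpen g)) (X.presheaf.map (homOfLE hgV).op c')
        have hr' : X.presheaf.germ V' a hV' c' * X.presheaf.germ U a ha (g ^ n) =
            X.presheaf.germ U a ha r := by
          have := congrArg (X.presheaf.germ (X.basicOpen g) a hag) hr
          erw [map_mul, TopCat.Presheaf.germ_res_apply, TopCat.Presheaf.germ_res_apply,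
            TopCat.Presheaf.germ_res_apply] at this
          exact this
        refine ⟨g ^ n * h₀, ?_, r • m₀, IM.smul_mem _ hm₀, ?_⟩
        · rw [X.basicOpen_mul]
          refine ⟨?_, hh₀⟩
          rw [SetLike.mem_coe, Scheme.mem_basicOpen _ _ _ ha, map_pow]
          exact ((Scheme.mem_basicOpen _ _ _ ha).1 hag).pow n
        · rw [germ_smul', ← e₀, ← hr', map_mul, smul_smul, smul_smul]
          simp only [smul_eq_mul, smul_smul]
          ring_nf
    · obtain ⟨a₁, hh₁, m₁, hm₁, e₁⟩ := h₁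
      obtain ⟨a₂, hh₂, m₂, hm₂, e₂⟩ := h₂
      refine ⟨a₁ * a₂, by rw [X.basicOpen_mul]; exact ⟨hh₁, hh₂⟩, a₂ • m₁ + a₁ • m₂,
        add_mem (IM.smul_mem _ hm₁) (IM.smul_mem _ hm₂), ?_⟩
      rw [map_add, germ_smul', germ_smul', ← e₁, ← e₂, map_mul, smul_add, smul_smul, smul_smul,
        mul_comm (X.presheaf.germ U a ha a₂)]
  -- a section nonzero in the fibre at `x`
  obtain ⟨z, -, hz⟩ := SetLike.not_le_iff_exists.1 (fun h => top_ne_bot (α := Submodule (X.presheaf.stalk x) (F.presheaf.stalk x))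
    (Submodule.eq_bot_of_le_smul_of_le_jacobson_bot
      (Ideal.map (f.stalkMap x).hom (maximalIdeal (Y.presheaf.stalk (f x)))) ⊤ Module.Finite.fg_top h
      (((Ideal.map_le_iff_le_comap (K := maximalIdeal (X.presheaf.stalk x))).2 fun r hr => map_nonunit (f.stalkMap x).hom r hr).trans
        (IsLocalRing.maximalIdeal_le_jacobson _))))
  obtain ⟨g, s, hg, hs⟩ := exists_smul_stalk_eq_germ F hU hxU z
  have hsx : ∀ h : Γ(X, U), h ∈ IM.colon {s} → x ∉ X.basicOpen h := by
    intro h hh hxh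
    rw [Submodule.mem_colon_singleton] at hh
    have hu1 := (Scheme.mem_basicOpen _ _ _ hxU).1 hg
    have hu2 := (Scheme.mem_basicOpen _ _ _ hxU).1 hxh
    refine hz ((Submodule.smul_mem_iff_of_isUnit _ hu1).1 ((Submodule.smul_mem_iff_of_isUnit _ hu2).1 ?_))
    rw [hs, ← germ_smul', hJ hxU rfl]
    generalize h • s = t at hh
    refine Submodule.smul_induction_on hh (fun c hc w _ => ?_) fun t₁ t₂ h₁ h₂ => ?_
    · rw [germ_smul']; exact Submodule.smul_mem_smul (Ideal.mem_map_of_mem _ hc) trivial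
    · rw [map_add]; exact add_mem h₁ h₂
  obtain ⟨q, hq, hqx⟩ := Ideal.exists_minimalPrimes_le
    (show IM.colon {s} ≤ primeAt hU hxU from fun r hr => (mem_primeAt_iff hU hxU r).2 (hsx r hr))
  haveI := hq.isPrime
  obtain ⟨a, ha, rfl⟩ := exists_point hU q
  have hax : a ⤳ x := (specializes_iff hU ha hxU).2 hqx
  have he : f a = f x := by
    have hle1 : P ≤ primeAt hV (hUV ha : f a ∈ V) := by
      intro r hr
      have hrI : f.appLE V U hUV r ∈ IM.colon {s} := Submodule.mem_colon_singleton.2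
        (Submodule.smul_mem_smul (Ideal.mem_map_of_mem _ hr) trivial)
      have := hq.1.2 hrI
      rw [← germ_mem_maximalIdeal_iff hU ha, hgerm ha] at this
      rw [← germ_mem_maximalIdeal_iff hV (hUV ha)]
      exact fun hu => this (hu.map _)
    exact (((hax.map f.continuous)).antisymm ((specializes_iff hV hyV (hUV ha)).2 hle1)).eq
  refine ⟨a, hax, he, (fibKilled_iff f a F).2 ?_⟩
  obtain ⟨t, ht⟩ := Submodule.exists_eq_colon_of_mem_minimalPrimes hq
  refine ⟨F.presheaf.germ U a ha t, fun hmem' => ?_, fun b hb => ?_⟩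
  · obtain ⟨h, hah, m, hm, e⟩ := hmem ha he _ hmem'
    rw [← germ_smul', ← sub_eq_zero, ← map_sub] at e
    obtain ⟨h', hah', e'⟩ := exists_smul_eq_zero_of_germ F hU ha _ e
    refine (notMem_primeAt_iff hU ha (h' * h)).2 (by rw [X.basicOpen_mul]; exact ⟨hah', hah⟩) ?_
    rw [ht, Submodule.mem_colon_singleton, mul_smul]
    rw [smul_sub, sub_eq_zero] at e'
    exact e' ▸ IM.smul_mem _ hm
  · rw [maximalIdeal_eq_map_primeAt hU ha] at hb
    induction hb using Submodule.span_induction with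
    | mem _ hc =>
      obtain ⟨c, hc, rfl⟩ := hc
      rw [ht, SetLike.mem_coe, Submodule.mem_colon_singleton] at hc
      rw [← germ_smul', hJ ha he]
      generalize c • t = w at hc
      refine Submodule.smul_induction_on hc (fun r hr w _ => ?_) fun t₁ t₂ h₁ h₂ => ?_
      · rw [germ_smul']; exact Submodule.smul_mem_smul (Ideal.mem_map_of_mem _ hr) trivial
      · rw [map_add]; exact add_mem h₁ h₂
    | zero => rw [zero_smul]; exact zero_mem _
    | add p q _ _ hp hq => rw [add_smul]; exact add_mem hp hq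
    | smul c p _ hp => rw [smul_eq_mul, mul_smul]; exact Submodule.smul_mem _ _ hp

/-- Going down along a flat coherent module. -/
theorem exists_support_generalization [IsLocallyNoetherian X] (F : X.Modules) (hF : Coh.IsCoh F)
    {x : X} (hflat : FlatMod.IsFlatOverAt f F x) (hx : x ∈ CohB1.support F) {y : Y} (hy : y ⤳ f x) :
    ∃ a : X, a ⤳ x ∧ f a = y ∧ a ∈ CohB1.support F := by
  haveI := hF.1
  haveI := finite_stalk hF x
  haveI : Nontrivial (F.presheaf.stalk x) := not_subsingleton_iff_nontrivial.1 hx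
  obtain ⟨p, rfl⟩ : y ∈ Set.range (Y.fromSpecStalk (f x)) := Scheme.range_fromSpecStalk.ge hy
  letI := (f.stalkMap x).hom.toAlgebra
  letI := FlatMod.moduleStalkOver f F x
  haveI : IsScalarTower (Y.presheaf.stalk (f x)) (X.presheaf.stalk x) (F.presheaf.stalk x) :=
    IsScalarTower.of_compHom _ _ _
  haveI : Module.Flat (Y.presheaf.stalk (f x)) (F.presheaf.stalk x) := hflat
  haveI : Module.FaithfullyFlat (Y.presheaf.stalk (f x)) (F.presheaf.stalk x) := by
    refine Module.FaithfullyFlat.mk (fun {m} hm h => ?_)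
    rw [IsLocalRing.eq_maximalIdeal hm] at h
    refine top_ne_bot (α := Submodule (X.presheaf.stalk x) (F.presheaf.stalk x))
      (Submodule.eq_bot_of_le_smul_of_le_jacobson_bot
        (Ideal.map (f.stalkMap x).hom (maximalIdeal (Y.presheaf.stalk (f x)))) ⊤ Module.Finite.fg_top ?_
        (((Ideal.map_le_iff_le_comap (K := maximalIdeal (X.presheaf.stalk x))).2 fun r hr => map_nonunit (f.stalkMap x).hom r hr).trans
          (IsLocalRing.maximalIdeal_le_jacobson _)))
    intro w _
    have hw : w ∈ (maximalIdeal (Y.presheaf.stalk (f x)) • ⊤ :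
      Submodule (Y.presheaf.stalk (f x)) (F.presheaf.stalk x)) := h.ge trivial
    refine Submodule.smul_induction_on hw (fun r hr v _ => ?_) fun v₁ v₂ h₁ h₂ => add_mem h₁ h₂
    exact Submodule.smul_mem_smul (Ideal.mem_map_of_mem _ hr) trivial
  obtain ⟨q, hq, hqs⟩ := exists_support_over (Y.presheaf.stalk (f x)) (X.presheaf.stalk x)
    (F.presheaf.stalk x) p.asIdeal
  refine ⟨X.fromSpecStalk x q, Scheme.range_fromSpecStalk.le ⟨q, rfl⟩, ?_, ?_⟩
  · rw [← Scheme.Hom.comp_apply, ← Scheme.SpecMap_stalkMap_fromSpecStalk, Scheme.Hom.comp_apply]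
    exact congrArg _ (PrimeSpectrum.ext hq)
  · obtain ⟨_, ⟨U, hU, rfl⟩, hxU, -⟩ :=
      X.isBasis_affineOpens.exists_subset_of_mem_open (Set.mem_univ x) isOpen_univ
    rw [← hU.fromSpecStalk_eq_fromSpecStalk hxU, IsAffineOpen.fromSpecStalk, Scheme.Hom.comp_apply]
    set r := Spec.map (X.presheaf.germ U x hxU) q with hr
    have ha : hU.fromSpec r ∈ U := hU.range_fromSpec.le ⟨r, rfl⟩
    have hprime : primeAt hU ha = q.asIdeal.comap (X.presheaf.germ U x hxU).hom := by
      rw [primeAt_fromSpec hU r ha, hr]; rfl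
    intro hsub
    obtain ⟨n, hn⟩ := Module.mem_support_iff'.1 hqs
    obtain ⟨g, s, hg, hs⟩ := exists_smul_stalk_eq_germ F hU hxU n
    obtain ⟨h, hh, hhs⟩ := exists_smul_eq_zero_of_germ F hU ha s (Subsingleton.elim _ _)
    have h1 := (notMem_primeAt_iff hU ha h).2 hh
    rw [hprime, Ideal.mem_comap] at h1
    refine hn (X.presheaf.germ U x hxU h * X.presheaf.germ U x hxU g) (fun hc => ?_) ?_
    · rcases q.isPrime.mem_or_mem hc with hc | hc
      · exact h1 hc
      · exact q.isPrime.ne_top (Ideal.eq_top_of_isUnit_mem _ hc ((Scheme.mem_basicOpen _ _ _ hxU).1 hg))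
    · rw [mul_smul, hs, ← germ_smul', hhs, map_zero]

end Groth.Agent.AssSch12
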